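import Cfsg.Agent.Lib.Presented.Fi22Unitary.Iso
import Cfsg.Agent.Lib.ThreeTrans.FischerTypes

/-!
The point stabiliser in the presented Fischer group is a non-split double cover of `PSU₆(2)`.
-/
set_option autoImplicit false
set_option linter.unusedSectionVars false

namespace CfsgLib.Presented.Fi22Unitary

open Fi22UCosets (ev phi rep_valid H)
open Fi22UCert (rep)
open CfsgLib.ClassicalGroups CfsgLib.ThreeTrans.USix

/-- The word of a list of transpositions. -/
def expand (ks : List ℕ) : List ℕ := ks.flatMap fun k => gWords.getD k []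

/-- Pairs of transpositions with product of order three, linking all eight. -/
def links : List (ℕ × ℕ) :=
  [(0, 1), (1, 2), (2, 3), (3, 4), (1, 5), (5, 6), (linkIdx, 7)]

theorem links_ok : links.all (fun d => Nat.blt d.1 8 && Nat.blt d.2 8 &&
    rep.relsOK [expand [d.1, d.2, d.1, d.2, d.1, d.2]]) = true := by decide +kernel

theorem sq_ok : (rep.relsOK [wpow (expand sqWord) sqExp ++ [0]] && sqWord.all (fun k => Nat.blt k 8) &&
    (sqWord.length % 2 == 0)) = true := by
  decide +kernel

theorem words_ok : ((List.range 8).all fun k => (gWords.getD k []).all (fun y => Nat.blt y rep.A.eps) &&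
    (Vec.applyNet (rep.netW (gWords.getD k [])) 1).testBit 0 &&
    rep.relsOK [gWords.getD k [] ++ gWords.getD k []]) = true := by decide +kernel

theorem d0_ne_one : d0 ≠ 1 := by
  intro h
  have h1 : phi d0 = 1 := by rw [h, map_one]
  rw [← d0_eq, phi_word [0] (by decide +kernel)] at h1
  have h2 : (Vec.applyNet (rep.netW [0]) (1 <<< 1)).testBit 1 = false := by decide +kernel
  have h3 := Rep.netW_perm rep_valid [0] ⟨1, by decide +kernel⟩
  rw [h1, Equiv.Perm.one_apply] at h3
  rw [Vec.testBit_applyNet (Rep.netOk_netW rep_valid [0]), ← h3] at h2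
  exact absurd h2 (by decide)

theorem card_H : Nat.card H = 18393661440 := by
  have h := H.card_mul_index
  rw [Fi22UCosets.index_eq, Fi22Order.card_eq] at h
  exact Nat.eq_of_mul_eq_mul_right (by norm_num) (h.trans (by norm_num : (64561751654400 : ℕ) = 18393661440 * 3510))

theorem card_psu {F : Type*} [Field F] [Fintype F] (hF : Fintype.card F = 2 ^ 2) :
    Nat.card (Cfsg.PSU 6 F 2) = 9196830720 := by
  have h1 := card_SU_mul (q := 2) hF (n := 6) (by norm_num)
  have h2 := card_SU_eq_center_mul_PSU (F := F) (q := 2) 6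
  rw [card_center_SU hF (by norm_num)] at h2
  rw [card_GU hF 6, h2] at h1
  simp [Finset.prod_range_succ, Nat.even_add_one, Nat.gcd] at h1
  omega

theorem g_mem {k : ℕ} (hk : k < 8) : evW ev (gWords.getD k []) ∈ H := by
  have hb := List.all_eq_true.1 words_ok k (List.mem_range.2 hk)
  simp only [Bool.and_eq_true, List.all_eq_true, Nat.blt_eq] at hb
  apply mem_H_of_fix
  rw [phi_word _ hb.1.1]
  apply Fin.ext
  rw [Rep.netW_perm rep_valid]
  have h := hb.1.2
  rw [Vec.testBit_applyNet (Rep.netOk_netW rep_valid _)] at h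
  exact VCert.one_bit h

section

variable {F : Type*} [Field F] [Fintype F] (hF : Fintype.card F = 2 ^ 2)
include hF

theorem range_spec : Nat.card res.range = 9196830720 ∧ Nat.card res.ker = 2 ∧
    Nonempty (res.range ≃* Cfsg.PSU 6 F 2) := by
  obtain ⟨w, -, -, hw⟩ := exists_omega hF
  obtain ⟨e⟩ := exists_iso hF hw
  have hle : Subgroup.closure gSet ≤ res.range := by
    rw [Subgroup.closure_le]
    rintro _ ⟨d, -, hu, rfl⟩
    exact ⟨_, rfl⟩
  have hfinH : Finite H := Nat.finite_of_card_ne_zero (by rw [card_H]; norm_num)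
  have hd0 : (⟨d0, d0_mem⟩ : H) ∈ res.ker := Equiv.ext fun i => Subtype.ext i.2.1
  have hker : 2 ≤ Nat.card res.ker := by
    have : Nontrivial res.ker := ⟨⟨⟨_, d0_mem⟩, hd0⟩, 1, fun h => d0_ne_one
      (congrArg (fun q : res.ker => ((q : H) : Cfsg.Spor.Fi22)) h)⟩
    exact Finite.one_lt_card
  have hP : Nat.card (Subgroup.closure gSet) = 9196830720 :=
    (Nat.card_congr e.toEquiv).trans (card_psu hF)
  have hmul : Nat.card res.ker * Nat.card res.range = 18393661440 := by
    rw [← card_H, ← Subgroup.index_ker, Subgroup.card_mul_index]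
  have hrange : Nat.card res.range = 9196830720 := by
    have h1 := Subgroup.card_le_of_le hle
    have h2 : 2 * Nat.card res.range ≤ 18393661440 := hmul ▸ Nat.mul_le_mul_right _ hker
    omega
  refine ⟨hrange, ?_, ⟨(MulEquiv.subgroupCongr
    (Subgroup.eq_of_le_of_card_ge hle (by rw [hrange, hP])).symm).trans e⟩⟩
  rw [hrange] at hmul
  exact Nat.eq_of_mul_eq_mul_right (by norm_num) (hmul.trans (by norm_num : (18393661440 : ℕ) = 2 * 9196830720))

theorem center_eq : Subgroup.center H = res.ker := by
  obtain ⟨-, hker, ⟨e⟩⟩ := range_spec hF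
  have hfinH : Finite H := Nat.finite_of_card_ne_zero (by rw [card_H]; norm_num)
  refine le_antisymm (fun g hg => ?_) ?_
  · have h1 : e (res.rangeRestrict g) ∈ Subgroup.center (Cfsg.PSU 6 F 2) := by
      rw [Subgroup.mem_center_iff]
      intro q
      obtain ⟨r, rfl⟩ := e.surjective q
      obtain ⟨s, rfl⟩ := res.rangeRestrict_surjective r
      rw [← map_mul, ← map_mul, ← map_mul, ← map_mul, Subgroup.mem_center_iff.1 hg s]
    rw [CfsgLib.ThreeTrans.psu_six_center hF, Subgroup.mem_bot, MulEquiv.map_eq_one_iff] at h1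
    exact congrArg Subtype.val h1
  · have hd0 : (⟨d0, d0_mem⟩ : H) ∈ res.ker := Equiv.ext fun i => Subtype.ext i.2.1
    intro g hg
    obtain ⟨a, b, hab, huniv⟩ := Nat.card_eq_two_iff.1 hker
    have key : ∀ q : res.ker, q = 1 ∨ q = ⟨_, hd0⟩ := by
      intro q
      have hne : (⟨_, hd0⟩ : res.ker) ≠ 1 := fun h => d0_ne_one
        (congrArg (fun q : res.ker => ((q : H) : Cfsg.Spor.Fi22)) h)
      have hm : ∀ q : res.ker, q = a ∨ q = b := fun q => by simpa [← huniv] using Set.mem_univ q
      rcases hm q with h1 | h1 <;> rcases hm 1 with h2 | h2 <;> rcases hm ⟨_, hd0⟩ with h3 | h3 <;>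
        first
          | exact Or.inl (h1.trans h2.symm)
          | exact Or.inr (h1.trans h3.symm)
          | exact absurd (h3.trans h2.symm) hne
    rcases key ⟨g, hg⟩ with h | h
    · rw [show g = 1 from congrArg Subtype.val h]
      exact Subgroup.one_mem _
    · rw [show g = ⟨d0, d0_mem⟩ from congrArg Subtype.val h, Subgroup.mem_center_iff]
      exact fun q => Subtype.ext (d0_comm q.2)

theorem doubleCover : Cfsg.IsNonsplitDoubleCover H (Cfsg.PSU 6 F 2) := by
  obtain ⟨-, hker, ⟨e⟩⟩ := range_spec hF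
  have hc := center_eq hF
  refine ⟨by rw [hc]; exact hker, ⟨((QuotientGroup.quotientMulEquivOfEq hc).trans
    (QuotientGroup.quotientKerEquivRange res)).trans e⟩, fun L hL => ?_⟩
  have hidx : L.index = 2 := by rw [hL.index_eq_card, hc, hker]
  have := L.normal_of_index_eq_two hidx
  have hsq : ∀ x : H ⧸ L, x * x = 1 := by
    intro x
    obtain ⟨x, rfl⟩ := QuotientGroup.mk_surjective x
    rw [← QuotientGroup.mk_mul, QuotientGroup.eq_one_iff]
    exact Subgroup.mul_self_mem_of_index_two hidx x
  have hcomm : ∀ x y : H ⧸ L, x * y = y * x := fun x y => by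
    have hx : x⁻¹ = x := inv_eq_of_mul_eq_one_left (hsq x)
    have hy : y⁻¹ = y := inv_eq_of_mul_eq_one_left (hsq y)
    have hxy : (x * y)⁻¹ = x * y := inv_eq_of_mul_eq_one_left (hsq (x * y))
    rw [mul_inv_rev, hx, hy] at hxy
    exact hxy.symm
  have hwords := words_ok
  simp only [List.all_eq_true, List.mem_range, Bool.and_eq_true, Nat.blt_eq] at hwords
  let v : ℕ → H ⧸ L := fun k =>
    if h : k < 8 then QuotientGroup.mk (⟨_, g_mem h⟩ : H) else 1
  have hexp : ∀ ks : List ℕ, (∀ k ∈ ks, k < 8) →
      ∃ h : evW ev (expand ks) ∈ H, QuotientGroup.mk (⟨_, h⟩ : H) = (ks.map v).prod := by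
    intro ks
    induction ks with
    | nil =>
      intro _
      exact ⟨by simp [expand], (congrArg QuotientGroup.mk (Subtype.ext (by simp [expand]) :
        (⟨_, _⟩ : H) = 1)).trans rfl⟩
    | cons k ks ih =>
      intro hks
      obtain ⟨h, he⟩ := ih fun y hy => hks y (List.mem_cons_of_mem _ hy)
      have hk := hks k List.mem_cons_self
      have e1 : evW ev (expand (k :: ks)) = evW ev (gWords.getD k []) * evW ev (expand ks) := by
        rw [expand, List.flatMap_cons, evW_append]
        rfl
      refine ⟨e1 ▸ H.mul_mem (g_mem hk) h, ?_⟩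
      rw [List.map_cons, List.prod_cons, ← he, show v k = _ from dif_pos hk, ← QuotientGroup.mk_mul]
      exact congrArg QuotientGroup.mk (Subtype.ext e1)
  have hrel : ∀ w, rep.relsOK [w] = true → evW ev w = 1 := fun w h => eq_one_of_relsOK (fun y hy => by
    have h' := h
    simp only [Rep.relsOK, List.all_eq_true, Bool.and_eq_true, List.mem_singleton, forall_eq] at h'
    have := h'.1 y hy
    rwa [Nat.blt_eq] at this) h
  have hlink : ∀ d ∈ links, v d.1 = v d.2 := by
    intro d hd
    have hb := List.all_eq_true.1 links_ok d hd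
    simp only [Bool.and_eq_true, Nat.blt_eq] at hb
    obtain ⟨h, he⟩ := hexp [d.1, d.2, d.1, d.2, d.1, d.2] (fun k hk => by
      simp only [List.mem_cons, List.not_mem_nil, or_false] at hk
      rcases hk with rfl | rfl | rfl | rfl | rfl | rfl <;> first | exact hb.1.1 | exact hb.1.2)
    rw [show (⟨_, h⟩ : H) = 1 from Subtype.ext (hrel _ hb.2), QuotientGroup.mk_one] at he
    simp only [List.map_cons, List.map_nil, List.prod_cons, List.prod_nil, mul_one] at he
    have hq : (v d.1 * v d.2) * ((v d.1 * v d.2) * (v d.1 * v d.2)) = 1 := by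
      rw [he]
      simp only [mul_assoc]
    rw [hsq, mul_one] at hq
    rw [← mul_one (v d.1), ← hsq (v d.2), ← mul_assoc, hq, one_mul]
  have hall : ∀ k < 8, v k = v 0 := by
    have e0 := hlink (0, 1) (by decide +kernel)
    have e1 := hlink (1, 2) (by decide +kernel)
    have e2 := hlink (2, 3) (by decide +kernel)
    have e3 := hlink (3, 4) (by decide +kernel)
    have e5 := hlink (1, 5) (by decide +kernel)
    have e6 := hlink (5, 6) (by decide +kernel)
    have e7 := hlink (linkIdx, 7) (by decide +kernel)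
    have hl : linkIdx < 7 := by decide +kernel
    have h7 : ∀ k < 7, v k = v 0 := by
      intro k hk
      interval_cases k
      · rfl
      · exact e0.symm
      · exact (e0.trans e1).symm
      · exact ((e0.trans e1).trans e2).symm
      · exact (((e0.trans e1).trans e2).trans e3).symm
      · exact (e0.trans e5).symm
      · exact ((e0.trans e5).trans e6).symm
    intro k hk
    rcases Nat.lt_or_ge k 7 with h | h
    · exact h7 k h
    · obtain rfl : k = 7 := by omega
      exact e7.symm.trans (h7 _ hl)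
  have hsq' := sq_ok
  simp only [Bool.and_eq_true, List.all_eq_true, Nat.blt_eq, beq_iff_eq] at hsq'
  obtain ⟨⟨hpow, hks⟩, heven⟩ := hsq'
  obtain ⟨hmem, he⟩ := hexp sqWord hks
  have hprod : (sqWord.map v).prod = 1 := by
    rw [List.map_congr_left (g := fun _ => v 0) fun k hk => hall k (hks k hk), List.map_const',
      List.prod_replicate, ← Nat.div_add_mod sqWord.length 2, heven, add_zero, pow_mul, pow_two,
      hsq, one_pow]
  have h1 := hrel _ hpow
  rw [evW_append, evW_wpow, d0_eq] at h1
  have hd0 : (⟨d0, d0_mem⟩ : H) = (⟨_, hmem⟩ : H) ^ sqExp := Subtype.ext (by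
    rw [SubmonoidClass.coe_pow]
    exact ((eq_inv_of_mul_eq_one_left h1).trans (inv_eq_of_mul_eq_one_left d0_sq)).symm)
  have hdL : (⟨d0, d0_mem⟩ : H) ∈ L := by
    rw [← QuotientGroup.eq_one_iff, hd0, QuotientGroup.mk_pow, he, hprod, one_pow]
  have hdC : (⟨d0, d0_mem⟩ : H) ∈ Subgroup.center H :=
    Subgroup.mem_center_iff.2 fun q => Subtype.ext (d0_comm q.2)
  have := Subgroup.mem_bot.1 (hL.disjoint.le_bot ⟨hdC, hdL⟩)
  exact d0_ne_one (congrArg Subtype.val this)

end

end CfsgLib.Presented.Fi22Unitary
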