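import Cfsg.Agent.Lib.ThreeTrans.UnitarySix

/-!
Vectors of six coordinates over the field with four elements coded by twelve bits.
-/
set_option autoImplicit false
set_option linter.unusedSectionVars false

namespace CfsgLib.Presented.Fi22Unitary

open CfsgLib.ClassicalGroups CfsgLib.ThreeTrans.USix

/-- The low bits of the six coordinates. -/
def loMask : ℕ := 0x555

/-- A coordinate-wise product with `ω`. -/
noncomputable def smulW (v : ℕ) : ℕ :=
  ((v >>> 1) &&& loMask) ^^^ (((v &&& loMask) ^^^ ((v >>> 1) &&& loMask)) <<< 1)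

/-- The low bit of a term of the form. -/
noncomputable def hLo1 (u v i : ℕ) : Bool :=
  ((u.testBit (2 * i) && v.testBit (2 * i)) ^^ (u.testBit (2 * i) && v.testBit (2 * i + 1))) ^^
    (u.testBit (2 * i + 1) && v.testBit (2 * i + 1))

/-- The high bit of a term of the form. -/
noncomputable def hHi1 (u v i : ℕ) : Bool :=
  (u.testBit (2 * i) && v.testBit (2 * i + 1)) ^^ (u.testBit (2 * i + 1) && v.testBit (2 * i))

/-- The low bit of the form. -/
noncomputable def hLo (u v : ℕ) : Bool :=
  hLo1 u v 0 ^^ hLo1 u v 1 ^^ hLo1 u v 2 ^^ hLo1 u v 3 ^^ hLo1 u v 4 ^^ hLo1 u v 5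

/-- The high bit of the form. -/
noncomputable def hHi (u v : ℕ) : Bool :=
  hHi1 u v 0 ^^ hHi1 u v 1 ^^ hHi1 u v 2 ^^ hHi1 u v 3 ^^ hHi1 u v 4 ^^ hHi1 u v 5

/-- An isotropic code. -/
noncomputable def isoOK (v : ℕ) : Bool := !hLo v v && !hHi v v

/-- The transvection at `v` applied to `u`. -/
noncomputable def tvCode (v u : ℕ) : ℕ :=
  u ^^^ cond (hLo u v) v 0 ^^^ cond (hHi u v) (smulW v) 0

/-- Equal up to a non-zero scalar. -/
noncomputable def sameLine (a b : ℕ) : Bool := a == b || a == smulW b || a == smulW (smulW b)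

section Field

variable {F : Type*} [Field F] [Fintype F]

/-- The element `a + b ω`. -/
def el (w : F) (a b : Bool) : F := (cond a 1 0) + cond b w 0

/-- The vector of a code. -/
def vec (w : F) (c : ℕ) : Fin 6 → F := fun i => el w (c.testBit (2 * i.1)) (c.testBit (2 * i.1 + 1))

variable (hF : Fintype.card F = 2 ^ 2) {w : F} (hw : 1 + w + w ^ 2 = 0)
include hF hw

theorem w_sq : w ^ 2 = 1 + w := by
  have h2 := two_eq_zero hF
  linear_combination hw - (1 + w) * h2

theorem w_ne_zero : w ≠ 0 := fun h => by simp [h] at hw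

theorem el_xor (a b c d : Bool) : el w (a ^^ c) (b ^^ d) = el w a b + el w c d := by
  have h2 := two_eq_zero hF
  cases a <;> cases b <;> cases c <;> cases d <;> simp [el] <;>
    first
      | linear_combination (-1 : F) * h2
      | linear_combination (-w) * h2
      | linear_combination (-1 - w) * h2
      | ring1

theorem el_smul (a b : Bool) : el w b (a ^^ b) = w * el w a b := by
  have hs := w_sq hF hw
  have h2 := two_eq_zero hF
  cases a <;> cases b <;> simp [el] <;>
    first
      | ring1
      | linear_combination (-1 : F) * hs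
      | linear_combination -hs - w * h2

theorem el_mul (a b c d : Bool) :
    el w ((a && c) ^^ (b && d)) (((a && d) ^^ (b && c)) ^^ (b && d)) = el w a b * el w c d := by
  have hW := el_smul hF hw c d
  have hX := el_xor hF hw c d d (c ^^ d)
  cases a <;> cases b
  · simp [el]
  · simpa [el] using hW
  · simp [el]
  · have e : el w true true * el w c d = el w c d + el w d (c ^^ d) := by
      rw [hW, show el w true true = (1 : F) + w from rfl]
      ring
    rw [e, ← hX]
    cases c <;> cases d <;> rfl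

theorem el_sq (c d : Bool) : el w (c ^^ d) d = el w c d ^ 2 := by
  have hs := w_sq hF hw
  cases c <;> cases d <;> simp [el]
  · linear_combination (-1 : F) * hs
  · linear_combination (-1 : F) * hw

theorem el_term (a b c d : Bool) :
    el w (((a && c) ^^ (a && d)) ^^ (b && d)) ((a && d) ^^ (b && c)) = el w a b * el w c d ^ 2 := by
  rw [← el_sq hF hw, ← el_mul hF hw]
  cases a <;> cases b <;> cases c <;> cases d <;> rfl

theorem el_injective {a b c d : Bool} (h : el w a b = el w c d) : a = c ∧ b = d := by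
  have hw0 := w_ne_zero hF hw
  have hx : el w (a ^^ c) (b ^^ d) = 0 := by
    rw [el_xor hF hw, h]
    exact add_self' hF _
  have h1w : (1 : F) + w ≠ 0 := fun e => hw0 (by
    have hs := w_sq hF hw
    rw [e] at hs
    exact pow_eq_zero_iff two_ne_zero |>.1 hs)
  revert hx
  cases a <;> cases b <;> cases c <;> cases d <;> simp [el, hw0, h1w]

theorem el_surjective (x : F) : ∃ a b, el w a b = x := by
  have hinj : Function.Injective (fun p : Bool × Bool => el w p.1 p.2) := fun p q h => by
    obtain ⟨h1, h2⟩ := el_injective hF hw h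
    exact Prod.ext h1 h2
  have hbij := (Fintype.bijective_iff_injective_and_card (fun p : Bool × Bool => el w p.1 p.2)).2
    ⟨hinj, by rw [hF]; rfl⟩
  obtain ⟨⟨a, b⟩, h⟩ := hbij.2 x
  exact ⟨a, b, h⟩

theorem vec_xor (u v : ℕ) : vec w (u ^^^ v) = vec w u + vec w v := by
  funext i
  simp only [vec, Pi.add_apply, Nat.testBit_xor, ← el_xor hF hw]

theorem vec_zero : vec w 0 = (0 : Fin 6 → F) := by
  funext i
  simp [vec, el]

theorem vec_smulW (v : ℕ) : vec w (smulW v) = w • vec w v := by
  funext i
  have hm0 : ∀ j < 6, loMask.testBit (2 * j) = true ∧ loMask.testBit (2 * j + 1) = false := by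
    decide +kernel
  have hm1 : ∀ j < 7, j ≠ 0 → loMask.testBit (2 * j - 1) = false := by decide +kernel
  have elo : (smulW v).testBit (2 * i.1) = v.testBit (2 * i.1 + 1) := by
    simp only [smulW, Nat.testBit_xor, Nat.testBit_and, Nat.testBit_shiftRight, Nat.testBit_shiftLeft,
      (hm0 i.1 i.2).1, Bool.and_true, Nat.add_comm 1]
    rcases Nat.eq_zero_or_pos i.1 with h0 | h0
    · simp [h0]
    · simp [hm1 i.1 (by omega) (by omega)]
  have ehi : (smulW v).testBit (2 * i.1 + 1) = (v.testBit (2 * i.1) ^^ v.testBit (2 * i.1 + 1)) := by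
    simp only [smulW, Nat.testBit_xor, Nat.testBit_and, Nat.testBit_shiftRight, Nat.testBit_shiftLeft,
      (hm0 i.1 i.2).2, Bool.and_false, Bool.false_bne, Nat.add_sub_cancel, (hm0 i.1 i.2).1,
      Bool.and_true, Nat.add_comm 1]
    simp
  simp only [vec, Pi.smul_apply, smul_eq_mul, elo, ehi, el_smul hF hw]

theorem herm_vec (u v : ℕ) :
    Cfsg.hermForm 6 F 2 (vec w u) (vec w v) = el w (hLo u v) (hHi u v) := by
  simp only [Cfsg.hermForm, Fin.sum_univ_six, hLo, hHi, el_xor hF hw, vec, hLo1, hHi1]
  simp only [← el_xor hF hw, el_term hF hw]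
  rfl

theorem vec_tvCode (v u : ℕ) :
    vec w (tvCode v u) = vec w u + Cfsg.hermForm 6 F 2 (vec w u) (vec w v) • vec w v := by
  rw [tvCode, vec_xor hF hw, vec_xor hF hw, herm_vec hF hw, add_assoc]
  congr 1
  cases hLo u v <;> cases hHi u v <;>
    simp [el, vec_zero hF hw, vec_smulW hF hw, add_smul]

theorem sameLine_spec {a b : ℕ} (h : sameLine a b = true) : ∃ c : F, c ≠ 0 ∧ vec w a = c • vec w b := by
  simp only [sameLine, Bool.or_eq_true, beq_iff_eq] at h
  rcases h with (rfl | rfl) | rfl
  · exact ⟨1, one_ne_zero, (one_smul _ _).symm⟩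
  · exact ⟨w, w_ne_zero hF hw, vec_smulW hF hw _⟩
  · exact ⟨w * w, mul_ne_zero (w_ne_zero hF hw) (w_ne_zero hF hw), by
      rw [vec_smulW hF hw, vec_smulW hF hw, smul_smul]⟩

theorem vec_injective {a b : ℕ} (ha : a < 4096) (hb : b < 4096) (h : vec w a = vec w b) : a = b := by
  refine Nat.eq_of_testBit_eq fun m => ?_
  rcases Nat.lt_or_ge m 12 with hm | hm
  · obtain ⟨h1, h2⟩ := el_injective hF hw (congrFun h ⟨m / 2, by omega⟩)
    rcases Nat.mod_two_eq_zero_or_one m with e | e
    · rwa [show 2 * (m / 2) = m by omega] at h1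
    · rwa [show 2 * (m / 2) + 1 = m by omega] at h2
  · have h4 : (4096 : ℕ) ≤ 2 ^ m := le_trans (by norm_num) (Nat.pow_le_pow_right (by norm_num) hm)
    rw [Nat.testBit_lt_two_pow (ha.trans_le h4), Nat.testBit_lt_two_pow (hb.trans_le h4)]

theorem vec_surjective (x : Fin 6 → F) : ∃ c < 4096, vec w c = x := by
  choose a b hab using fun i => el_surjective hF hw (x i)
  let f : Fin 12 → Bool := fun m =>
    if m.1 % 2 = 0 then a ⟨m.1 / 2, by omega⟩ else b ⟨m.1 / 2, by omega⟩
  refine ⟨Nat.ofBits f, Nat.ofBits_lt_two_pow f, funext fun i => ?_⟩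
  have e0 : (Nat.ofBits f).testBit (2 * i.1) = a i := by
    rw [Nat.testBit_ofBits_lt f _ (by omega)]
    simp only [f, Nat.mul_mod_right, if_true, Nat.mul_div_cancel_left _ two_pos]
  have e1 : (Nat.ofBits f).testBit (2 * i.1 + 1) = b i := by
    rw [Nat.testBit_ofBits_lt f _ (by omega)]
    simp only [f, show (2 * i.1 + 1) % 2 = 1 by omega, show (2 * i.1 + 1) / 2 = i.1 by omega]
    simp
  rw [← hab i]
  simp only [vec, e0, e1]

theorem scalar_cases {c : F} (hc : c ≠ 0) : c = 1 ∨ c = w ∨ c = w * w := by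
  obtain ⟨a, b, rfl⟩ := el_surjective hF hw c
  cases a <;> cases b <;> simp [el] at hc ⊢
  rw [← pow_two, w_sq hF hw]
  simp

end Field

end CfsgLib.Presented.Fi22Unitary
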