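import Cfsg.Agent.Lib.Presented.Fi22Unitary.Data
import Cfsg.Agent.Lib.Presented.Fi22Unitary.Field
import Cfsg.Agent.Lib.Presented.Cert.Fi22UCert

/-!
Kernel evaluation of the correspondence between fixed points and isotropic points.
-/
set_option autoImplicit false
set_option Elab.async false
set_option maxRecDepth 20000

namespace CfsgLib.Presented.Fi22Unitary

open CfsgLib.Sporadic (Tr allFrom)
open Fi22UCert (rep)

/-- The point is fixed by the first generator and is not the base point. -/
noncomputable def inA (i : ℕ) : Bool :=
  Nat.beq (Vec.applyNet (rep.net 0) (1 <<< i)) (1 <<< i) && !(i == 0)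

/-- The code of a point is an isotropic vector found again by the inverse table on its whole line. -/
noncomputable def pointOK (i : ℕ) : Bool :=
  !inA i || (Nat.blt (codeT.get i) 4096 && !(codeT.get i == 0) && isoOK (codeT.get i) &&
    invT.get (codeT.get i) == i && invT.get (smulW (codeT.get i)) == i &&
    invT.get (smulW (smulW (codeT.get i))) == i)

/-- An isotropic vector lies on the line of a point. -/
noncomputable def coverVecOK (c : ℕ) : Bool :=
  c == 0 || !isoOK c || (Nat.blt (invT.get c) rep.N && inA (invT.get c) &&
    sameLine c (codeT.get (invT.get c)))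

/-- A transposition moves the point as its transvection moves the vector. -/
noncomputable def moveVecOK (v : ℕ) (u : List ℕ) (i : ℕ) : Bool :=
  !inA i || (Nat.blt (invT.get (tvCode v (codeT.get i))) rep.N &&
    inA (invT.get (tvCode v (codeT.get i))) &&
    sameLine (tvCode v (codeT.get i)) (codeT.get (invT.get (tvCode v (codeT.get i)))) &&
    Nat.beq (Vec.applyNet (rep.netW u) (1 <<< i)) (1 <<< invT.get (tvCode v (codeT.get i))))

/-- The checks on a transposition. -/
noncomputable def genCheck (d : ℕ × List ℕ) : Bool :=
  Nat.blt d.1 4096 && !(d.1 == 0) && isoOK d.1 && d.2.all (fun y => Nat.blt y rep.A.eps) &&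
    (Vec.applyNet (rep.netW d.2) 1).testBit 0 && rep.relsOK [d.2 ++ d.2]

/-- Each point reached comes from an earlier one by a transposition. -/
noncomputable def reachOK (t : ℕ) : Bool :=
  inA (ordT.get t) && Nat.blt (ordT.get t) rep.N &&
    ((t == 0 && sameLine (codeT.get (ordT.get t)) (gVecs.getD 0 0)) ||
      (Nat.blt (parT.get t % 693) t && Nat.blt (parT.get t / 693) 8 &&
        sameLine (codeT.get (ordT.get t))
          (tvCode (gVecs.getD (parT.get t / 693) 0) (codeT.get (ordT.get (parT.get t % 693))))))

/-- Every point is reached. -/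
noncomputable def posOK (i : ℕ) : Bool :=
  !inA i || (Nat.blt (posT.get i) 693 && ordT.get (posT.get i) == i)

theorem points_ok : allFrom 0 3510 pointOK = true := by decide +kernel
theorem cover_ok : allFrom 0 4096 coverVecOK = true := by decide +kernel
theorem move_ok0 : allFrom 0 3510 (moveVecOK (gVecs.getD 0 0) (gWords.getD 0 [])) = true := by decide +kernel
theorem move_ok1 : allFrom 0 3510 (moveVecOK (gVecs.getD 1 0) (gWords.getD 1 [])) = true := by decide +kernel
theorem move_ok2 : allFrom 0 3510 (moveVecOK (gVecs.getD 2 0) (gWords.getD 2 [])) = true := by decide +kernel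
theorem move_ok3 : allFrom 0 3510 (moveVecOK (gVecs.getD 3 0) (gWords.getD 3 [])) = true := by decide +kernel
theorem move_ok4 : allFrom 0 3510 (moveVecOK (gVecs.getD 4 0) (gWords.getD 4 [])) = true := by decide +kernel
theorem move_ok5 : allFrom 0 3510 (moveVecOK (gVecs.getD 5 0) (gWords.getD 5 [])) = true := by decide +kernel
theorem move_ok6 : allFrom 0 3510 (moveVecOK (gVecs.getD 6 0) (gWords.getD 6 [])) = true := by decide +kernel
theorem move_ok7 : allFrom 0 3510 (moveVecOK (gVecs.getD 7 0) (gWords.getD 7 [])) = true := by decide +kernel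
theorem moves_ok0 : ((List.zip gVecs gWords).take 4).all (fun d => allFrom 0 3510 (moveVecOK d.1 d.2)) = true := by
  rw [show (List.zip gVecs gWords).take 4 = [(gVecs.getD 0 0, gWords.getD 0 []), (gVecs.getD 1 0, gWords.getD 1 []), (gVecs.getD 2 0, gWords.getD 2 []), (gVecs.getD 3 0, gWords.getD 3 [])] from rfl]
  simp only [List.all_cons, List.all_nil, move_ok0, move_ok1, move_ok2, move_ok3, Bool.and_true]
theorem moves_ok1 : ((List.zip gVecs gWords).drop 4).all (fun d => allFrom 0 3510 (moveVecOK d.1 d.2)) = true := by
  rw [show (List.zip gVecs gWords).drop 4 = [(gVecs.getD 4 0, gWords.getD 4 []), (gVecs.getD 5 0, gWords.getD 5 []), (gVecs.getD 6 0, gWords.getD 6 []), (gVecs.getD 7 0, gWords.getD 7 [])] from rfl]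
  simp only [List.all_cons, List.all_nil, move_ok4, move_ok5, move_ok6, move_ok7, Bool.and_true]
theorem gens_ok : ((gVecs.length == 8) && (gWords.length == 8) && (List.zip gVecs gWords).all genCheck) = true := by
  decide +kernel
theorem reach_ok : allFrom 0 693 reachOK = true := by decide +kernel
theorem pos_ok : allFrom 0 3510 posOK = true := by decide +kernel

end CfsgLib.Presented.Fi22Unitary
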