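import Cfsg.Agent.Lib.Sporadic.Chain

/-! Generated correspondence between the 693 points fixed by the first generator and the
isotropic points of a six-dimensional unitary space over the field with four elements. -/

set_option autoImplicit false
set_option maxRecDepth 20000

open CfsgLib.Sporadic

namespace CfsgLib.Presented.Fi22Unitary

/-- Part of `codeT`. -/
def codeT_p0000 : Tr := .node (.node (.node (.node (.node (.node (.node (.node (.leaf 0) (.leaf 0)) (.node (.leaf 916) (.leaf 0))) (.node (.node (.leaf 0) (.leaf 0)) (.leaf 0))) (.node (.node (.node (.leaf 0) (.leaf 0)) (.node (.leaf 0) (.leaf 0))) (.node (.node (.leaf 2193) (.leaf 0)) (.leaf 0)))) (.node (.node (.node (.node (.leaf 0) (.leaf 465)) (.node (.leaf 0) (.leaf 0))) (.node (.node (.leaf 0) (.leaf 0)) (.leaf 0))) (.node (.node (.node (.leaf 0) (.leaf 2340)) (.node (.leaf 0) (.leaf 0))) (.node (.node (.leaf 0) (.leaf 0)) (.leaf 0))))) (.node (.node (.node (.node (.node (.leaf 2549)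 (.leaf 0)) (.node (.leaf 0) (.leaf 0))) (.node (.node (.leaf 0) (.leaf 596)) (.leaf 0))) (.node (.node (.node (.leaf 0) (.leaf 0)) (.node (.leaf 0) (.leaf 0))) (.node (.node (.leaf 3460) (.leaf 0)) (.leaf 0)))) (.node (.node (.node (.node (.leaf 0) (.leaf 0)) (.node (.leaf 0) (.leaf 0))) (.node (.node (.leaf 1721) (.leaf 0)) (.leaf 3097))) (.node (.node (.node (.leaf 3780) (.leaf 0)) (.leaf 0)) (.node (.node (.leaf 0) (.leaf 0)) (.leaf 0)))))) (.node (.node (.node (.node (.node (.node (.leaf 0) (.leaf 0)) (.node (.leaf 0) (.leaf 0))) (.node (.node (.leaf 628) (.leaf 0)) (.leaf 0))) (.node (.node (.node (.leaf 0) (.leaf 0)) (.node (.leaf 0) (.leaf 0))) (.node (.node (.leaf 0) (.leaf 0)) (.leaf 0)))) (.node (.node (.node (.node (.leaf 0) (.leaf 0)) (.node (.leaf 1881) (.leaf 0))) (.node (.node (.leaf 0) (.leaf 0)) (.leaf 0))) (.node (.node (.node (.leaf 0) (.leaf 0)) (.node (.leaf 0) (.leaf 0))) (.node (.node (.leaf 0) (.leaf 0)) (.leaf 0))))) (.node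 (.node (.node (.node (.node (.leaf 2677) (.leaf 0)) (.node (.leaf 0) (.leaf 0))) (.node (.node (.leaf 837) (.leaf 0)) (.leaf 0))) (.node (.node (.node (.leaf 0) (.leaf 0)) (.node (.leaf 3805) (.leaf 0))) (.node (.node (.leaf 2849) (.leaf 0)) (.leaf 0)))) (.node (.node (.node (.node (.leaf 0) (.leaf 0)) (.node (.leaf 0) (.leaf 0))) (.node (.node (.leaf 0) (.leaf 0)) (.leaf 0))) (.node (.node (.node (.leaf 0) (.leaf 0)) (.leaf 0)) (.node (.node (.leaf 0) (.leaf 0)) (.leaf 0))))))) (.node (.node (.node (.node (.node (.node (.node (.leaf 528) (.leaf 0)) (.node (.leaf 105) (.leaf 0))) (.node (.node (.leaf 0) (.leaf 0)) (.leaf 0))) (.node (.node (.node (.leaf 868) (.leaf 0)) (.node (.leaf 0) (.leaf 0))) (.node (.node (.leaf 0) (.leaf 0)) (.leaf 3408)))) (.node (.node (.node (.node (.leaf 1844) (.leaf 0)) (.node (.leaf 1945) (.leaf 0))) (.node (.node (.leaf 0) (.leaf 0)) (.leaf 0))) (.node (.node (.node (.leaf 0) (.leaf 0)) (.node (.leaf 0) (.leaf 0)))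 (.node (.node (.leaf 0) (.leaf 0)) (.leaf 0))))) (.node (.node (.node (.node (.node (.leaf 0) (.leaf 0)) (.node (.leaf 0) (.leaf 0))) (.node (.node (.leaf 0) (.leaf 0)) (.leaf 436))) (.node (.node (.node (.leaf 973) (.leaf 0)) (.node (.leaf 0) (.leaf 0))) (.node (.node (.leaf 829) (.leaf 0)) (.leaf 0)))) (.node (.node (.node (.node (.leaf 0) (.leaf 3549)) (.node (.leaf 0) (.leaf 253))) (.node (.node (.leaf 865) (.leaf 0)) (.leaf 3813))) (.node (.node (.node (.leaf 0) (.leaf 3313)) (.leaf 0)) (.node (.node (.leaf 0) (.leaf 0)) (.leaf 233)))))) (.node (.node (.node (.node (.node (.node (.leaf 1268) (.leaf 0)) (.node (.leaf 2148) (.leaf 0))) (.node (.node (.leaf 2489) (.leaf 3501)) (.leaf 0))) (.node (.node (.node (.leaf 0) (.leaf 0)) (.node (.leaf 0) (.leaf 0))) (.node (.node (.leaf 0) (.leaf 0)) (.leaf 0)))) (.node (.node (.node (.node (.leaf 0) (.leaf 0)) (.node (.leaf 2704) (.leaf 0))) (.node (.node (.leaf 3601) (.leaf 0)) (.leaf 0))) (.node (.node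 (.node (.leaf 2469) (.leaf 0)) (.node (.leaf 0) (.leaf 0))) (.node (.node (.leaf 2689) (.leaf 0)) (.leaf 0))))) (.node (.node (.node (.node (.node (.leaf 1316) (.leaf 0)) (.node (.leaf 0) (.leaf 0))) (.node (.node (.leaf 0) (.leaf 0)) (.leaf 0))) (.node (.node (.node (.leaf 0) (.leaf 0)) (.node (.leaf 33) (.leaf 0))) (.node (.node (.leaf 0) (.leaf 0)) (.leaf 0)))) (.node (.node (.node (.node (.leaf 0) (.leaf 0)) (.node (.leaf 181) (.leaf 0))) (.node (.node (.leaf 0) (.leaf 0)) (.leaf 9))) (.node (.node (.node (.leaf 0) (.leaf 0)) (.leaf 0)) (.node (.node (.leaf 1381) (.leaf 0)) (.leaf 0)))))))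

/-- Part of `codeT`. -/
def codeT_p0001 : Tr := .node (.node (.node (.node (.node (.node (.node (.node (.leaf 0) (.leaf 0)) (.node (.leaf 0) (.leaf 0))) (.node (.node (.leaf 0) (.leaf 0)) (.leaf 0))) (.node (.node (.node (.leaf 0) (.leaf 0)) (.node (.leaf 0) (.leaf 0))) (.node (.node (.leaf 0) (.leaf 0)) (.leaf 0)))) (.node (.node (.node (.node (.leaf 2793) (.leaf 0)) (.node (.leaf 0) (.leaf 0))) (.node (.node (.leaf 0) (.leaf 0)) (.leaf 0))) (.node (.node (.node (.leaf 1469) (.leaf 0)) (.node (.leaf 0) (.leaf 0))) (.node (.node (.leaf 0) (.leaf 0)) (.leaf 0))))) (.node (.node (.node (.node (.node (.leaf 0) (.leaf 0)) (.node (.leaf 0) (.leaf 0))) (.node (.node (.leaf 0) (.leaf 0)) (.leaf 0))) (.node (.node (.node (.leaf 0) (.leaf 0)) (.node (.leaf 1065) (.leaf 4085))) (.node (.node (.leaf 433) (.leaf 0)) (.leaf 0)))) (.node (.node (.node (.node (.leaf 0) (.leaf 0)) (.node (.leaf 0) (.leaf 0))) (.node (.node (.leaf 0) (.leaf 0)) (.leaf 0))) (.node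 (.node (.node (.leaf 0) (.leaf 0)) (.leaf 0)) (.node (.node (.leaf 0) (.leaf 0)) (.leaf 0)))))) (.node (.node (.node (.node (.node (.node (.leaf 245) (.leaf 0)) (.node (.leaf 0) (.leaf 0))) (.node (.node (.leaf 1921) (.leaf 0)) (.leaf 0))) (.node (.node (.node (.leaf 537) (.leaf 0)) (.node (.leaf 0) (.leaf 0))) (.node (.node (.leaf 0) (.leaf 1625)) (.leaf 0)))) (.node (.node (.node (.node (.leaf 0) (.leaf 0)) (.node (.leaf 0) (.leaf 0))) (.node (.node (.leaf 1924) (.leaf 0)) (.leaf 0))) (.node (.node (.node (.leaf 4033) (.leaf 0)) (.node (.leaf 0) (.leaf 0))) (.node (.node (.leaf 0) (.leaf 0)) (.leaf 2005))))) (.node (.node (.node (.node (.node (.leaf 0) (.leaf 0)) (.node (.leaf 3949) (.leaf 0))) (.node (.node (.leaf 0) (.leaf 0)) (.leaf 0))) (.node (.node (.node (.leaf 0) (.leaf 0)) (.node (.leaf 0) (.leaf 0))) (.node (.node (.leaf 0) (.leaf 0)) (.leaf 0)))) (.node (.node (.node (.node (.leaf 1101) (.leaf 0)) (.node (.leaf 0) (.leaf 0))) (.node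 (.node (.leaf 0) (.leaf 0)) (.leaf 0))) (.node (.node (.node (.leaf 3393) (.leaf 0)) (.leaf 0)) (.node (.node (.leaf 0) (.leaf 0)) (.leaf 0))))))) (.node (.node (.node (.node (.node (.node (.node (.leaf 0) (.leaf 0)) (.node (.leaf 0) (.leaf 0))) (.node (.node (.leaf 0) (.leaf 0)) (.leaf 0))) (.node (.node (.node (.leaf 0) (.leaf 0)) (.node (.leaf 0) (.leaf 0))) (.node (.node (.leaf 1329) (.leaf 0)) (.leaf 0)))) (.node (.node (.node (.node (.leaf 1973) (.leaf 0)) (.node (.leaf 3109) (.leaf 0))) (.node (.node (.leaf 0) (.leaf 0)) (.leaf 0))) (.node (.node (.node (.leaf 0) (.leaf 0)) (.node (.leaf 0) (.leaf 0))) (.node (.node (.leaf 0) (.leaf 0)) (.leaf 0))))) (.node (.node (.node (.node (.node (.leaf 1529) (.leaf 0)) (.node (.leaf 0) (.leaf 2525))) (.node (.node (.leaf 0) (.leaf 0)) (.leaf 0))) (.node (.node (.node (.leaf 1108) (.leaf 0)) (.node (.leaf 0) (.leaf 0))) (.node (.node (.leaf 0) (.leaf 0)) (.leaf 0)))) (.node (.node (.node (.node (.leaf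 393) (.leaf 0)) (.node (.leaf 0) (.leaf 0))) (.node (.node (.leaf 0) (.leaf 0)) (.leaf 0))) (.node (.node (.node (.leaf 4077) (.leaf 0)) (.leaf 0)) (.node (.node (.leaf 0) (.leaf 0)) (.leaf 0)))))) (.node (.node (.node (.node (.node (.node (.leaf 0) (.leaf 0)) (.node (.leaf 0) (.leaf 0))) (.node (.node (.leaf 3345) (.leaf 0)) (.leaf 0))) (.node (.node (.node (.leaf 3517) (.leaf 0)) (.node (.leaf 0) (.leaf 0))) (.node (.node (.leaf 0) (.leaf 0)) (.leaf 0)))) (.node (.node (.node (.node (.leaf 3053) (.leaf 1773)) (.node (.leaf 0) (.leaf 0))) (.node (.node (.leaf 3709) (.leaf 0)) (.leaf 0))) (.node (.node (.node (.leaf 565) (.leaf 0)) (.leaf 0)) (.node (.node (.leaf 0) (.leaf 0)) (.leaf 0))))) (.node (.node (.node (.node (.node (.leaf 1533) (.leaf 0)) (.node (.leaf 0) (.leaf 0))) (.node (.node (.leaf 0) (.leaf 0)) (.leaf 0))) (.node (.node (.node (.leaf 0) (.leaf 0)) (.node (.leaf 0) (.leaf 0))) (.node (.node (.leaf 0) (.leaf 3577)) (.leaf 13)))) (.node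 (.node (.node (.node (.leaf 2425) (.leaf 0)) (.node (.leaf 3156) (.leaf 0))) (.node (.node (.leaf 320) (.leaf 0)) (.leaf 0))) (.node (.node (.node (.leaf 576) (.leaf 0)) (.leaf 0)) (.node (.node (.leaf 1744) (.leaf 0)) (.leaf 1872)))))))

/-- Part of `codeT`. -/
def codeT_p0010 : Tr := .node (.node (.node (.node (.node (.node (.node (.node (.leaf 0) (.leaf 0)) (.node (.leaf 1805) (.leaf 0))) (.node (.node (.leaf 0) (.leaf 0)) (.leaf 3037))) (.node (.node (.node (.leaf 0) (.leaf 0)) (.node (.leaf 0) (.leaf 0))) (.node (.node (.leaf 0) (.leaf 0)) (.leaf 0)))) (.node (.node (.node (.node (.leaf 0) (.leaf 0)) (.node (.leaf 0) (.leaf 0))) (.node (.node (.leaf 0) (.leaf 1497)) (.leaf 1685))) (.node (.node (.node (.leaf 0) (.leaf 0)) (.node (.leaf 1893) (.leaf 0))) (.node (.node (.leaf 0) (.leaf 0)) (.leaf 0))))) (.node (.node (.node (.node (.node (.leaf 1493) (.leaf 0)) (.node (.leaf 0) (.leaf 0))) (.node (.node (.leaf 0) (.leaf 2025)) (.leaf 2245)))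 (.node (.node (.node (.leaf 0) (.leaf 0)) (.node (.leaf 2077) (.leaf 0))) (.node (.node (.leaf 2409) (.leaf 0)) (.leaf 0)))) (.node (.node (.node (.node (.leaf 196) (.leaf 36)) (.node (.leaf 0) (.leaf 0))) (.node (.node (.leaf 2565) (.leaf 0)) (.leaf 0))) (.node (.node (.node (.leaf 0) (.leaf 772)) (.leaf 0)) (.node (.node (.leaf 0) (.leaf 0)) (.leaf 2089)))))) (.node (.node (.node (.node (.node (.node (.leaf 0) (.leaf 0)) (.node (.leaf 3929) (.leaf 0))) (.node (.node (.leaf 277) (.leaf 0)) (.leaf 0))) (.node (.node (.node (.leaf 333) (.leaf 0)) (.node (.leaf 0) (.leaf 0))) (.node (.node (.leaf 0) (.leaf 0)) (.leaf 1249)))) (.node (.node (.node (.node (.leaf 0) (.leaf 0)) (.node (.leaf 0) (.leaf 0))) (.node (.node (.leaf 1360) (.leaf 0)) (.leaf 0))) (.node (.node (.node (.leaf 0) (.leaf 0)) (.node (.leaf 1488) (.leaf 0))) (.node (.node (.leaf 0) (.leaf 0)) (.leaf 0))))) (.node (.node (.node (.node (.node (.leaf 0) (.leaf 2821)) (.node (.leaf 0)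 (.leaf 0))) (.node (.node (.leaf 1429) (.leaf 0)) (.leaf 2000))) (.node (.node (.node (.leaf 0) (.leaf 0)) (.node (.leaf 0) (.leaf 0))) (.node (.node (.leaf 1433) (.leaf 0)) (.leaf 0)))) (.node (.node (.node (.node (.leaf 0) (.leaf 0)) (.node (.leaf 0) (.leaf 0))) (.node (.node (.leaf 0) (.leaf 0)) (.leaf 1769))) (.node (.node (.node (.leaf 0) (.leaf 0)) (.leaf 0)) (.node (.node (.leaf 805) (.leaf 0)) (.leaf 0))))))) (.node (.node (.node (.node (.node (.node (.node (.leaf 0) (.leaf 0)) (.node (.leaf 0) (.leaf 0))) (.node (.node (.leaf 0) (.leaf 0)) (.leaf 0))) (.node (.node (.node (.leaf 313) (.leaf 0)) (.node (.leaf 0) (.leaf 0))) (.node (.node (.leaf 0) (.leaf 0)) (.leaf 0)))) (.node (.node (.node (.node (.leaf 0) (.leaf 0)) (.node (.leaf 2313) (.leaf 0))) (.node (.node (.leaf 0) (.leaf 0)) (.leaf 0))) (.node (.node (.node (.leaf 0) (.leaf 0)) (.node (.leaf 0) (.leaf 0))) (.node (.node (.leaf 0) (.leaf 0)) (.leaf 2945))))) (.node (.node (.node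 (.node (.node (.leaf 0) (.leaf 0)) (.node (.leaf 0) (.leaf 0))) (.node (.node (.leaf 0) (.leaf 0)) (.leaf 0))) (.node (.node (.node (.leaf 1541) (.leaf 0)) (.node (.leaf 0) (.leaf 0))) (.node (.node (.leaf 0) (.leaf 0)) (.leaf 0)))) (.node (.node (.node (.node (.leaf 0) (.leaf 0)) (.node (.leaf 17) (.leaf 0))) (.node (.node (.leaf 0) (.leaf 737)) (.leaf 0))) (.node (.node (.node (.leaf 0) (.leaf 0)) (.leaf 0)) (.node (.node (.leaf 0) (.leaf 0)) (.leaf 0)))))) (.node (.node (.node (.node (.node (.node (.leaf 0) (.leaf 0)) (.node (.leaf 0) (.leaf 0))) (.node (.node (.leaf 0) (.leaf 0)) (.leaf 2477))) (.node (.node (.node (.leaf 1365) (.leaf 0)) (.node (.leaf 0) (.leaf 0))) (.node (.node (.leaf 0) (.leaf 0)) (.leaf 0)))) (.node (.node (.node (.node (.leaf 0) (.leaf 0)) (.node (.leaf 0) (.leaf 0))) (.node (.node (.leaf 2413) (.leaf 0)) (.leaf 1828))) (.node (.node (.node (.leaf 1185) (.leaf 0)) (.node (.leaf 0) (.leaf 0))) (.node (.node (.leaf 0) (.leaf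 0)) (.leaf 0))))) (.node (.node (.node (.node (.node (.leaf 0) (.leaf 0)) (.node (.leaf 0) (.leaf 0))) (.node (.node (.leaf 0) (.leaf 0)) (.leaf 0))) (.node (.node (.node (.leaf 1637) (.leaf 0)) (.node (.leaf 2725) (.leaf 0))) (.node (.node (.leaf 1917) (.leaf 0)) (.leaf 0)))) (.node (.node (.node (.node (.leaf 317) (.leaf 3061)) (.node (.leaf 0) (.leaf 0))) (.node (.node (.leaf 0) (.leaf 0)) (.leaf 0))) (.node (.node (.node (.leaf 0) (.leaf 3636)) (.leaf 2573)) (.node (.node (.leaf 0) (.leaf 0)) (.leaf 0)))))))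

/-- Part of `codeT`. -/
def codeT_p0011 : Tr := .node (.node (.node (.node (.node (.node (.node (.node (.leaf 0) (.leaf 1985)) (.node (.leaf 2109) (.leaf 0))) (.node (.node (.leaf 0) (.leaf 0)) (.leaf 0))) (.node (.node (.node (.leaf 1161) (.leaf 0)) (.node (.leaf 0) (.leaf 0))) (.node (.node (.leaf 0) (.leaf 0)) (.leaf 0)))) (.node (.node (.node (.node (.leaf 0) (.leaf 0)) (.node (.leaf 0) (.leaf 0))) (.node (.node (.leaf 0) (.leaf 0)) (.leaf 0))) (.node (.node (.node (.leaf 0) (.leaf 0)) (.node (.leaf 513) (.leaf 0))) (.node (.node (.leaf 0) (.leaf 0)) (.leaf 0))))) (.node (.node (.node (.node (.node (.leaf 0) (.leaf 0)) (.node (.leaf 0) (.leaf 0))) (.node (.node (.leaf 0) (.leaf 0)) (.leaf 0))) (.node (.node (.node (.leaf 0) (.leaf 1629)) (.node (.leaf 3417) (.leaf 0))) (.node (.node (.leaf 2833) (.leaf 0)) (.leaf 0)))) (.node (.node (.node (.node (.leaf 0) (.leaf 0)) (.node (.leaf 3429) (.leaf 0))) (.node (.node (.leaf 1809) (.leaf 0)) (.leaf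 0))) (.node (.node (.node (.leaf 0) (.leaf 0)) (.leaf 0)) (.node (.node (.leaf 0) (.leaf 0)) (.leaf 0)))))) (.node (.node (.node (.node (.node (.node (.leaf 257) (.leaf 0)) (.node (.leaf 0) (.leaf 0))) (.node (.node (.leaf 3477) (.leaf 0)) (.leaf 93))) (.node (.node (.node (.leaf 0) (.leaf 0)) (.node (.leaf 0) (.leaf 0))) (.node (.node (.leaf 0) (.leaf 0)) (.leaf 0)))) (.node (.node (.node (.node (.leaf 217) (.leaf 0)) (.node (.leaf 0) (.leaf 0))) (.node (.node (.leaf 3765) (.leaf 0)) (.leaf 169))) (.node (.node (.node (.leaf 2461) (.leaf 0)) (.node (.leaf 0) (.leaf 0))) (.node (.node (.leaf 2577) (.leaf 0)) (.leaf 0))))) (.node (.node (.node (.node (.node (.leaf 0) (.leaf 0)) (.node (.leaf 0) (.leaf 0))) (.node (.node (.leaf 404) (.leaf 0)) (.leaf 0))) (.node (.node (.node (.leaf 0) (.leaf 0)) (.node (.leaf 0) (.leaf 0))) (.node (.node (.leaf 3689) (.leaf 0)) (.leaf 0)))) (.node (.node (.node (.node (.leaf 3396) (.leaf 0)) (.node (.leaf 0) (.leaf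 0))) (.node (.node (.leaf 0) (.leaf 0)) (.leaf 0))) (.node (.node (.node (.leaf 0) (.leaf 0)) (.leaf 0)) (.node (.node (.leaf 1252) (.leaf 0)) (.leaf 0))))))) (.node (.node (.node (.node (.node (.node (.node (.leaf 2029) (.leaf 0)) (.node (.leaf 3905) (.leaf 461))) (.node (.node (.leaf 1825) (.leaf 0)) (.leaf 1901))) (.node (.node (.node (.leaf 0) (.leaf 0)) (.node (.leaf 0) (.leaf 0))) (.node (.node (.leaf 0) (.leaf 0)) (.leaf 0)))) (.node (.node (.node (.node (.leaf 1397) (.leaf 0)) (.node (.leaf 3129) (.leaf 0))) (.node (.node (.leaf 0) (.leaf 0)) (.leaf 0))) (.node (.node (.node (.leaf 0) (.leaf 0)) (.node (.leaf 389) (.leaf 0))) (.node (.node (.leaf 0) (.leaf 0)) (.leaf 0))))) (.node (.node (.node (.node (.node (.leaf 2640) (.leaf 1501)) (.node (.leaf 0) (.leaf 0))) (.node (.node (.leaf 0) (.leaf 0)) (.leaf 0))) (.node (.node (.node (.leaf 2925) (.leaf 0)) (.node (.leaf 0) (.leaf 0))) (.node (.node (.leaf 0) (.leaf 0)) (.leaf 0)))) (.node (.node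 (.node (.node (.leaf 0) (.leaf 0)) (.node (.leaf 0) (.leaf 0))) (.node (.node (.leaf 0) (.leaf 0)) (.leaf 0))) (.node (.node (.node (.leaf 2405) (.leaf 0)) (.leaf 0)) (.node (.node (.leaf 3728) (.leaf 0)) (.leaf 2836)))))) (.node (.node (.node (.node (.node (.node (.leaf 0) (.leaf 0)) (.node (.leaf 0) (.leaf 0))) (.node (.node (.leaf 0) (.leaf 0)) (.leaf 0))) (.node (.node (.node (.leaf 0) (.leaf 4029)) (.node (.leaf 0) (.leaf 0))) (.node (.node (.leaf 1601) (.leaf 0)) (.leaf 1765)))) (.node (.node (.node (.node (.leaf 0) (.leaf 3545)) (.node (.leaf 996) (.leaf 0))) (.node (.node (.leaf 3145) (.leaf 0)) (.leaf 0))) (.node (.node (.node (.leaf 0) (.leaf 2497)) (.leaf 2453)) (.node (.node (.leaf 0) (.leaf 1757)) (.leaf 0))))) (.node (.node (.node (.node (.node (.leaf 1461) (.leaf 0)) (.node (.leaf 0) (.leaf 0))) (.node (.node (.leaf 80) (.leaf 3069)) (.leaf 0))) (.node (.node (.node (.leaf 3185) (.leaf 673)) (.node (.leaf 0) (.leaf 0))) (.node (.node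 (.leaf 0) (.leaf 0)) (.leaf 0)))) (.node (.node (.node (.node (.leaf 0) (.leaf 0)) (.node (.leaf 0) (.leaf 0))) (.node (.node (.leaf 649) (.leaf 0)) (.leaf 1204))) (.node (.node (.node (.leaf 0) (.leaf 0)) (.leaf 0)) (.node (.node (.leaf 1732) (.leaf 0)) (.leaf 0)))))))

/-- Part of `codeT`. -/
def codeT_p0100 : Tr := .node (.node (.node (.node (.node (.node (.node (.node (.leaf 0) (.leaf 0)) (.node (.leaf 0) (.leaf 0))) (.node (.node (.leaf 0) (.leaf 0)) (.leaf 3316))) (.node (.node (.node (.leaf 0) (.leaf 0)) (.node (.leaf 0) (.leaf 0))) (.node (.node (.leaf 0) (.leaf 0)) (.leaf 0)))) (.node (.node (.node (.node (.leaf 0) (.leaf 3065)) (.node (.leaf 0) (.leaf 0))) (.node (.node (.leaf 0) (.leaf 1572)) (.leaf 0))) (.node (.node (.node (.leaf 0) (.leaf 0)) (.node (.leaf 593) (.leaf 0))) (.node (.node (.leaf 0) (.leaf 0)) (.leaf 3045))))) (.node (.node (.node (.node (.node (.leaf 49) (.leaf 0)) (.node (.leaf 0) (.leaf 0))) (.node (.node (.leaf 0)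 (.leaf 0)) (.leaf 1936))) (.node (.node (.node (.leaf 0) (.leaf 0)) (.node (.leaf 0) (.leaf 0))) (.node (.node (.leaf 0) (.leaf 0)) (.leaf 0)))) (.node (.node (.node (.node (.leaf 2421) (.leaf 4025)) (.node (.leaf 1097) (.leaf 0))) (.node (.node (.leaf 0) (.leaf 0)) (.leaf 3620))) (.node (.node (.node (.leaf 0) (.leaf 1513)) (.leaf 852)) (.node (.node (.leaf 0) (.leaf 0)) (.leaf 3217)))))) (.node (.node (.node (.node (.node (.node (.leaf 0) (.leaf 0)) (.node (.leaf 0) (.leaf 0))) (.node (.node (.leaf 3853) (.leaf 0)) (.leaf 0))) (.node (.node (.node (.leaf 0) (.leaf 0)) (.node (.leaf 0) (.leaf 0))) (.node (.node (.leaf 0) (.leaf 0)) (.leaf 557)))) (.node (.node (.node (.node (.leaf 0) (.leaf 0)) (.node (.leaf 484) (.leaf 0))) (.node (.node (.leaf 0) (.leaf 0)) (.leaf 0))) (.node (.node (.node (.leaf 0) (.leaf 0)) (.node (.leaf 0) (.leaf 0))) (.node (.node (.leaf 0) (.leaf 0)) (.leaf 0))))) (.node (.node (.node (.node (.node (.leaf 0) (.leaf 0))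 (.node (.leaf 0) (.leaf 0))) (.node (.node (.leaf 0) (.leaf 0)) (.leaf 2896))) (.node (.node (.node (.leaf 0) (.leaf 0)) (.node (.leaf 0) (.leaf 0))) (.node (.node (.leaf 0) (.leaf 0)) (.leaf 0)))) (.node (.node (.node (.node (.leaf 0) (.leaf 0)) (.node (.leaf 3993) (.leaf 0))) (.node (.node (.leaf 0) (.leaf 0)) (.leaf 3713))) (.node (.node (.node (.leaf 3377) (.leaf 0)) (.leaf 0)) (.node (.node (.leaf 2937) (.leaf 0)) (.leaf 0))))))) (.node (.node (.node (.node (.node (.node (.node (.leaf 497) (.leaf 0)) (.node (.leaf 3617) (.leaf 0))) (.node (.node (.leaf 0) (.leaf 0)) (.leaf 0))) (.node (.node (.node (.leaf 165) (.leaf 0)) (.node (.leaf 0) (.leaf 0))) (.node (.node (.leaf 0) (.leaf 0)) (.leaf 3797)))) (.node (.node (.node (.node (.leaf 1373) (.leaf 0)) (.node (.leaf 0) (.leaf 0))) (.node (.node (.leaf 0) (.leaf 0)) (.leaf 0))) (.node (.node (.node (.leaf 0) (.leaf 0)) (.node (.leaf 0) (.leaf 0))) (.node (.node (.leaf 0) (.leaf 0)) (.leaf 0)))))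 (.node (.node (.node (.node (.node (.leaf 0) (.leaf 0)) (.node (.leaf 0) (.leaf 0))) (.node (.node (.leaf 0) (.leaf 0)) (.leaf 0))) (.node (.node (.node (.leaf 1300) (.leaf 0)) (.node (.leaf 0) (.leaf 0))) (.node (.node (.leaf 1645) (.leaf 0)) (.leaf 0)))) (.node (.node (.node (.node (.leaf 0) (.leaf 1009)) (.node (.leaf 0) (.leaf 0))) (.node (.node (.leaf 0) (.leaf 0)) (.leaf 0))) (.node (.node (.node (.leaf 0) (.leaf 0)) (.leaf 0)) (.node (.node (.leaf 0) (.leaf 0)) (.leaf 0)))))) (.node (.node (.node (.node (.node (.node (.leaf 0) (.leaf 0)) (.node (.leaf 0) (.leaf 0))) (.node (.node (.leaf 2069) (.leaf 0)) (.leaf 0))) (.node (.node (.node (.leaf 0) (.leaf 0)) (.node (.leaf 0) (.leaf 0))) (.node (.node (.leaf 0) (.leaf 0)) (.leaf 0)))) (.node (.node (.node (.node (.leaf 0) (.leaf 0)) (.node (.leaf 2965) (.leaf 0))) (.node (.node (.leaf 625) (.leaf 0)) (.leaf 3677))) (.node (.node (.node (.leaf 2753) (.leaf 0)) (.node (.leaf 0) (.leaf 0))) (.node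 (.node (.leaf 845) (.leaf 0)) (.leaf 0))))) (.node (.node (.node (.node (.node (.leaf 0) (.leaf 0)) (.node (.leaf 0) (.leaf 0))) (.node (.node (.leaf 0) (.leaf 0)) (.leaf 0))) (.node (.node (.node (.leaf 125) (.leaf 0)) (.node (.leaf 3941) (.leaf 0))) (.node (.node (.leaf 585) (.leaf 0)) (.leaf 0)))) (.node (.node (.node (.node (.leaf 0) (.leaf 0)) (.node (.leaf 0) (.leaf 0))) (.node (.node (.leaf 0) (.leaf 0)) (.leaf 2745))) (.node (.node (.node (.leaf 0) (.leaf 0)) (.leaf 0)) (.node (.node (.leaf 0) (.leaf 0)) (.leaf 0)))))))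

/-- Part of `codeT`. -/
def codeT_p0101 : Tr := .node (.node (.node (.node (.node (.node (.node (.node (.leaf 2064) (.leaf 0)) (.node (.leaf 2212) (.leaf 0))) (.node (.node (.leaf 0) (.leaf 0)) (.leaf 0))) (.node (.node (.node (.leaf 2249) (.leaf 0)) (.node (.leaf 0) (.leaf 0))) (.node (.node (.leaf 0) (.leaf 0)) (.leaf 0)))) (.node (.node (.node (.node (.leaf 0) (.leaf 0)) (.node (.leaf 0) (.leaf 0))) (.node (.node (.leaf 0) (.leaf 0)) (.leaf 0))) (.node (.node (.node (.leaf 309) (.leaf 0)) (.node (.leaf 0) (.leaf 0))) (.node (.node (.leaf 0) (.leaf 0)) (.leaf 0))))) (.node (.node (.node (.node (.node (.leaf 0) (.leaf 0)) (.node (.leaf 0) (.leaf 0))) (.node (.node (.leaf 0) (.leaf 0)) (.leaf 0))) (.node (.node (.node (.leaf 0) (.leaf 2132)) (.node (.leaf 0) (.leaf 0))) (.node (.node (.leaf 0) (.leaf 0)) (.leaf 0)))) (.node (.node (.node (.node (.leaf 0) (.leaf 0)) (.node (.leaf 2129) (.leaf 0))) (.node (.node (.leaf 980) (.leaf 0)) (.leaf 0)))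 (.node (.node (.node (.leaf 0) (.leaf 0)) (.leaf 0)) (.node (.node (.leaf 0) (.leaf 0)) (.leaf 0)))))) (.node (.node (.node (.node (.node (.node (.leaf 1028) (.leaf 0)) (.node (.leaf 0) (.leaf 0))) (.node (.node (.leaf 2372) (.leaf 0)) (.leaf 3984))) (.node (.node (.node (.leaf 1860) (.leaf 0)) (.node (.leaf 0) (.leaf 0))) (.node (.node (.leaf 0) (.leaf 0)) (.leaf 0)))) (.node (.node (.node (.node (.leaf 0) (.leaf 0)) (.node (.leaf 0) (.leaf 0))) (.node (.node (.leaf 281) (.leaf 0)) (.leaf 0))) (.node (.node (.node (.leaf 2321) (.leaf 0)) (.node (.leaf 0) (.leaf 0))) (.node (.node (.leaf 0) (.leaf 0)) (.leaf 0))))) (.node (.node (.node (.node (.node (.leaf 3876) (.leaf 0)) (.node (.leaf 0) (.leaf 0))) (.node (.node (.leaf 1857) (.leaf 0)) (.leaf 0))) (.node (.node (.node (.leaf 0) (.leaf 0)) (.node (.leaf 0) (.leaf 0))) (.node (.node (.leaf 173) (.leaf 0)) (.leaf 0)))) (.node (.node (.node (.node (.leaf 2073) (.leaf 0)) (.node (.leaf 0) (.leaf 0)))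 (.node (.node (.leaf 0) (.leaf 0)) (.leaf 0))) (.node (.node (.node (.leaf 2436) (.leaf 0)) (.leaf 0)) (.node (.node (.leaf 1545) (.leaf 0)) (.leaf 0))))))) (.node (.node (.node (.node (.node (.node (.node (.leaf 453) (.leaf 0)) (.node (.leaf 1345) (.leaf 0))) (.node (.node (.leaf 0) (.leaf 0)) (.leaf 769))) (.node (.node (.node (.leaf 0) (.leaf 0)) (.node (.leaf 0) (.leaf 0))) (.node (.node (.leaf 0) (.leaf 0)) (.leaf 0)))) (.node (.node (.node (.node (.leaf 1525) (.leaf 0)) (.node (.leaf 0) (.leaf 0))) (.node (.node (.leaf 0) (.leaf 0)) (.leaf 0))) (.node (.node (.node (.leaf 0) (.leaf 0)) (.node (.leaf 3753) (.leaf 0))) (.node (.node (.leaf 0) (.leaf 0)) (.leaf 0))))) (.node (.node (.node (.node (.node (.leaf 3573) (.leaf 2628)) (.node (.leaf 0) (.leaf 0))) (.node (.node (.leaf 821) (.leaf 0)) (.leaf 0))) (.node (.node (.node (.leaf 2101) (.leaf 0)) (.node (.leaf 0) (.leaf 0))) (.node (.node (.leaf 2948) (.leaf 0)) (.leaf 0)))) (.node (.node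 (.node (.node (.leaf 3933) (.leaf 0)) (.node (.leaf 0) (.leaf 0))) (.node (.node (.leaf 0) (.leaf 0)) (.leaf 0))) (.node (.node (.node (.leaf 2729) (.leaf 0)) (.leaf 0)) (.node (.node (.leaf 0) (.leaf 0)) (.leaf 3153)))))) (.node (.node (.node (.node (.node (.node (.leaf 0) (.leaf 0)) (.node (.leaf 0) (.leaf 0))) (.node (.node (.leaf 2353) (.leaf 0)) (.leaf 0))) (.node (.node (.node (.leaf 0) (.leaf 0)) (.node (.leaf 0) (.leaf 0))) (.node (.node (.leaf 0) (.leaf 1229)) (.leaf 0)))) (.node (.node (.node (.node (.leaf 2569) (.leaf 1729)) (.node (.leaf 0) (.leaf 0))) (.node (.node (.leaf 0) (.leaf 0)) (.leaf 0))) (.node (.node (.node (.leaf 3205) (.leaf 0)) (.leaf 0)) (.node (.node (.leaf 0) (.leaf 0)) (.leaf 0))))) (.node (.node (.node (.node (.node (.leaf 2773) (.leaf 0)) (.node (.leaf 0) (.leaf 0))) (.node (.node (.leaf 0) (.leaf 0)) (.leaf 0))) (.node (.node (.node (.leaf 353) (.leaf 3597)) (.node (.leaf 329) (.leaf 0))) (.node (.node (.leaf 0)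 (.leaf 0)) (.leaf 3965)))) (.node (.node (.node (.node (.leaf 0) (.leaf 0)) (.node (.leaf 0) (.leaf 0))) (.node (.node (.leaf 0) (.leaf 0)) (.leaf 3673))) (.node (.node (.node (.leaf 0) (.leaf 0)) (.leaf 724)) (.node (.node (.leaf 0) (.leaf 0)) (.leaf 0)))))))

/-- Part of `codeT`. -/
def codeT_p0110 : Tr := .node (.node (.node (.node (.node (.node (.node (.node (.leaf 1280) (.leaf 0)) (.node (.leaf 3485) (.leaf 0))) (.node (.node (.leaf 0) (.leaf 0)) (.leaf 0))) (.node (.node (.node (.leaf 0) (.leaf 0)) (.node (.leaf 0) (.leaf 0))) (.node (.node (.leaf 1385) (.leaf 0)) (.leaf 0)))) (.node (.node (.node (.node (.leaf 0) (.leaf 0)) (.node (.leaf 0) (.leaf 0))) (.node (.node (.leaf 0) (.leaf 0)) (.leaf 0))) (.node (.node (.node (.leaf 0) (.leaf 0)) (.node (.leaf 0) (.leaf 0))) (.node (.node (.leaf 0) (.leaf 0)) (.leaf 0))))) (.node (.node (.node (.node (.node (.leaf 1476) (.leaf 0)) (.node (.leaf 0) (.leaf 0))) (.node (.node (.leaf 0) (.leaf 0)) (.leaf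 0))) (.node (.node (.node (.leaf 0) (.leaf 0)) (.node (.leaf 0) (.leaf 0))) (.node (.node (.leaf 0) (.leaf 0)) (.leaf 0)))) (.node (.node (.node (.node (.leaf 1657) (.leaf 0)) (.node (.leaf 0) (.leaf 2517))) (.node (.node (.leaf 2921) (.leaf 1225)) (.leaf 3892))) (.node (.node (.node (.leaf 0) (.leaf 0)) (.leaf 0)) (.node (.node (.leaf 0) (.leaf 0)) (.leaf 0)))))) (.node (.node (.node (.node (.node (.node (.leaf 0) (.leaf 0)) (.node (.leaf 2612) (.leaf 0))) (.node (.node (.leaf 3889) (.leaf 0)) (.leaf 0))) (.node (.node (.node (.leaf 1797) (.leaf 0)) (.node (.leaf 0) (.leaf 0))) (.node (.node (.leaf 0) (.leaf 0)) (.leaf 0)))) (.node (.node (.node (.node (.leaf 0) (.leaf 0)) (.node (.leaf 0) (.leaf 0))) (.node (.node (.leaf 945) (.leaf 0)) (.leaf 0))) (.node (.node (.node (.leaf 0) (.leaf 0)) (.node (.leaf 0) (.leaf 0))) (.node (.node (.leaf 0) (.leaf 0)) (.leaf 0))))) (.node (.node (.node (.node (.node (.leaf 0) (.leaf 0)) (.node (.leaf 0) (.leaf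 0))) (.node (.node (.leaf 2493) (.leaf 0)) (.leaf 3029))) (.node (.node (.node (.leaf 0) (.leaf 0)) (.node (.leaf 0) (.leaf 0))) (.node (.node (.leaf 1137) (.leaf 0)) (.leaf 0)))) (.node (.node (.node (.node (.leaf 3821) (.leaf 0)) (.node (.leaf 0) (.leaf 0))) (.node (.node (.leaf 0) (.leaf 0)) (.leaf 0))) (.node (.node (.node (.leaf 1121) (.leaf 0)) (.leaf 0)) (.node (.node (.leaf 3001) (.leaf 0)) (.leaf 0))))))) (.node (.node (.node (.node (.node (.node (.node (.leaf 0) (.leaf 0)) (.node (.leaf 0) (.leaf 0))) (.node (.node (.leaf 0) (.leaf 0)) (.leaf 0))) (.node (.node (.node (.leaf 0) (.leaf 0)) (.node (.leaf 0) (.leaf 0))) (.node (.node (.leaf 0) (.leaf 0)) (.leaf 0)))) (.node (.node (.node (.node (.leaf 0) (.leaf 0)) (.node (.leaf 1988) (.leaf 0))) (.node (.node (.leaf 0) (.leaf 0)) (.leaf 0))) (.node (.node (.node (.leaf 0) (.leaf 0)) (.node (.leaf 0) (.leaf 0))) (.node (.node (.leaf 0) (.leaf 0)) (.leaf 2537))))) (.node (.node (.node (.node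 (.node (.leaf 1401) (.leaf 0)) (.node (.leaf 0) (.leaf 0))) (.node (.node (.leaf 0) (.leaf 0)) (.leaf 0))) (.node (.node (.node (.leaf 1553) (.leaf 0)) (.node (.leaf 2260) (.leaf 0))) (.node (.node (.leaf 1236) (.leaf 0)) (.leaf 0)))) (.node (.node (.node (.node (.leaf 713) (.leaf 0)) (.node (.leaf 2709) (.leaf 0))) (.node (.node (.leaf 0) (.leaf 0)) (.leaf 0))) (.node (.node (.node (.leaf 0) (.leaf 0)) (.leaf 0)) (.node (.node (.leaf 0) (.leaf 0)) (.leaf 0)))))) (.node (.node (.node (.node (.node (.node (.leaf 0) (.leaf 0)) (.node (.leaf 0) (.leaf 0))) (.node (.node (.leaf 1169) (.leaf 0)) (.leaf 3817))) (.node (.node (.node (.leaf 3513) (.leaf 0)) (.node (.leaf 0) (.leaf 0))) (.node (.node (.leaf 0) (.leaf 0)) (.leaf 0)))) (.node (.node (.node (.node (.leaf 0) (.leaf 0)) (.node (.leaf 2500) (.leaf 0))) (.node (.node (.leaf 301) (.leaf 0)) (.leaf 0))) (.node (.node (.node (.leaf 1604) (.leaf 0)) (.leaf 0)) (.node (.node (.leaf 0) (.leaf 0)) (.leaf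 0))))) (.node (.node (.node (.node (.node (.leaf 1445) (.leaf 0)) (.node (.leaf 0) (.leaf 0))) (.node (.node (.leaf 0) (.leaf 0)) (.leaf 0))) (.node (.node (.node (.leaf 2933) (.leaf 0)) (.node (.leaf 809) (.leaf 0))) (.node (.node (.leaf 3741) (.leaf 0)) (.leaf 0)))) (.node (.node (.node (.node (.leaf 1285) (.leaf 3328)) (.node (.leaf 0) (.leaf 0))) (.node (.node (.leaf 3737) (.leaf 0)) (.leaf 0))) (.node (.node (.node (.leaf 1449) (.leaf 0)) (.leaf 905)) (.node (.node (.leaf 3945) (.leaf 0)) (.leaf 3589)))))))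

/-- Part of `codeT`. -/
def codeT_p0111 : Tr := .node (.node (.node (.node (.node (.node (.node (.node (.leaf 0) (.leaf 0)) (.node (.leaf 0) (.leaf 2553))) (.node (.node (.leaf 0) (.leaf 0)) (.leaf 325))) (.node (.node (.node (.leaf 3277) (.leaf 0)) (.node (.leaf 0) (.leaf 0))) (.node (.node (.leaf 0) (.leaf 0)) (.leaf 3664)))) (.node (.node (.node (.node (.leaf 0) (.leaf 0)) (.node (.leaf 541) (.leaf 0))) (.node (.node (.leaf 0) (.leaf 0)) (.leaf 0))) (.node (.node (.node (.leaf 0) (.leaf 0)) (.node (.leaf 1689) (.leaf 0))) (.node (.node (.leaf 0) (.leaf 0)) (.leaf 0))))) (.node (.node (.node (.node (.node (.leaf 0) (.leaf 0)) (.node (.leaf 0) (.leaf 0))) (.node (.node (.leaf 0) (.leaf 0)) (.leaf 2905))) (.node (.node (.node (.leaf 0) (.leaf 0)) (.node (.leaf 3524) (.leaf 0))) (.node (.node (.leaf 2512) (.leaf 0)) (.leaf 0)))) (.node (.node (.node (.node (.leaf 0) (.leaf 0)) (.node (.leaf 0) (.leaf 0))) (.node (.node (.leaf 2337) (.leaf 0)) (.leaf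 0))) (.node (.node (.node (.leaf 0) (.leaf 3837)) (.leaf 0)) (.node (.node (.leaf 0) (.leaf 0)) (.leaf 3972)))))) (.node (.node (.node (.node (.node (.node (.leaf 1781) (.leaf 0)) (.node (.leaf 2973) (.leaf 0))) (.node (.node (.leaf 0) (.leaf 0)) (.leaf 3113))) (.node (.node (.node (.leaf 0) (.leaf 0)) (.node (.leaf 0) (.leaf 0))) (.node (.node (.leaf 0) (.leaf 0)) (.leaf 0)))) (.node (.node (.node (.node (.leaf 1289) (.leaf 0)) (.node (.leaf 3997) (.leaf 0))) (.node (.node (.leaf 0) (.leaf 0)) (.leaf 2797))) (.node (.node (.node (.leaf 2781) (.leaf 0)) (.node (.leaf 0) (.leaf 0))) (.node (.node (.leaf 0) (.leaf 0)) (.leaf 0))))) (.node (.node (.node (.node (.node (.leaf 0) (.leaf 0)) (.node (.leaf 0) (.leaf 0))) (.node (.node (.leaf 0) (.leaf 0)) (.leaf 0))) (.node (.node (.node (.leaf 0) (.leaf 0)) (.node (.leaf 0) (.leaf 0))) (.node (.node (.leaf 0) (.leaf 0)) (.leaf 0)))) (.node (.node (.node (.node (.leaf 0) (.leaf 0)) (.node (.leaf 2733) (.leaf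 0))) (.node (.node (.leaf 0) (.leaf 0)) (.leaf 2384))) (.node (.node (.node (.leaf 0) (.leaf 0)) (.leaf 0)) (.node (.node (.leaf 0) (.leaf 0)) (.leaf 0))))))) (.node (.node (.node (.node (.node (.node (.node (.leaf 1025) (.leaf 0)) (.node (.leaf 0) (.leaf 0))) (.node (.node (.leaf 2749) (.leaf 0)) (.leaf 0))) (.node (.node (.node (.leaf 0) (.leaf 0)) (.node (.leaf 0) (.leaf 0))) (.node (.node (.leaf 0) (.leaf 0)) (.leaf 0)))) (.node (.node (.node (.node (.leaf 1369) (.leaf 0)) (.node (.leaf 0) (.leaf 0))) (.node (.node (.leaf 0) (.leaf 0)) (.leaf 0))) (.node (.node (.node (.leaf 0) (.leaf 0)) (.node (.leaf 0) (.leaf 0))) (.node (.node (.leaf 0) (.leaf 0)) (.leaf 0))))) (.node (.node (.node (.node (.node (.leaf 3493) (.leaf 0)) (.node (.leaf 0) (.leaf 0))) (.node (.node (.leaf 2185) (.leaf 0)) (.leaf 0))) (.node (.node (.node (.leaf 689) (.leaf 0)) (.node (.leaf 1012) (.leaf 0))) (.node (.node (.leaf 1424) (.leaf 0)) (.leaf 0)))) (.node (.node (.node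 (.node (.leaf 0) (.leaf 0)) (.node (.leaf 0) (.leaf 0))) (.node (.node (.leaf 0) (.leaf 0)) (.leaf 0))) (.node (.node (.node (.leaf 293) (.leaf 0)) (.leaf 0)) (.node (.node (.leaf 2369) (.leaf 0)) (.leaf 0)))))) (.node (.node (.node (.node (.node (.node (.leaf 4093) (.leaf 0)) (.node (.leaf 0) (.leaf 0))) (.node (.node (.leaf 0) (.leaf 0)) (.leaf 0))) (.node (.node (.node (.leaf 0) (.leaf 0)) (.node (.leaf 0) (.leaf 0))) (.node (.node (.leaf 569) (.leaf 0)) (.leaf 272)))) (.node (.node (.node (.node (.leaf 0) (.leaf 0)) (.node (.leaf 0) (.leaf 0))) (.node (.node (.leaf 0) (.leaf 0)) (.leaf 0))) (.node (.node (.node (.leaf 2276) (.leaf 0)) (.leaf 2789)) (.node (.node (.leaf 0) (.leaf 457)) (.leaf 0))))) (.node (.node (.node (.node (.node (.leaf 0) (.leaf 3101)) (.node (.leaf 0) (.leaf 0))) (.node (.node (.leaf 0) (.leaf 2289)) (.leaf 0))) (.node (.node (.node (.leaf 0) (.leaf 0)) (.node (.leaf 0) (.leaf 0))) (.node (.node (.leaf 0) (.leaf 1785))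 (.leaf 0)))) (.node (.node (.node (.node (.leaf 0) (.leaf 0)) (.node (.leaf 0) (.leaf 0))) (.node (.node (.leaf 0) (.leaf 0)) (.leaf 0))) (.node (.node (.node (.leaf 0) (.leaf 0)) (.leaf 0)) (.node (.node (.leaf 0) (.leaf 0)) (.leaf 0)))))))

/-- Part of `codeT`. -/
def codeT_p1000 : Tr := .node (.node (.node (.node (.node (.node (.node (.node (.leaf 0) (.leaf 0)) (.node (.leaf 285) (.leaf 0))) (.node (.node (.leaf 0) (.leaf 0)) (.leaf 2989))) (.node (.node (.node (.leaf 0) (.leaf 0)) (.node (.leaf 0) (.leaf 0))) (.node (.node (.leaf 3149) (.leaf 0)) (.leaf 0)))) (.node (.node (.node (.node (.leaf 0) (.leaf 2825)) (.node (.leaf 0) (.leaf 0))) (.node (.node (.leaf 0) (.leaf 0)) (.leaf 0))) (.node (.node (.node (.leaf 0) (.leaf 2681)) (.node (.leaf 0) (.leaf 0))) (.node (.node (.leaf 0) (.leaf 0)) (.leaf 2085))))) (.node (.node (.node (.node (.node (.leaf 500) (.leaf 0)) (.node (.leaf 0) (.leaf 0))) (.node (.node (.leaf 0) (.leaf 516)) (.leaf 2985)))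 (.node (.node (.node (.leaf 0) (.leaf 0)) (.node (.leaf 0) (.leaf 0))) (.node (.node (.leaf 3769) (.leaf 0)) (.leaf 0)))) (.node (.node (.node (.node (.leaf 3509) (.leaf 0)) (.node (.leaf 756) (.leaf 0))) (.node (.node (.leaf 369) (.leaf 0)) (.leaf 3437))) (.node (.node (.node (.leaf 3633) (.leaf 3497)) (.leaf 0)) (.node (.node (.leaf 0) (.leaf 0)) (.leaf 797)))))) (.node (.node (.node (.node (.node (.node (.leaf 0) (.leaf 0)) (.node (.leaf 0) (.leaf 0))) (.node (.node (.leaf 1405) (.leaf 0)) (.leaf 0))) (.node (.node (.node (.leaf 0) (.leaf 0)) (.node (.leaf 0) (.leaf 0))) (.node (.node (.leaf 0) (.leaf 0)) (.leaf 0)))) (.node (.node (.node (.node (.leaf 0) (.leaf 0)) (.node (.leaf 1165) (.leaf 0))) (.node (.node (.leaf 0) (.leaf 0)) (.leaf 0))) (.node (.node (.node (.leaf 0) (.leaf 0)) (.node (.leaf 0) (.leaf 0))) (.node (.node (.leaf 0) (.leaf 0)) (.leaf 0))))) (.node (.node (.node (.node (.node (.leaf 5) (.leaf 0)) (.node (.leaf 0) (.leaf 0)))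 (.node (.node (.leaf 657) (.leaf 0)) (.leaf 0))) (.node (.node (.node (.leaf 0) (.leaf 0)) (.node (.leaf 0) (.leaf 0))) (.node (.node (.leaf 0) (.leaf 0)) (.leaf 0)))) (.node (.node (.node (.node (.leaf 0) (.leaf 0)) (.node (.leaf 0) (.leaf 0))) (.node (.node (.leaf 0) (.leaf 0)) (.leaf 3749))) (.node (.node (.node (.leaf 1717) (.leaf 0)) (.leaf 0)) (.node (.node (.leaf 2105) (.leaf 0)) (.leaf 0))))))) (.node (.node (.node (.node (.node (.node (.node (.leaf 1221) (.leaf 0)) (.node (.leaf 3873) (.leaf 0))) (.node (.node (.leaf 0) (.leaf 0)) (.leaf 0))) (.node (.node (.node (.leaf 2309) (.leaf 0)) (.node (.leaf 0) (.leaf 0))) (.node (.node (.leaf 0) (.leaf 0)) (.leaf 3088)))) (.node (.node (.node (.node (.leaf 2692) (.leaf 0)) (.node (.leaf 297) (.leaf 249))) (.node (.node (.leaf 0) (.leaf 0)) (.leaf 0))) (.node (.node (.node (.leaf 0) (.leaf 0)) (.node (.leaf 0) (.leaf 0))) (.node (.node (.leaf 0) (.leaf 0)) (.leaf 0))))) (.node (.node (.node (.node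 (.node (.leaf 4073) (.leaf 0)) (.node (.leaf 0) (.leaf 0))) (.node (.node (.leaf 0) (.leaf 0)) (.leaf 3273))) (.node (.node (.node (.leaf 1897) (.leaf 0)) (.node (.leaf 3845) (.leaf 0))) (.node (.node (.leaf 0) (.leaf 0)) (.leaf 0)))) (.node (.node (.node (.node (.leaf 0) (.leaf 849)) (.node (.leaf 0) (.leaf 0))) (.node (.node (.leaf 0) (.leaf 3348)) (.leaf 0))) (.node (.node (.node (.leaf 0) (.leaf 2273)) (.leaf 0)) (.node (.node (.leaf 0) (.leaf 0)) (.leaf 0)))))) (.node (.node (.node (.node (.node (.node (.leaf 0) (.leaf 0)) (.node (.leaf 0) (.leaf 0))) (.node (.node (.leaf 0) (.leaf 1517)) (.leaf 0))) (.node (.node (.node (.leaf 0) (.leaf 0)) (.node (.leaf 0) (.leaf 0))) (.node (.node (.leaf 0) (.leaf 0)) (.leaf 0)))) (.node (.node (.node (.node (.leaf 0) (.leaf 0)) (.node (.leaf 2713) (.leaf 0))) (.node (.node (.leaf 3920) (.leaf 0)) (.leaf 0))) (.node (.node (.node (.leaf 1045) (.leaf 0)) (.node (.leaf 0) (.leaf 0))) (.node (.node (.leaf 2717)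 (.leaf 0)) (.leaf 0))))) (.node (.node (.node (.node (.node (.leaf 1465) (.leaf 0)) (.node (.leaf 0) (.leaf 0))) (.node (.node (.leaf 0) (.leaf 0)) (.leaf 0))) (.node (.node (.node (.leaf 2580) (.leaf 0)) (.node (.leaf 2661) (.leaf 0))) (.node (.node (.leaf 0) (.leaf 0)) (.leaf 0)))) (.node (.node (.node (.node (.leaf 0) (.leaf 0)) (.node (.leaf 213) (.leaf 0))) (.node (.node (.leaf 0) (.leaf 0)) (.leaf 3849))) (.node (.node (.node (.leaf 0) (.leaf 0)) (.leaf 0)) (.node (.node (.leaf 1201) (.leaf 0)) (.leaf 0)))))))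

/-- Part of `codeT`. -/
def codeT_p1001 : Tr := .node (.node (.node (.node (.node (.node (.node (.node (.leaf 0) (.leaf 0)) (.node (.leaf 0) (.leaf 0))) (.node (.node (.leaf 0) (.leaf 0)) (.leaf 0))) (.node (.node (.node (.leaf 0) (.leaf 0)) (.node (.leaf 0) (.leaf 0))) (.node (.node (.leaf 0) (.leaf 0)) (.leaf 0)))) (.node (.node (.node (.node (.leaf 132) (.leaf 0)) (.node (.leaf 0) (.leaf 0))) (.node (.node (.leaf 0) (.leaf 0)) (.leaf 0))) (.node (.node (.node (.leaf 1977) (.leaf 0)) (.node (.leaf 0) (.leaf 0))) (.node (.node (.leaf 0) (.leaf 0)) (.leaf 0))))) (.node (.node (.node (.node (.node (.leaf 0) (.leaf 0)) (.node (.leaf 0) (.leaf 0))) (.node (.node (.leaf 0) (.leaf 0)) (.leaf 0))) (.node (.node (.node (.leaf 0) (.leaf 0)) (.node (.leaf 0) (.leaf 0))) (.node (.node (.leaf 0) (.leaf 0)) (.leaf 0)))) (.node (.node (.node (.node (.leaf 0) (.leaf 0)) (.node (.leaf 0) (.leaf 0))) (.node (.node (.leaf 0) (.leaf 0)) (.leaf 0))) (.node (.node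 (.node (.leaf 0) (.leaf 0)) (.leaf 0)) (.node (.node (.leaf 0) (.leaf 0)) (.leaf 0)))))) (.node (.node (.node (.node (.node (.node (.leaf 3565) (.leaf 0)) (.node (.leaf 0) (.leaf 0))) (.node (.node (.leaf 948) (.leaf 0)) (.leaf 3989))) (.node (.node (.node (.leaf 3188) (.leaf 0)) (.node (.leaf 0) (.leaf 0))) (.node (.node (.leaf 0) (.leaf 2045)) (.leaf 0)))) (.node (.node (.node (.node (.leaf 0) (.leaf 0)) (.node (.leaf 0) (.leaf 0))) (.node (.node (.leaf 2164) (.leaf 0)) (.leaf 0))) (.node (.node (.node (.leaf 721) (.leaf 0)) (.node (.leaf 0) (.leaf 0))) (.node (.node (.leaf 0) (.leaf 0)) (.leaf 0))))) (.node (.node (.node (.node (.node (.leaf 0) (.leaf 0)) (.node (.leaf 0) (.leaf 0))) (.node (.node (.leaf 0) (.leaf 0)) (.leaf 0))) (.node (.node (.node (.leaf 0) (.leaf 0)) (.node (.leaf 0) (.leaf 0))) (.node (.node (.leaf 0) (.leaf 0)) (.leaf 0)))) (.node (.node (.node (.node (.leaf 3413) (.leaf 0)) (.node (.leaf 0) (.leaf 0))) (.node (.node (.leaf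 0) (.leaf 0)) (.leaf 0))) (.node (.node (.node (.leaf 3449) (.leaf 0)) (.leaf 0)) (.node (.node (.leaf 0) (.leaf 0)) (.leaf 0))))))) (.node (.node (.node (.node (.node (.node (.node (.leaf 0) (.leaf 0)) (.node (.leaf 2625) (.leaf 0))) (.node (.node (.leaf 0) (.leaf 0)) (.leaf 0))) (.node (.node (.node (.leaf 0) (.leaf 0)) (.node (.leaf 0) (.leaf 0))) (.node (.node (.leaf 0) (.leaf 0)) (.leaf 0)))) (.node (.node (.node (.node (.leaf 0) (.leaf 0)) (.node (.leaf 0) (.leaf 0))) (.node (.node (.leaf 0) (.leaf 0)) (.leaf 0))) (.node (.node (.node (.leaf 0) (.leaf 0)) (.node (.leaf 0) (.leaf 0))) (.node (.node (.leaf 0) (.leaf 0)) (.leaf 0))))) (.node (.node (.node (.node (.node (.leaf 2809) (.leaf 0)) (.node (.leaf 0) (.leaf 0))) (.node (.node (.leaf 2969) (.leaf 0)) (.leaf 0))) (.node (.node (.node (.leaf 1701) (.leaf 0)) (.node (.leaf 0) (.leaf 0))) (.node (.node (.leaf 3421) (.leaf 0)) (.leaf 3269)))) (.node (.node (.node (.node (.leaf 3961) (.leaf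 0)) (.node (.leaf 0) (.leaf 0))) (.node (.node (.leaf 0) (.leaf 0)) (.leaf 0))) (.node (.node (.node (.leaf 68) (.leaf 0)) (.leaf 0)) (.node (.node (.leaf 0) (.leaf 0)) (.leaf 2093)))))) (.node (.node (.node (.node (.node (.node (.leaf 0) (.leaf 0)) (.node (.leaf 0) (.leaf 0))) (.node (.node (.leaf 3284) (.leaf 0)) (.leaf 0))) (.node (.node (.node (.leaf 0) (.leaf 0)) (.node (.leaf 0) (.leaf 0))) (.node (.node (.leaf 0) (.leaf 2052)) (.leaf 0)))) (.node (.node (.node (.node (.leaf 2196) (.leaf 913)) (.node (.leaf 0) (.leaf 0))) (.node (.node (.leaf 3716) (.leaf 0)) (.leaf 0))) (.node (.node (.node (.leaf 3136) (.leaf 0)) (.leaf 0)) (.node (.node (.leaf 1437) (.leaf 0)) (.leaf 0))))) (.node (.node (.node (.node (.node (.leaf 1957) (.leaf 0)) (.node (.leaf 0) (.leaf 0))) (.node (.node (.leaf 0) (.leaf 0)) (.leaf 0))) (.node (.node (.node (.leaf 884) (.leaf 0)) (.node (.leaf 2292) (.leaf 0))) (.node (.node (.leaf 0) (.leaf 1812)) (.leaf 2685)))) (.node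 (.node (.node (.node (.leaf 0) (.leaf 0)) (.node (.leaf 612) (.leaf 0))) (.node (.node (.leaf 0) (.leaf 0)) (.leaf 0))) (.node (.node (.node (.leaf 0) (.leaf 0)) (.leaf 1801)) (.node (.node (.leaf 3733) (.leaf 0)) (.leaf 2304)))))))

/-- Part of `codeT`. -/
def codeT_p1010 : Tr := .node (.node (.node (.node (.node (.node (.node (.node (.leaf 0) (.leaf 0)) (.node (.leaf 468) (.leaf 0))) (.node (.node (.leaf 0) (.leaf 0)) (.leaf 0))) (.node (.node (.node (.leaf 0) (.leaf 0)) (.node (.leaf 0) (.leaf 0))) (.node (.node (.leaf 1313) (.leaf 0)) (.leaf 0)))) (.node (.node (.node (.node (.leaf 0) (.leaf 0)) (.node (.leaf 0) (.leaf 0))) (.node (.node (.leaf 0) (.leaf 0)) (.leaf 965))) (.node (.node (.node (.leaf 0) (.leaf 0)) (.node (.leaf 1556) (.leaf 0))) (.node (.node (.leaf 0) (.leaf 0)) (.leaf 0))))) (.node (.node (.node (.node (.node (.leaf 2389) (.leaf 0)) (.node (.leaf 0) (.leaf 0))) (.node (.node (.leaf 0) (.leaf 0)) (.leaf 0))) (.node (.node (.node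 (.leaf 0) (.leaf 0)) (.node (.leaf 3209) (.leaf 0))) (.node (.node (.leaf 813) (.leaf 0)) (.leaf 0)))) (.node (.node (.node (.node (.leaf 1453) (.leaf 2596)) (.node (.leaf 0) (.leaf 0))) (.node (.node (.leaf 909) (.leaf 3076)) (.leaf 0))) (.node (.node (.node (.leaf 0) (.leaf 0)) (.leaf 0)) (.node (.node (.leaf 0) (.leaf 0)) (.leaf 2009)))))) (.node (.node (.node (.node (.node (.node (.leaf 0) (.leaf 1040)) (.node (.leaf 3957) (.leaf 0))) (.node (.node (.leaf 2181) (.leaf 0)) (.leaf 0))) (.node (.node (.node (.leaf 1877) (.leaf 0)) (.node (.leaf 0) (.leaf 0))) (.node (.node (.leaf 0) (.leaf 0)) (.leaf 3604)))) (.node (.node (.node (.node (.leaf 0) (.leaf 0)) (.node (.leaf 0) (.leaf 0))) (.node (.node (.leaf 1105) (.leaf 0)) (.leaf 0))) (.node (.node (.node (.leaf 0) (.leaf 0)) (.node (.leaf 0) (.leaf 0))) (.node (.node (.leaf 0) (.leaf 0)) (.leaf 0))))) (.node (.node (.node (.node (.node (.leaf 0) (.leaf 3541)) (.node (.leaf 0) (.leaf 0))) (.node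 (.node (.leaf 1841) (.leaf 0)) (.leaf 784))) (.node (.node (.node (.leaf 0) (.leaf 0)) (.node (.leaf 2669) (.leaf 0))) (.node (.node (.leaf 1297) (.leaf 0)) (.leaf 0)))) (.node (.node (.node (.node (.leaf 0) (.leaf 0)) (.node (.leaf 0) (.leaf 0))) (.node (.node (.leaf 0) (.leaf 0)) (.leaf 2253))) (.node (.node (.node (.leaf 356) (.leaf 0)) (.leaf 0)) (.node (.node (.leaf 0) (.leaf 0)) (.leaf 0))))))) (.node (.node (.node (.node (.node (.node (.node (.leaf 0) (.leaf 0)) (.node (.leaf 0) (.leaf 0))) (.node (.node (.leaf 0) (.leaf 0)) (.leaf 0))) (.node (.node (.node (.leaf 2225) (.leaf 0)) (.node (.leaf 0) (.leaf 0))) (.node (.node (.leaf 0) (.leaf 0)) (.leaf 0)))) (.node (.node (.node (.node (.leaf 0) (.leaf 0)) (.node (.leaf 3705) (.leaf 0))) (.node (.node (.leaf 0) (.leaf 0)) (.leaf 0))) (.node (.node (.node (.leaf 0) (.leaf 0)) (.node (.leaf 0) (.leaf 0))) (.node (.node (.leaf 0) (.leaf 0)) (.leaf 3593))))) (.node (.node (.node (.node (.node (.leaf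 0) (.leaf 0)) (.node (.leaf 0) (.leaf 0))) (.node (.node (.leaf 0) (.leaf 0)) (.leaf 0))) (.node (.node (.node (.leaf 2257) (.leaf 3829)) (.node (.leaf 3337) (.leaf 0))) (.node (.node (.leaf 1069) (.leaf 0)) (.leaf 0)))) (.node (.node (.node (.node (.leaf 3801) (.leaf 0)) (.node (.leaf 3857) (.leaf 0))) (.node (.node (.leaf 0) (.leaf 0)) (.leaf 0))) (.node (.node (.node (.leaf 0) (.leaf 0)) (.leaf 0)) (.node (.node (.leaf 0) (.leaf 0)) (.leaf 0)))))) (.node (.node (.node (.node (.node (.node (.leaf 0) (.leaf 0)) (.node (.leaf 0) (.leaf 0))) (.node (.node (.leaf 0) (.leaf 0)) (.leaf 2457))) (.node (.node (.node (.leaf 1085) (.leaf 0)) (.node (.leaf 0) (.leaf 0))) (.node (.node (.leaf 0) (.leaf 0)) (.leaf 0)))) (.node (.node (.node (.node (.leaf 0) (.leaf 0)) (.node (.leaf 3341) (.leaf 0))) (.node (.node (.leaf 3252) (.leaf 0)) (.leaf 0))) (.node (.node (.node (.leaf 420) (.leaf 0)) (.node (.leaf 0) (.leaf 0))) (.node (.node (.leaf 0) (.leaf 0)) (.leaf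 0))))) (.node (.node (.node (.node (.node (.leaf 0) (.leaf 0)) (.node (.leaf 0) (.leaf 0))) (.node (.node (.leaf 0) (.leaf 0)) (.leaf 0))) (.node (.node (.node (.leaf 1061) (.leaf 0)) (.node (.leaf 589) (.leaf 0))) (.node (.node (.leaf 3169) (.leaf 0)) (.leaf 0)))) (.node (.node (.node (.node (.leaf 0) (.leaf 0)) (.node (.leaf 0) (.leaf 0))) (.node (.node (.leaf 0) (.leaf 0)) (.leaf 0))) (.node (.node (.node (.leaf 0) (.leaf 0)) (.leaf 189)) (.node (.node (.leaf 2593) (.leaf 0)) (.leaf 609)))))))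

/-- Part of `codeT`. -/
def codeT_p1011 : Tr := .node (.node (.node (.node (.node (.node (.node (.node (.leaf 0) (.leaf 0)) (.node (.leaf 0) (.leaf 3581))) (.node (.node (.leaf 0) (.leaf 0)) (.leaf 2909))) (.node (.node (.node (.leaf 993) (.leaf 0)) (.node (.leaf 0) (.leaf 0))) (.node (.node (.leaf 692) (.leaf 0)) (.leaf 0)))) (.node (.node (.node (.node (.leaf 0) (.leaf 0)) (.node (.leaf 3685) (.leaf 0))) (.node (.node (.leaf 0) (.leaf 0)) (.leaf 0))) (.node (.node (.node (.leaf 0) (.leaf 0)) (.node (.leaf 1709) (.leaf 0))) (.node (.node (.leaf 0) (.leaf 0)) (.leaf 0))))) (.node (.node (.node (.node (.node (.leaf 0) (.leaf 2645)) (.node (.leaf 0) (.leaf 0))) (.node (.node (.leaf 0) (.leaf 2868)) (.leaf 0))) (.node (.node (.node (.leaf 0) (.leaf 1789)) (.node (.leaf 397) (.leaf 0))) (.node (.node (.leaf 2189) (.leaf 0)) (.leaf 0)))) (.node (.node (.node (.node (.leaf 0) (.leaf 0)) (.node (.leaf 2324) (.leaf 0))) (.node (.node (.leaf 2121) (.leaf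 0)) (.leaf 0))) (.node (.node (.node (.leaf 0) (.leaf 0)) (.leaf 0)) (.node (.node (.leaf 0) (.leaf 0)) (.leaf 2653)))))) (.node (.node (.node (.node (.node (.node (.leaf 1753) (.leaf 0)) (.node (.leaf 0) (.leaf 0))) (.node (.node (.leaf 3792) (.leaf 0)) (.leaf 121))) (.node (.node (.node (.leaf 0) (.leaf 0)) (.node (.leaf 0) (.leaf 0))) (.node (.node (.leaf 0) (.leaf 0)) (.leaf 0)))) (.node (.node (.node (.node (.leaf 185) (.leaf 0)) (.node (.leaf 0) (.leaf 0))) (.node (.node (.leaf 3445) (.leaf 0)) (.leaf 1348))) (.node (.node (.node (.leaf 340) (.leaf 0)) (.node (.leaf 0) (.leaf 0))) (.node (.node (.leaf 0) (.leaf 0)) (.leaf 0))))) (.node (.node (.node (.node (.node (.leaf 0) (.leaf 0)) (.node (.leaf 109) (.leaf 0))) (.node (.node (.leaf 2228) (.leaf 0)) (.leaf 0))) (.node (.node (.node (.leaf 0) (.leaf 0)) (.node (.leaf 0) (.leaf 0))) (.node (.node (.leaf 0) (.leaf 0)) (.leaf 0)))) (.node (.node (.node (.node (.leaf 0) (.leaf 0)) (.node (.leaf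 0) (.leaf 0))) (.node (.node (.leaf 0) (.leaf 0)) (.leaf 0))) (.node (.node (.node (.leaf 0) (.leaf 0)) (.leaf 0)) (.node (.node (.leaf 0) (.leaf 0)) (.leaf 0))))))) (.node (.node (.node (.node (.node (.node (.node (.leaf 260) (.leaf 0)) (.node (.leaf 0) (.leaf 0))) (.node (.node (.leaf 417) (.leaf 0)) (.leaf 2852))) (.node (.node (.node (.leaf 0) (.leaf 0)) (.node (.leaf 0) (.leaf 0))) (.node (.node (.leaf 0) (.leaf 0)) (.leaf 0)))) (.node (.node (.node (.node (.leaf 2649) (.leaf 0)) (.node (.leaf 0) (.leaf 0))) (.node (.node (.leaf 0) (.leaf 0)) (.leaf 0))) (.node (.node (.node (.leaf 0) (.leaf 0)) (.node (.leaf 709) (.leaf 0))) (.node (.node (.leaf 0) (.leaf 0)) (.leaf 0))))) (.node (.node (.node (.node (.node (.leaf 1509) (.leaf 221)) (.node (.leaf 0) (.leaf 0))) (.node (.node (.leaf 2448) (.leaf 0)) (.leaf 0))) (.node (.node (.node (.leaf 2433) (.leaf 0)) (.node (.leaf 3757) (.leaf 0))) (.node (.node (.leaf 0) (.leaf 0)) (.leaf 0)))) (.node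 (.node (.node (.node (.leaf 0) (.leaf 0)) (.node (.leaf 0) (.leaf 0))) (.node (.node (.leaf 0) (.leaf 0)) (.leaf 0))) (.node (.node (.node (.leaf 1680) (.leaf 0)) (.leaf 0)) (.node (.node (.leaf 2917) (.leaf 0)) (.leaf 0)))))) (.node (.node (.node (.node (.node (.node (.leaf 0) (.leaf 0)) (.node (.leaf 0) (.leaf 0))) (.node (.node (.leaf 0) (.leaf 0)) (.leaf 0))) (.node (.node (.node (.leaf 0) (.leaf 0)) (.node (.leaf 0) (.leaf 0))) (.node (.node (.leaf 3249) (.leaf 3561)) (.leaf 3536)))) (.node (.node (.node (.node (.leaf 0) (.leaf 0)) (.node (.leaf 1053) (.leaf 0))) (.node (.node (.leaf 0) (.leaf 0)) (.leaf 0))) (.node (.node (.node (.leaf 1665) (.leaf 0)) (.leaf 229)) (.node (.node (.leaf 0) (.leaf 0)) (.leaf 0))))) (.node (.node (.node (.node (.node (.leaf 4013) (.leaf 0)) (.node (.leaf 0) (.leaf 0))) (.node (.node (.leaf 193) (.leaf 0)) (.leaf 0))) (.node (.node (.node (.leaf 1668) (.leaf 753)) (.node (.leaf 0) (.leaf 0))) (.node (.node (.leaf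 0) (.leaf 0)) (.leaf 0)))) (.node (.node (.node (.node (.leaf 0) (.leaf 0)) (.node (.leaf 0) (.leaf 0))) (.node (.node (.leaf 0) (.leaf 0)) (.leaf 969))) (.node (.node (.node (.leaf 0) (.leaf 0)) (.leaf 0)) (.node (.node (.leaf 0) (.leaf 0)) (.leaf 0)))))))

/-- Part of `codeT`. -/
def codeT_p1100 : Tr := .node (.node (.node (.node (.node (.node (.node (.node (.leaf 0) (.leaf 0)) (.node (.leaf 0) (.leaf 0))) (.node (.node (.leaf 0) (.leaf 0)) (.leaf 1140))) (.node (.node (.node (.leaf 0) (.leaf 0)) (.node (.leaf 0) (.leaf 0))) (.node (.node (.leaf 0) (.leaf 0)) (.leaf 0)))) (.node (.node (.node (.node (.leaf 0) (.leaf 4005)) (.node (.leaf 0) (.leaf 0))) (.node (.node (.leaf 0) (.leaf 2393)) (.leaf 4053))) (.node (.node (.node (.leaf 0) (.leaf 0)) (.node (.leaf 1549) (.leaf 0))) (.node (.node (.leaf 0) (.leaf 0)) (.leaf 0))))) (.node (.node (.node (.node (.node (.leaf 2037) (.leaf 0)) (.node (.leaf 0) (.leaf 0))) (.node (.node (.leaf 0) (.leaf 2557))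 (.leaf 1157))) (.node (.node (.node (.leaf 0) (.leaf 0)) (.node (.leaf 3925) (.leaf 0))) (.node (.node (.leaf 1049) (.leaf 0)) (.leaf 0)))) (.node (.node (.node (.node (.leaf 0) (.leaf 3236)) (.node (.leaf 1949) (.leaf 0))) (.node (.node (.leaf 0) (.leaf 2041)) (.leaf 0))) (.node (.node (.node (.leaf 0) (.leaf 932)) (.leaf 0)) (.node (.node (.leaf 0) (.leaf 0)) (.leaf 1233)))))) (.node (.node (.node (.node (.node (.node (.leaf 0) (.leaf 0)) (.node (.leaf 89) (.leaf 0))) (.node (.node (.leaf 2997) (.leaf 0)) (.leaf 0))) (.node (.node (.node (.leaf 4061) (.leaf 0)) (.node (.leaf 0) (.leaf 0))) (.node (.node (.leaf 0) (.leaf 0)) (.leaf 2145)))) (.node (.node (.node (.node (.leaf 0) (.leaf 0)) (.node (.leaf 0) (.leaf 0))) (.node (.node (.leaf 0) (.leaf 0)) (.leaf 0))) (.node (.node (.node (.leaf 0) (.leaf 0)) (.node (.leaf 2665) (.leaf 0))) (.node (.node (.leaf 0) (.leaf 0)) (.leaf 0))))) (.node (.node (.node (.node (.node (.leaf 0) (.leaf 0)) (.node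 (.leaf 0) (.leaf 0))) (.node (.node (.leaf 0) (.leaf 0)) (.leaf 789))) (.node (.node (.node (.leaf 0) (.leaf 0)) (.node (.leaf 0) (.leaf 0))) (.node (.node (.leaf 0) (.leaf 0)) (.leaf 0)))) (.node (.node (.node (.node (.leaf 0) (.leaf 0)) (.node (.leaf 3969) (.leaf 0))) (.node (.node (.leaf 0) (.leaf 0)) (.leaf 553))) (.node (.node (.node (.leaf 0) (.leaf 0)) (.leaf 0)) (.node (.node (.leaf 2117) (.leaf 0)) (.leaf 0))))))) (.node (.node (.node (.node (.node (.node (.node (.leaf 0) (.leaf 0)) (.node (.leaf 0) (.leaf 0))) (.node (.node (.leaf 0) (.leaf 0)) (.leaf 0))) (.node (.node (.node (.leaf 3693) (.leaf 0)) (.node (.leaf 0) (.leaf 0))) (.node (.node (.leaf 0) (.leaf 0)) (.leaf 0)))) (.node (.node (.node (.node (.leaf 0) (.leaf 0)) (.node (.leaf 0) (.leaf 0))) (.node (.node (.leaf 0) (.leaf 0)) (.leaf 0))) (.node (.node (.node (.leaf 0) (.leaf 0)) (.node (.leaf 0) (.leaf 0))) (.node (.node (.leaf 0) (.leaf 0)) (.leaf 2981))))) (.node (.node (.node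 (.node (.node (.leaf 0) (.leaf 0)) (.node (.leaf 0) (.leaf 0))) (.node (.node (.leaf 0) (.leaf 0)) (.leaf 0))) (.node (.node (.node (.leaf 3172) (.leaf 0)) (.node (.leaf 0) (.leaf 0))) (.node (.node (.leaf 3220) (.leaf 0)) (.leaf 0)))) (.node (.node (.node (.node (.leaf 0) (.leaf 0)) (.node (.leaf 0) (.leaf 2813))) (.node (.node (.leaf 0) (.leaf 0)) (.leaf 0))) (.node (.node (.node (.leaf 0) (.leaf 0)) (.leaf 0)) (.node (.node (.leaf 0) (.leaf 0)) (.leaf 0)))))) (.node (.node (.node (.node (.node (.node (.leaf 0) (.leaf 0)) (.node (.leaf 0) (.leaf 0))) (.node (.node (.leaf 3213) (.leaf 0)) (.leaf 2049))) (.node (.node (.node (.leaf 0) (.leaf 0)) (.node (.leaf 0) (.leaf 0))) (.node (.node (.leaf 0) (.leaf 0)) (.leaf 0)))) (.node (.node (.node (.node (.leaf 0) (.leaf 0)) (.node (.leaf 2125) (.leaf 0))) (.node (.node (.leaf 3457) (.leaf 0)) (.leaf 1093))) (.node (.node (.node (.leaf 3361) (.leaf 0)) (.node (.leaf 0) (.leaf 0))) (.node (.node (.leaf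 0) (.leaf 0)) (.leaf 0))))) (.node (.node (.node (.node (.node (.leaf 0) (.leaf 0)) (.node (.leaf 0) (.leaf 0))) (.node (.node (.leaf 0) (.leaf 0)) (.leaf 0))) (.node (.node (.node (.leaf 3333) (.leaf 0)) (.node (.leaf 2768) (.leaf 0))) (.node (.node (.leaf 1569) (.leaf 0)) (.leaf 0)))) (.node (.node (.node (.node (.leaf 1653) (.leaf 3521)) (.node (.leaf 0) (.leaf 0))) (.node (.node (.leaf 0) (.leaf 0)) (.leaf 4057))) (.node (.node (.node (.leaf 0) (.leaf 0)) (.leaf 0)) (.node (.node (.leaf 0) (.leaf 0)) (.leaf 0)))))))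

/-- Part of `codeT`. -/
def codeT_p1101 : Tr := .node (.node (.node (.node (.node (.node (.node (.node (.leaf 0) (.leaf 2013)) (.node (.leaf 3300) (.leaf 0))) (.node (.node (.leaf 0) (.leaf 0)) (.leaf 0))) (.node (.node (.node (.leaf 1588) (.leaf 0)) (.node (.leaf 0) (.leaf 0))) (.node (.node (.leaf 0) (.leaf 0)) (.leaf 0)))) (.node (.node (.node (.node (.leaf 0) (.leaf 0)) (.node (.leaf 0) (.leaf 0))) (.node (.node (.leaf 0) (.leaf 0)) (.leaf 0))) (.node (.node (.node (.leaf 2112) (.leaf 0)) (.node (.leaf 0) (.leaf 0))) (.node (.node (.leaf 0) (.leaf 0)) (.leaf 0))))) (.node (.node (.node (.node (.node (.leaf 0) (.leaf 0)) (.node (.leaf 0) (.leaf 0))) (.node (.node (.leaf 0) (.leaf 0)) (.leaf 0))) (.node (.node (.node (.leaf 0) (.leaf 20)) (.node (.leaf 0) (.leaf 0))) (.node (.node (.leaf 149) (.leaf 0)) (.leaf 0)))) (.node (.node (.node (.node (.leaf 0) (.leaf 0)) (.node (.leaf 2317) (.leaf 0))) (.node (.node (.leaf 1585) (.leaf 0)) (.leaf 0)))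 (.node (.node (.node (.leaf 0) (.leaf 0)) (.leaf 0)) (.node (.node (.leaf 0) (.leaf 0)) (.leaf 1616)))))) (.node (.node (.node (.node (.node (.node (.leaf 1473) (.leaf 0)) (.node (.leaf 0) (.leaf 0))) (.node (.node (.leaf 2941) (.leaf 0)) (.leaf 2901))) (.node (.node (.node (.leaf 881) (.leaf 0)) (.node (.leaf 0) (.leaf 0))) (.node (.node (.leaf 0) (.leaf 0)) (.leaf 0)))) (.node (.node (.node (.node (.leaf 3033) (.leaf 0)) (.node (.leaf 0) (.leaf 0))) (.node (.node (.leaf 3117) (.leaf 0)) (.leaf 4009))) (.node (.node (.node (.leaf 237) (.leaf 0)) (.node (.leaf 3233) (.leaf 0))) (.node (.node (.leaf 153) (.leaf 0)) (.leaf 0))))) (.node (.node (.node (.node (.node (.leaf 0) (.leaf 0)) (.node (.leaf 0) (.leaf 0))) (.node (.node (.leaf 1913) (.leaf 0)) (.leaf 0))) (.node (.node (.node (.leaf 0) (.leaf 0)) (.node (.leaf 0) (.leaf 0))) (.node (.node (.leaf 4036) (.leaf 0)) (.leaf 0)))) (.node (.node (.node (.node (.leaf 2429) (.leaf 0)) (.node (.leaf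 0) (.leaf 0))) (.node (.node (.leaf 0) (.leaf 0)) (.leaf 0))) (.node (.node (.node (.leaf 0) (.leaf 0)) (.leaf 0)) (.node (.node (.leaf 1641) (.leaf 0)) (.leaf 0))))))) (.node (.node (.node (.node (.node (.node (.node (.leaf 1265) (.leaf 0)) (.node (.leaf 1389) (.leaf 0))) (.node (.node (.leaf 2609) (.leaf 0)) (.leaf 793))) (.node (.node (.node (.leaf 0) (.leaf 0)) (.node (.leaf 0) (.leaf 0))) (.node (.node (.leaf 0) (.leaf 0)) (.leaf 0)))) (.node (.node (.node (.node (.leaf 1332) (.leaf 0)) (.node (.leaf 2473) (.leaf 0))) (.node (.node (.leaf 0) (.leaf 0)) (.leaf 0))) (.node (.node (.node (.leaf 0) (.leaf 0)) (.node (.leaf 3472) (.leaf 0))) (.node (.node (.leaf 0) (.leaf 0)) (.leaf 0))))) (.node (.node (.node (.node (.node (.leaf 1621) (.leaf 2397)) (.node (.leaf 0) (.leaf 2021))) (.node (.node (.leaf 1088) (.leaf 0)) (.leaf 0))) (.node (.node (.node (.leaf 901) (.leaf 0)) (.node (.leaf 0) (.leaf 0))) (.node (.node (.leaf 573) (.leaf 0)) (.leaf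 0)))) (.node (.node (.node (.node (.leaf 1081) (.leaf 0)) (.node (.leaf 0) (.leaf 0))) (.node (.node (.leaf 0) (.leaf 0)) (.leaf 0))) (.node (.node (.node (.leaf 3125) (.leaf 0)) (.leaf 0)) (.node (.node (.leaf 0) (.leaf 0)) (.leaf 481)))))) (.node (.node (.node (.node (.node (.node (.leaf 2777) (.leaf 0)) (.node (.leaf 0) (.leaf 0))) (.node (.node (.leaf 2865) (.leaf 0)) (.leaf 0))) (.node (.node (.node (.leaf 0) (.leaf 0)) (.node (.leaf 0) (.leaf 0))) (.node (.node (.leaf 2960) (.leaf 0)) (.leaf 0)))) (.node (.node (.node (.node (.leaf 1661) (.leaf 0)) (.node (.leaf 676) (.leaf 0))) (.node (.node (.leaf 3024) (.leaf 0)) (.leaf 0))) (.node (.node (.node (.leaf 533) (.leaf 0)) (.leaf 117)) (.node (.node (.leaf 0) (.leaf 0)) (.leaf 0))))) (.node (.node (.node (.node (.node (.leaf 4021) (.leaf 0)) (.node (.leaf 0) (.leaf 0))) (.node (.node (.leaf 0) (.leaf 1961)) (.leaf 0))) (.node (.node (.node (.leaf 1124) (.leaf 2541)) (.node (.leaf 3005) (.leaf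 0))) (.node (.node (.leaf 0) (.leaf 977)) (.leaf 3860)))) (.node (.node (.node (.node (.leaf 0) (.leaf 0)) (.node (.leaf 0) (.leaf 0))) (.node (.node (.leaf 4048) (.leaf 0)) (.leaf 3649))) (.node (.node (.node (.leaf 0) (.leaf 0)) (.leaf 0)) (.node (.node (.leaf 3133) (.leaf 0)) (.leaf 0)))))))

/-- Part of `codeT`. -/
def codeT_p1110 : Tr := .node (.node (.node (.node (.node (.node (.node (.node (.leaf 0) (.leaf 0)) (.node (.leaf 0) (.leaf 0))) (.node (.node (.leaf 0) (.leaf 0)) (.leaf 2756))) (.node (.node (.node (.leaf 0) (.leaf 0)) (.node (.leaf 0) (.leaf 0))) (.node (.node (.leaf 1725) (.leaf 0)) (.leaf 0)))) (.node (.node (.node (.node (.leaf 0) (.leaf 0)) (.node (.leaf 0) (.leaf 0))) (.node (.node (.leaf 0) (.leaf 0)) (.leaf 0))) (.node (.node (.node (.leaf 1293) (.leaf 0)) (.node (.leaf 0) (.leaf 0))) (.node (.node (.leaf 0) (.leaf 0)) (.leaf 0))))) (.node (.node (.node (.node (.node (.leaf 0) (.leaf 0)) (.node (.leaf 0) (.leaf 0))) (.node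 (.node (.leaf 0) (.leaf 0)) (.leaf 0))) (.node (.node (.node (.leaf 0) (.leaf 0)) (.node (.leaf 1705) (.leaf 2805))) (.node (.node (.leaf 1909) (.leaf 0)) (.leaf 0)))) (.node (.node (.node (.node (.leaf 0) (.leaf 0)) (.node (.leaf 0) (.leaf 3557))) (.node (.node (.leaf 0) (.leaf 0)) (.leaf 0))) (.node (.node (.node (.leaf 0) (.leaf 0)) (.leaf 0)) (.node (.node (.leaf 0) (.leaf 0)) (.leaf 0)))))) (.node (.node (.node (.node (.node (.node (.leaf 0) (.leaf 0)) (.node (.leaf 0) (.leaf 0))) (.node (.node (.leaf 337) (.leaf 0)) (.leaf 0))) (.node (.node (.node (.leaf 3701) (.leaf 0)) (.node (.leaf 0) (.leaf 0))) (.node (.node (.leaf 0) (.leaf 1965)) (.leaf 0)))) (.node (.node (.node (.node (.leaf 0) (.leaf 0)) (.node (.leaf 1409) (.leaf 0))) (.node (.node (.leaf 85) (.leaf 0)) (.leaf 0))) (.node (.node (.node (.leaf 0) (.leaf 0)) (.node (.leaf 0) (.leaf 0))) (.node (.node (.leaf 144) (.leaf 0)) (.leaf 0))))) (.node (.node (.node (.node (.node (.leaf 0)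 (.leaf 0)) (.node (.leaf 65) (.leaf 0))) (.node (.node (.leaf 0) (.leaf 0)) (.leaf 0))) (.node (.node (.node (.leaf 0) (.leaf 0)) (.node (.leaf 0) (.leaf 0))) (.node (.node (.leaf 0) (.leaf 0)) (.leaf 0)))) (.node (.node (.node (.node (.leaf 660) (.leaf 0)) (.node (.leaf 0) (.leaf 0))) (.node (.node (.leaf 0) (.leaf 0)) (.leaf 0))) (.node (.node (.node (.leaf 1172) (.leaf 0)) (.leaf 0)) (.node (.node (.leaf 825) (.leaf 0)) (.leaf 0))))))) (.node (.node (.node (.node (.node (.node (.node (.leaf 0) (.leaf 0)) (.node (.leaf 0) (.leaf 0))) (.node (.node (.leaf 0) (.leaf 0)) (.leaf 0))) (.node (.node (.node (.leaf 0) (.leaf 0)) (.node (.leaf 0) (.leaf 0))) (.node (.node (.leaf 0) (.leaf 0)) (.leaf 0)))) (.node (.node (.node (.node (.leaf 0) (.leaf 0)) (.node (.leaf 0) (.leaf 0))) (.node (.node (.leaf 0) (.leaf 0)) (.leaf 0))) (.node (.node (.node (.leaf 0) (.leaf 0)) (.node (.leaf 0) (.leaf 0))) (.node (.node (.leaf 0) (.leaf 0)) (.leaf 717))))) (.node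 (.node (.node (.node (.node (.leaf 0) (.leaf 0)) (.node (.leaf 0) (.leaf 0))) (.node (.node (.leaf 0) (.leaf 0)) (.leaf 0))) (.node (.node (.node (.leaf 1693) (.leaf 0)) (.node (.leaf 0) (.leaf 0))) (.node (.node (.leaf 0) (.leaf 0)) (.leaf 0)))) (.node (.node (.node (.node (.leaf 2356) (.leaf 0)) (.node (.leaf 129) (.leaf 0))) (.node (.node (.leaf 0) (.leaf 0)) (.leaf 0))) (.node (.node (.node (.leaf 0) (.leaf 0)) (.leaf 0)) (.node (.node (.leaf 0) (.leaf 0)) (.leaf 0)))))) (.node (.node (.node (.node (.node (.node (.leaf 0) (.leaf 0)) (.node (.leaf 0) (.leaf 0))) (.node (.node (.leaf 740) (.leaf 0)) (.leaf 0))) (.node (.node (.node (.leaf 1077) (.leaf 0)) (.node (.leaf 0) (.leaf 0))) (.node (.node (.leaf 0) (.leaf 0)) (.leaf 0)))) (.node (.node (.node (.node (.leaf 3380) (.leaf 0)) (.node (.leaf 3773) (.leaf 0))) (.node (.node (.leaf 0) (.leaf 0)) (.leaf 0))) (.node (.node (.node (.leaf 1941) (.leaf 0)) (.leaf 0)) (.node (.node (.leaf 0) (.leaf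 0)) (.leaf 0))))) (.node (.node (.node (.node (.node (.leaf 0) (.leaf 0)) (.node (.leaf 0) (.leaf 0))) (.node (.node (.leaf 0) (.leaf 0)) (.leaf 0))) (.node (.node (.node (.leaf 2485) (.leaf 0)) (.node (.leaf 0) (.leaf 0))) (.node (.node (.leaf 2884) (.leaf 0)) (.leaf 0)))) (.node (.node (.node (.node (.leaf 1981) (.leaf 3009)) (.node (.leaf 0) (.leaf 0))) (.node (.node (.leaf 0) (.leaf 0)) (.leaf 0))) (.node (.node (.node (.leaf 0) (.leaf 3777)) (.leaf 0)) (.node (.node (.leaf 653) (.leaf 0)) (.leaf 2533)))))))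

/-- Part of `codeT`. -/
def codeT_p1111 : Tr := .node (.node (.node (.node (.node (.node (.node (.node (.leaf 0) (.leaf 0)) (.node (.leaf 0) (.leaf 1749))) (.node (.node (.leaf 0) (.leaf 0)) (.leaf 3364))) (.node (.node (.node (.leaf 3433) (.leaf 0)) (.node (.leaf 0) (.leaf 0))) (.node (.node (.leaf 0) (.leaf 0)) (.leaf 3093)))) (.node (.node (.node (.node (.leaf 0) (.leaf 0)) (.node (.leaf 0) (.leaf 0))) (.node (.node (.leaf 0) (.leaf 0)) (.leaf 0))) (.node (.node (.node (.leaf 0) (.leaf 0)) (.node (.leaf 3049) (.leaf 0))) (.node (.node (.leaf 0) (.leaf 0)) (.leaf 0))))) (.node (.node (.node (.node (.node (.leaf 0) (.leaf 0)) (.node (.leaf 0) (.leaf 0))) (.node (.node (.leaf 0) (.leaf 0)) (.leaf 2881))) (.node (.node (.node (.leaf 3297) (.leaf 0)) (.node (.leaf 0) (.leaf 0))) (.node (.node (.leaf 2161) (.leaf 0)) (.leaf 0)))) (.node (.node (.node (.node (.leaf 0) (.leaf 2829)) (.node (.leaf 0) (.leaf 0))) (.node (.node (.leaf 3453) (.leaf 0))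 (.leaf 549))) (.node (.node (.node (.leaf 0) (.leaf 0)) (.leaf 0)) (.node (.node (.leaf 0) (.leaf 0)) (.leaf 1412)))))) (.node (.node (.node (.node (.node (.node (.leaf 52) (.leaf 0)) (.node (.leaf 3652) (.leaf 0))) (.node (.node (.leaf 832) (.leaf 0)) (.leaf 0))) (.node (.node (.node (.leaf 0) (.leaf 0)) (.node (.leaf 0) (.leaf 0))) (.node (.node (.leaf 0) (.leaf 0)) (.leaf 0)))) (.node (.node (.node (.node (.leaf 0) (.leaf 0)) (.node (.leaf 157) (.leaf 0))) (.node (.node (.leaf 645) (.leaf 0)) (.leaf 0))) (.node (.node (.node (.leaf 3908) (.leaf 0)) (.node (.leaf 0) (.leaf 0))) (.node (.node (.leaf 0) (.leaf 0)) (.leaf 0))))) (.node (.node (.node (.node (.node (.leaf 0) (.leaf 0)) (.node (.leaf 0) (.leaf 0))) (.node (.node (.leaf 0) (.leaf 0)) (.leaf 929))) (.node (.node (.node (.leaf 0) (.leaf 0)) (.node (.leaf 0) (.leaf 0))) (.node (.node (.leaf 0) (.leaf 0)) (.leaf 0)))) (.node (.node (.node (.node (.leaf 0) (.leaf 0)) (.node (.leaf 2741) (.leaf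 0))) (.node (.node (.leaf 0) (.leaf 0)) (.leaf 3669))) (.node (.node (.node (.leaf 0) (.leaf 0)) (.leaf 0)) (.node (.node (.leaf 0) (.leaf 0)) (.leaf 0))))))) (.node (.node (.node (.node (.node (.node (.node (.leaf 0) (.leaf 0)) (.node (.leaf 0) (.leaf 4089))) (.node (.node (.leaf 1188) (.leaf 0)) (.leaf 0))) (.node (.node (.node (.leaf 0) (.leaf 0)) (.node (.leaf 0) (.leaf 0))) (.node (.node (.leaf 0) (.leaf 0)) (.leaf 0)))) (.node (.node (.node (.node (.leaf 0) (.leaf 0)) (.node (.leaf 0) (.leaf 0))) (.node (.node (.leaf 0) (.leaf 0)) (.leaf 0))) (.node (.node (.node (.leaf 0) (.leaf 0)) (.node (.leaf 0) (.leaf 0))) (.node (.node (.leaf 0) (.leaf 0)) (.leaf 0))))) (.node (.node (.node (.node (.node (.leaf 4069) (.leaf 0)) (.node (.leaf 0) (.leaf 0))) (.node (.node (.leaf 0) (.leaf 0)) (.leaf 0))) (.node (.node (.node (.leaf 3012) (.leaf 0)) (.node (.leaf 372) (.leaf 0))) (.node (.node (.leaf 841) (.leaf 0)) (.leaf 0)))) (.node (.node (.node (.node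 (.leaf 0) (.leaf 0)) (.node (.leaf 0) (.leaf 0))) (.node (.node (.leaf 0) (.leaf 0)) (.leaf 0))) (.node (.node (.node (.leaf 3141) (.leaf 0)) (.leaf 0)) (.node (.node (.leaf 3481) (.leaf 0)) (.leaf 0)))))) (.node (.node (.node (.node (.node (.node (.leaf 2521) (.leaf 0)) (.node (.leaf 0) (.leaf 0))) (.node (.node (.leaf 0) (.leaf 0)) (.leaf 0))) (.node (.node (.node (.leaf 0) (.leaf 0)) (.node (.leaf 0) (.leaf 0))) (.node (.node (.leaf 581) (.leaf 0)) (.leaf 0)))) (.node (.node (.node (.node (.leaf 0) (.leaf 0)) (.node (.leaf 0) (.leaf 0))) (.node (.node (.leaf 208) (.leaf 0)) (.leaf 3073))) (.node (.node (.node (.leaf 401) (.leaf 0)) (.leaf 0)) (.node (.node (.leaf 0) (.leaf 0)) (.leaf 0))))) (.node (.node (.node (.node (.node (.leaf 0) (.leaf 2209)) (.node (.leaf 0) (.leaf 0))) (.node (.node (.leaf 0) (.leaf 3281)) (.leaf 0))) (.node (.node (.node (.leaf 0) (.leaf 3833)) (.node (.leaf 0) (.leaf 0))) (.node (.node (.leaf 0) (.leaf 0)) (.leaf 0))))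 (.node (.node (.node (.node (.leaf 0) (.leaf 0)) (.node (.leaf 0) (.leaf 0))) (.node (.node (.leaf 101) (.leaf 0)) (.leaf 0))) (.node (.node (.node (.leaf 0) (.leaf 0)) (.leaf 0)) (.node (.node (.leaf 1885) (.leaf 0)) (.leaf 0)))))))

/-- The vector of each point, as twelve bits. -/
def codeT : Tr := .node (.node (.node (.node (codeT_p0000) (codeT_p0001)) (.node (codeT_p0010) (codeT_p0011))) (.node (.node (codeT_p0100) (codeT_p0101)) (.node (codeT_p0110) (codeT_p0111)))) (.node (.node (.node (codeT_p1000) (codeT_p1001)) (.node (codeT_p1010) (codeT_p1011))) (.node (.node (codeT_p1100) (codeT_p1101)) (.node (codeT_p1110) (codeT_p1111))))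

/-- Part of `invT`. -/
def invT_p0000 : Tr := .node (.node (.node (.node (.node (.node (.node (.node (.leaf 0) (.leaf 0)) (.node (.leaf 0) (.leaf 0))) (.node (.node (.leaf 0) (.leaf 6)) (.node (.leaf 2294) (.leaf 2041)))) (.node (.node (.node (.leaf 0) (.leaf 2041)) (.node (.leaf 6) (.leaf 2294))) (.node (.node (.leaf 0) (.leaf 2294)) (.node (.leaf 2041) (.leaf 6))))) (.node (.node (.node (.node (.leaf 0) (.leaf 603)) (.node (.leaf 441) (.leaf 395))) (.node (.node (.leaf 760) (.leaf 0)) (.node (.leaf 0) (.leaf 0)))) (.node (.node (.node (.leaf 559) (.leaf 0)) (.node (.leaf 0) (.leaf 0))) (.node (.node (.leaf 504) (.leaf 0)) (.node (.leaf 0) (.leaf 0)))))) (.node (.node (.node (.node (.node (.leaf 0) (.leaf 395)) (.node (.leaf 603) (.leaf 441))) (.node (.node (.leaf 504) (.leaf 0)) (.node (.leaf 0) (.leaf 0)))) (.node (.node (.node (.leaf 760) (.leaf 0)) (.node (.leaf 0) (.leaf 0))) (.node (.node (.leaf 559) (.leaf 0)) (.node (.leaf 0) (.leaf 0)))))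 (.node (.node (.node (.node (.leaf 0) (.leaf 441)) (.node (.leaf 395) (.leaf 603))) (.node (.node (.leaf 559) (.leaf 0)) (.node (.leaf 0) (.leaf 0)))) (.node (.node (.node (.leaf 504) (.leaf 0)) (.node (.leaf 0) (.leaf 0))) (.node (.node (.leaf 760) (.leaf 0)) (.node (.leaf 0) (.leaf 0))))))) (.node (.node (.node (.node (.node (.node (.leaf 0) (.leaf 2085)) (.node (.leaf 1809) (.leaf 10))) (.node (.node (.leaf 1854) (.leaf 0)) (.node (.leaf 0) (.leaf 0)))) (.node (.node (.node (.leaf 1637) (.leaf 0)) (.node (.leaf 0) (.leaf 0))) (.node (.node (.leaf 16) (.leaf 0)) (.node (.leaf 0) (.leaf 0))))) (.node (.node (.node (.node (.leaf 636) (.leaf 0)) (.node (.leaf 0) (.leaf 0))) (.node (.node (.leaf 0) (.leaf 676)) (.node (.leaf 1808) (.leaf 1774)))) (.node (.node (.node (.leaf 0) (.leaf 2040)) (.node (.leaf 689) (.leaf 1634))) (.node (.node (.leaf 0) (.leaf 1995)) (.node (.leaf 1806) (.leaf 92)))))) (.node (.node (.node (.node (.node (.leaf 703) (.leaf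 0)) (.node (.leaf 0) (.leaf 0))) (.node (.node (.leaf 0) (.leaf 1444)) (.node (.leaf 1853) (.leaf 846)))) (.node (.node (.node (.leaf 0) (.leaf 1636)) (.node (.leaf 763) (.leaf 699))) (.node (.node (.leaf 0) (.leaf 1016)) (.node (.leaf 557) (.leaf 1395))))) (.node (.node (.node (.node (.leaf 935) (.leaf 0)) (.node (.leaf 0) (.leaf 0))) (.node (.node (.leaf 0) (.leaf 862)) (.node (.leaf 1435) (.leaf 605)))) (.node (.node (.node (.leaf 0) (.leaf 1602)) (.node (.leaf 1578) (.leaf 827))) (.node (.node (.leaf 0) (.leaf 477)) (.node (.leaf 988) (.leaf 1200)))))))) (.node (.node (.node (.node (.node (.node (.node (.leaf 0) (.leaf 10)) (.node (.leaf 2085) (.leaf 1809))) (.node (.node (.leaf 16) (.leaf 0)) (.node (.leaf 0) (.leaf 0)))) (.node (.node (.node (.leaf 1854) (.leaf 0)) (.node (.leaf 0) (.leaf 0))) (.node (.node (.leaf 1637) (.leaf 0)) (.node (.leaf 0) (.leaf 0))))) (.node (.node (.node (.node (.leaf 935) (.leaf 0)) (.node (.leaf 0) (.leaf 0)))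 (.node (.node (.leaf 0) (.leaf 1200)) (.node (.leaf 477) (.leaf 988)))) (.node (.node (.node (.leaf 0) (.leaf 605)) (.node (.leaf 862) (.leaf 1435))) (.node (.node (.leaf 0) (.leaf 827)) (.node (.leaf 1602) (.leaf 1578)))))) (.node (.node (.node (.node (.node (.leaf 636) (.leaf 0)) (.node (.leaf 0) (.leaf 0))) (.node (.node (.leaf 0) (.leaf 92)) (.node (.leaf 1995) (.leaf 1806)))) (.node (.node (.node (.leaf 0) (.leaf 1774)) (.node (.leaf 676) (.leaf 1808))) (.node (.node (.leaf 0) (.leaf 1634)) (.node (.leaf 2040) (.leaf 689))))) (.node (.node (.node (.node (.leaf 703) (.leaf 0)) (.node (.leaf 0) (.leaf 0))) (.node (.node (.leaf 0) (.leaf 1395)) (.node (.leaf 1016) (.leaf 557)))) (.node (.node (.node (.leaf 0) (.leaf 846)) (.node (.leaf 1444) (.leaf 1853))) (.node (.node (.leaf 0) (.leaf 699)) (.node (.leaf 1636) (.leaf 763))))))) (.node (.node (.node (.node (.node (.node (.leaf 0) (.leaf 1809)) (.node (.leaf 10) (.leaf 2085))) (.node (.node (.leaf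 1637) (.leaf 0)) (.node (.leaf 0) (.leaf 0)))) (.node (.node (.node (.leaf 16) (.leaf 0)) (.node (.leaf 0) (.leaf 0))) (.node (.node (.leaf 1854) (.leaf 0)) (.node (.leaf 0) (.leaf 0))))) (.node (.node (.node (.node (.leaf 703) (.leaf 0)) (.node (.leaf 0) (.leaf 0))) (.node (.node (.leaf 0) (.leaf 763)) (.node (.leaf 699) (.leaf 1636)))) (.node (.node (.node (.leaf 0) (.leaf 557)) (.node (.leaf 1395) (.leaf 1016))) (.node (.node (.leaf 0) (.leaf 1853)) (.node (.leaf 846) (.leaf 1444)))))) (.node (.node (.node (.node (.node (.leaf 935) (.leaf 0)) (.node (.leaf 0) (.leaf 0))) (.node (.node (.leaf 0) (.leaf 1578)) (.node (.leaf 827) (.leaf 1602)))) (.node (.node (.node (.leaf 0) (.leaf 988)) (.node (.leaf 1200) (.leaf 477))) (.node (.node (.leaf 0) (.leaf 1435)) (.node (.leaf 605) (.leaf 862))))) (.node (.node (.node (.node (.leaf 636) (.leaf 0)) (.node (.leaf 0) (.leaf 0))) (.node (.node (.leaf 0) (.leaf 689)) (.node (.leaf 1634) (.leaf 2040)))) (.node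 (.node (.node (.leaf 0) (.leaf 1806)) (.node (.leaf 92) (.leaf 1995))) (.node (.node (.leaf 0) (.leaf 1808)) (.node (.leaf 1774) (.leaf 676))))))))

/-- Part of `invT`. -/
def invT_p0001 : Tr := .node (.node (.node (.node (.node (.node (.node (.node (.leaf 0) (.leaf 42)) (.node (.leaf 2757) (.leaf 2873))) (.node (.node (.leaf 29) (.leaf 0)) (.node (.leaf 0) (.leaf 0)))) (.node (.node (.node (.leaf 2500) (.leaf 0)) (.node (.leaf 0) (.leaf 0))) (.node (.node (.leaf 2625) (.leaf 0)) (.node (.leaf 0) (.leaf 0))))) (.node (.node (.node (.node (.leaf 473) (.leaf 0)) (.node (.leaf 0) (.leaf 0))) (.node (.node (.leaf 0) (.leaf 1709)) (.node (.leaf 236) (.leaf 554)))) (.node (.node (.node (.leaf 0) (.leaf 298)) (.node (.leaf 431) (.leaf 887))) (.node (.node (.leaf 0) (.leaf 438)) (.node (.leaf 1071) (.leaf 2138)))))) (.node (.node (.node (.node (.node (.leaf 196) (.leaf 0)) (.node (.leaf 0) (.leaf 0))) (.node (.node (.leaf 0) (.leaf 70)) (.node (.leaf 1358)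 (.leaf 1206)))) (.node (.node (.node (.leaf 0) (.leaf 1174)) (.node (.leaf 875) (.leaf 351))) (.node (.node (.leaf 0) (.leaf 1020)) (.node (.leaf 448) (.leaf 1543))))) (.node (.node (.node (.node (.leaf 137) (.leaf 0)) (.node (.leaf 0) (.leaf 0))) (.node (.node (.leaf 0) (.leaf 1999)) (.node (.leaf 832) (.leaf 490)))) (.node (.node (.node (.leaf 0) (.leaf 680)) (.node (.leaf 1998) (.leaf 858))) (.node (.node (.leaf 0) (.leaf 381)) (.node (.leaf 697) (.leaf 145))))))) (.node (.node (.node (.node (.node (.node (.leaf 2379) (.leaf 0)) (.node (.leaf 0) (.leaf 0))) (.node (.node (.leaf 0) (.leaf 338)) (.node (.leaf 2769) (.leaf 1229)))) (.node (.node (.node (.leaf 0) (.leaf 2937)) (.node (.leaf 1915) (.leaf 2012))) (.node (.node (.leaf 0) (.leaf 1413)) (.node (.leaf 1829) (.leaf 369))))) (.node (.node (.node (.node (.leaf 0) (.leaf 344)) (.node (.leaf 1272) (.leaf 2378))) (.node (.node (.leaf 429) (.leaf 0)) (.node (.leaf 0) (.leaf 0)))) (.node (.node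 (.node (.leaf 1474) (.leaf 0)) (.node (.leaf 0) (.leaf 0))) (.node (.node (.leaf 2624) (.leaf 0)) (.node (.leaf 0) (.leaf 0)))))) (.node (.node (.node (.node (.node (.leaf 0) (.leaf 854)) (.node (.leaf 569) (.leaf 1366))) (.node (.node (.leaf 1029) (.leaf 0)) (.node (.leaf 0) (.leaf 0)))) (.node (.node (.node (.leaf 714) (.leaf 0)) (.node (.leaf 0) (.leaf 0))) (.node (.node (.leaf 1530) (.leaf 0)) (.node (.leaf 0) (.leaf 0))))) (.node (.node (.node (.node (.leaf 0) (.leaf 487)) (.node (.leaf 851) (.leaf 185))) (.node (.node (.leaf 620) (.leaf 0)) (.node (.leaf 0) (.leaf 0)))) (.node (.node (.node (.leaf 1024) (.leaf 0)) (.node (.leaf 0) (.leaf 0))) (.node (.node (.leaf 231) (.leaf 0)) (.node (.leaf 0) (.leaf 0)))))))) (.node (.node (.node (.node (.node (.node (.node (.leaf 47) (.leaf 0)) (.node (.leaf 0) (.leaf 0))) (.node (.node (.leaf 0) (.leaf 155)) (.node (.leaf 183) (.leaf 215)))) (.node (.node (.node (.leaf 0) (.leaf 144)) (.node (.leaf 1734)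 (.leaf 2637))) (.node (.node (.leaf 0) (.leaf 267)) (.node (.leaf 2548) (.leaf 1062))))) (.node (.node (.node (.node (.leaf 0) (.leaf 1539)) (.node (.leaf 297) (.leaf 681))) (.node (.node (.leaf 1375) (.leaf 0)) (.node (.leaf 0) (.leaf 0)))) (.node (.node (.node (.leaf 377) (.leaf 0)) (.node (.leaf 0) (.leaf 0))) (.node (.node (.leaf 544) (.leaf 0)) (.node (.leaf 0) (.leaf 0)))))) (.node (.node (.node (.node (.node (.leaf 0) (.leaf 48)) (.node (.leaf 1538) (.leaf 1401))) (.node (.node (.leaf 65) (.leaf 0)) (.node (.leaf 0) (.leaf 0)))) (.node (.node (.node (.leaf 1374) (.leaf 0)) (.node (.leaf 0) (.leaf 0))) (.node (.node (.leaf 1217) (.leaf 0)) (.node (.leaf 0) (.leaf 0))))) (.node (.node (.node (.node (.leaf 0) (.leaf 1788)) (.node (.leaf 693) (.leaf 621))) (.node (.node (.leaf 1616) (.leaf 0)) (.node (.leaf 0) (.leaf 0)))) (.node (.node (.node (.leaf 553) (.leaf 0)) (.node (.leaf 0) (.leaf 0))) (.node (.node (.leaf 781) (.leaf 0)) (.node (.leaf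 0) (.leaf 0))))))) (.node (.node (.node (.node (.node (.node (.leaf 2244) (.leaf 0)) (.node (.leaf 0) (.leaf 0))) (.node (.node (.leaf 0) (.leaf 112)) (.node (.leaf 1551) (.leaf 2432)))) (.node (.node (.node (.leaf 0) (.leaf 1716)) (.node (.leaf 106) (.leaf 1565))) (.node (.node (.leaf 0) (.leaf 2690)) (.node (.leaf 1730) (.leaf 2245))))) (.node (.node (.node (.node (.leaf 0) (.leaf 379)) (.node (.leaf 339) (.leaf 1072))) (.node (.node (.leaf 485) (.leaf 0)) (.node (.leaf 0) (.leaf 0)))) (.node (.node (.node (.leaf 272) (.leaf 0)) (.node (.leaf 0) (.leaf 0))) (.node (.node (.leaf 1273) (.leaf 0)) (.node (.leaf 0) (.leaf 0)))))) (.node (.node (.node (.node (.node (.leaf 0) (.leaf 1004)) (.node (.leaf 1035) (.leaf 446))) (.node (.node (.leaf 1186) (.leaf 0)) (.node (.leaf 0) (.leaf 0)))) (.node (.node (.node (.leaf 1212) (.leaf 0)) (.node (.leaf 0) (.leaf 0))) (.node (.node (.leaf 567) (.leaf 0)) (.node (.leaf 0) (.leaf 0))))) (.node (.node (.node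 (.node (.leaf 0) (.leaf 543)) (.node (.leaf 2243) (.leaf 1034))) (.node (.node (.leaf 437) (.leaf 0)) (.node (.leaf 0) (.leaf 0)))) (.node (.node (.node (.leaf 2499) (.leaf 0)) (.node (.leaf 0) (.leaf 0))) (.node (.node (.leaf 1211) (.leaf 0)) (.node (.leaf 0) (.leaf 0))))))))

/-- Part of `invT`. -/
def invT_p0010 : Tr := .node (.node (.node (.node (.node (.node (.node (.node (.leaf 0) (.leaf 2873)) (.node (.leaf 42) (.leaf 2757))) (.node (.node (.leaf 2625) (.leaf 0)) (.node (.leaf 0) (.leaf 0)))) (.node (.node (.node (.leaf 29) (.leaf 0)) (.node (.leaf 0) (.leaf 0))) (.node (.node (.leaf 2500) (.leaf 0)) (.node (.leaf 0) (.leaf 0))))) (.node (.node (.node (.node (.leaf 137) (.leaf 0)) (.node (.leaf 0) (.leaf 0))) (.node (.node (.leaf 0) (.leaf 145)) (.node (.leaf 381) (.leaf 697)))) (.node (.node (.node (.leaf 0) (.leaf 490)) (.node (.leaf 1999) (.leaf 832))) (.node (.node (.leaf 0) (.leaf 858)) (.node (.leaf 680) (.leaf 1998)))))) (.node (.node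 (.node (.node (.node (.leaf 473) (.leaf 0)) (.node (.leaf 0) (.leaf 0))) (.node (.node (.leaf 0) (.leaf 2138)) (.node (.leaf 438) (.leaf 1071)))) (.node (.node (.node (.leaf 0) (.leaf 554)) (.node (.leaf 1709) (.leaf 236))) (.node (.node (.leaf 0) (.leaf 887)) (.node (.leaf 298) (.leaf 431))))) (.node (.node (.node (.node (.leaf 196) (.leaf 0)) (.node (.leaf 0) (.leaf 0))) (.node (.node (.leaf 0) (.leaf 1543)) (.node (.leaf 1020) (.leaf 448)))) (.node (.node (.node (.leaf 0) (.leaf 1206)) (.node (.leaf 70) (.leaf 1358))) (.node (.node (.leaf 0) (.leaf 351)) (.node (.leaf 1174) (.leaf 875))))))) (.node (.node (.node (.node (.node (.node (.leaf 2244) (.leaf 0)) (.node (.leaf 0) (.leaf 0))) (.node (.node (.leaf 0) (.leaf 2245)) (.node (.leaf 2690) (.leaf 1730)))) (.node (.node (.node (.leaf 0) (.leaf 2432)) (.node (.leaf 112) (.leaf 1551))) (.node (.node (.leaf 0) (.leaf 1565)) (.node (.leaf 1716) (.leaf 106))))) (.node (.node (.node (.node (.leaf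 0) (.leaf 1034)) (.node (.leaf 543) (.leaf 2243))) (.node (.node (.leaf 1211) (.leaf 0)) (.node (.leaf 0) (.leaf 0)))) (.node (.node (.node (.leaf 437) (.leaf 0)) (.node (.leaf 0) (.leaf 0))) (.node (.node (.leaf 2499) (.leaf 0)) (.node (.leaf 0) (.leaf 0)))))) (.node (.node (.node (.node (.node (.leaf 0) (.leaf 1072)) (.node (.leaf 379) (.leaf 339))) (.node (.node (.leaf 1273) (.leaf 0)) (.node (.leaf 0) (.leaf 0)))) (.node (.node (.node (.leaf 485) (.leaf 0)) (.node (.leaf 0) (.leaf 0))) (.node (.node (.leaf 272) (.leaf 0)) (.node (.leaf 0) (.leaf 0))))) (.node (.node (.node (.node (.leaf 0) (.leaf 446)) (.node (.leaf 1004) (.leaf 1035))) (.node (.node (.leaf 567) (.leaf 0)) (.node (.leaf 0) (.leaf 0)))) (.node (.node (.node (.leaf 1186) (.leaf 0)) (.node (.leaf 0) (.leaf 0))) (.node (.node (.leaf 1212) (.leaf 0)) (.node (.leaf 0) (.leaf 0)))))))) (.node (.node (.node (.node (.node (.node (.node (.leaf 2379) (.leaf 0)) (.node (.leaf 0) (.leaf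 0))) (.node (.node (.leaf 0) (.leaf 369)) (.node (.leaf 1413) (.leaf 1829)))) (.node (.node (.node (.leaf 0) (.leaf 1229)) (.node (.leaf 338) (.leaf 2769))) (.node (.node (.leaf 0) (.leaf 2012)) (.node (.leaf 2937) (.leaf 1915))))) (.node (.node (.node (.node (.leaf 0) (.leaf 185)) (.node (.leaf 487) (.leaf 851))) (.node (.node (.leaf 231) (.leaf 0)) (.node (.leaf 0) (.leaf 0)))) (.node (.node (.node (.leaf 620) (.leaf 0)) (.node (.leaf 0) (.leaf 0))) (.node (.node (.leaf 1024) (.leaf 0)) (.node (.leaf 0) (.leaf 0)))))) (.node (.node (.node (.node (.node (.leaf 0) (.leaf 2378)) (.node (.leaf 344) (.leaf 1272))) (.node (.node (.leaf 2624) (.leaf 0)) (.node (.leaf 0) (.leaf 0)))) (.node (.node (.node (.leaf 429) (.leaf 0)) (.node (.leaf 0) (.leaf 0))) (.node (.node (.leaf 1474) (.leaf 0)) (.node (.leaf 0) (.leaf 0))))) (.node (.node (.node (.node (.leaf 0) (.leaf 1366)) (.node (.leaf 854) (.leaf 569))) (.node (.node (.leaf 1530) (.leaf 0)) (.node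 (.leaf 0) (.leaf 0)))) (.node (.node (.node (.leaf 1029) (.leaf 0)) (.node (.leaf 0) (.leaf 0))) (.node (.node (.leaf 714) (.leaf 0)) (.node (.leaf 0) (.leaf 0))))))) (.node (.node (.node (.node (.node (.node (.leaf 47) (.leaf 0)) (.node (.leaf 0) (.leaf 0))) (.node (.node (.leaf 0) (.leaf 1062)) (.node (.leaf 267) (.leaf 2548)))) (.node (.node (.node (.leaf 0) (.leaf 215)) (.node (.leaf 155) (.leaf 183))) (.node (.node (.leaf 0) (.leaf 2637)) (.node (.leaf 144) (.leaf 1734))))) (.node (.node (.node (.node (.leaf 0) (.leaf 621)) (.node (.leaf 1788) (.leaf 693))) (.node (.node (.leaf 781) (.leaf 0)) (.node (.leaf 0) (.leaf 0)))) (.node (.node (.node (.leaf 1616) (.leaf 0)) (.node (.leaf 0) (.leaf 0))) (.node (.node (.leaf 553) (.leaf 0)) (.node (.leaf 0) (.leaf 0)))))) (.node (.node (.node (.node (.node (.leaf 0) (.leaf 681)) (.node (.leaf 1539) (.leaf 297))) (.node (.node (.leaf 544) (.leaf 0)) (.node (.leaf 0) (.leaf 0)))) (.node (.node (.node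 (.leaf 1375) (.leaf 0)) (.node (.leaf 0) (.leaf 0))) (.node (.node (.leaf 377) (.leaf 0)) (.node (.leaf 0) (.leaf 0))))) (.node (.node (.node (.node (.leaf 0) (.leaf 1401)) (.node (.leaf 48) (.leaf 1538))) (.node (.node (.leaf 1217) (.leaf 0)) (.node (.leaf 0) (.leaf 0)))) (.node (.node (.node (.leaf 65) (.leaf 0)) (.node (.leaf 0) (.leaf 0))) (.node (.node (.leaf 1374) (.leaf 0)) (.node (.leaf 0) (.leaf 0))))))))

/-- Part of `invT`. -/
def invT_p0011 : Tr := .node (.node (.node (.node (.node (.node (.node (.node (.leaf 0) (.leaf 2757)) (.node (.leaf 2873) (.leaf 42))) (.node (.node (.leaf 2500) (.leaf 0)) (.node (.leaf 0) (.leaf 0)))) (.node (.node (.node (.leaf 2625) (.leaf 0)) (.node (.leaf 0) (.leaf 0))) (.node (.node (.leaf 29) (.leaf 0)) (.node (.leaf 0) (.leaf 0))))) (.node (.node (.node (.node (.leaf 196) (.leaf 0)) (.node (.leaf 0) (.leaf 0))) (.node (.node (.leaf 0) (.leaf 875)) (.node (.leaf 351) (.leaf 1174)))) (.node (.node (.node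 (.leaf 0) (.leaf 448)) (.node (.leaf 1543) (.leaf 1020))) (.node (.node (.leaf 0) (.leaf 1358)) (.node (.leaf 1206) (.leaf 70)))))) (.node (.node (.node (.node (.node (.leaf 137) (.leaf 0)) (.node (.leaf 0) (.leaf 0))) (.node (.node (.leaf 0) (.leaf 1998)) (.node (.leaf 858) (.leaf 680)))) (.node (.node (.node (.leaf 0) (.leaf 697)) (.node (.leaf 145) (.leaf 381))) (.node (.node (.leaf 0) (.leaf 832)) (.node (.leaf 490) (.leaf 1999))))) (.node (.node (.node (.node (.leaf 473) (.leaf 0)) (.node (.leaf 0) (.leaf 0))) (.node (.node (.leaf 0) (.leaf 431)) (.node (.leaf 887) (.leaf 298)))) (.node (.node (.node (.leaf 0) (.leaf 1071)) (.node (.leaf 2138) (.leaf 438))) (.node (.node (.leaf 0) (.leaf 236)) (.node (.leaf 554) (.leaf 1709))))))) (.node (.node (.node (.node (.node (.node (.leaf 47) (.leaf 0)) (.node (.leaf 0) (.leaf 0))) (.node (.node (.leaf 0) (.leaf 1734)) (.node (.leaf 2637) (.leaf 144)))) (.node (.node (.node (.leaf 0) (.leaf 2548)) (.node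 (.leaf 1062) (.leaf 267))) (.node (.node (.leaf 0) (.leaf 183)) (.node (.leaf 215) (.leaf 155))))) (.node (.node (.node (.node (.leaf 0) (.leaf 1538)) (.node (.leaf 1401) (.leaf 48))) (.node (.node (.leaf 1374) (.leaf 0)) (.node (.leaf 0) (.leaf 0)))) (.node (.node (.node (.leaf 1217) (.leaf 0)) (.node (.leaf 0) (.leaf 0))) (.node (.node (.leaf 65) (.leaf 0)) (.node (.leaf 0) (.leaf 0)))))) (.node (.node (.node (.node (.node (.leaf 0) (.leaf 693)) (.node (.leaf 621) (.leaf 1788))) (.node (.node (.leaf 553) (.leaf 0)) (.node (.leaf 0) (.leaf 0)))) (.node (.node (.node (.leaf 781) (.leaf 0)) (.node (.leaf 0) (.leaf 0))) (.node (.node (.leaf 1616) (.leaf 0)) (.node (.leaf 0) (.leaf 0))))) (.node (.node (.node (.node (.leaf 0) (.leaf 297)) (.node (.leaf 681) (.leaf 1539))) (.node (.node (.leaf 377) (.leaf 0)) (.node (.leaf 0) (.leaf 0)))) (.node (.node (.node (.leaf 544) (.leaf 0)) (.node (.leaf 0) (.leaf 0))) (.node (.node (.leaf 1375) (.leaf 0)) (.node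 (.leaf 0) (.leaf 0)))))))) (.node (.node (.node (.node (.node (.node (.node (.leaf 2244) (.leaf 0)) (.node (.leaf 0) (.leaf 0))) (.node (.node (.leaf 0) (.leaf 106)) (.node (.leaf 1565) (.leaf 1716)))) (.node (.node (.node (.leaf 0) (.leaf 1730)) (.node (.leaf 2245) (.leaf 2690))) (.node (.node (.leaf 0) (.leaf 1551)) (.node (.leaf 2432) (.leaf 112))))) (.node (.node (.node (.node (.leaf 0) (.leaf 1035)) (.node (.leaf 446) (.leaf 1004))) (.node (.node (.leaf 1212) (.leaf 0)) (.node (.leaf 0) (.leaf 0)))) (.node (.node (.node (.leaf 567) (.leaf 0)) (.node (.leaf 0) (.leaf 0))) (.node (.node (.leaf 1186) (.leaf 0)) (.node (.leaf 0) (.leaf 0)))))) (.node (.node (.node (.node (.node (.leaf 0) (.leaf 2243)) (.node (.leaf 1034) (.leaf 543))) (.node (.node (.leaf 2499) (.leaf 0)) (.node (.leaf 0) (.leaf 0)))) (.node (.node (.node (.leaf 1211) (.leaf 0)) (.node (.leaf 0) (.leaf 0))) (.node (.node (.leaf 437) (.leaf 0)) (.node (.leaf 0) (.leaf 0))))) (.node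 (.node (.node (.node (.leaf 0) (.leaf 339)) (.node (.leaf 1072) (.leaf 379))) (.node (.node (.leaf 272) (.leaf 0)) (.node (.leaf 0) (.leaf 0)))) (.node (.node (.node (.leaf 1273) (.leaf 0)) (.node (.leaf 0) (.leaf 0))) (.node (.node (.leaf 485) (.leaf 0)) (.node (.leaf 0) (.leaf 0))))))) (.node (.node (.node (.node (.node (.node (.leaf 2379) (.leaf 0)) (.node (.leaf 0) (.leaf 0))) (.node (.node (.leaf 0) (.leaf 1915)) (.node (.leaf 2012) (.leaf 2937)))) (.node (.node (.node (.leaf 0) (.leaf 1829)) (.node (.leaf 369) (.leaf 1413))) (.node (.node (.leaf 0) (.leaf 2769)) (.node (.leaf 1229) (.leaf 338))))) (.node (.node (.node (.node (.leaf 0) (.leaf 569)) (.node (.leaf 1366) (.leaf 854))) (.node (.node (.leaf 714) (.leaf 0)) (.node (.leaf 0) (.leaf 0)))) (.node (.node (.node (.leaf 1530) (.leaf 0)) (.node (.leaf 0) (.leaf 0))) (.node (.node (.leaf 1029) (.leaf 0)) (.node (.leaf 0) (.leaf 0)))))) (.node (.node (.node (.node (.node (.leaf 0) (.leaf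 851)) (.node (.leaf 185) (.leaf 487))) (.node (.node (.leaf 1024) (.leaf 0)) (.node (.leaf 0) (.leaf 0)))) (.node (.node (.node (.leaf 231) (.leaf 0)) (.node (.leaf 0) (.leaf 0))) (.node (.node (.leaf 620) (.leaf 0)) (.node (.leaf 0) (.leaf 0))))) (.node (.node (.node (.node (.leaf 0) (.leaf 1272)) (.node (.leaf 2378) (.leaf 344))) (.node (.node (.leaf 1474) (.leaf 0)) (.node (.leaf 0) (.leaf 0)))) (.node (.node (.node (.leaf 2624) (.leaf 0)) (.node (.leaf 0) (.leaf 0))) (.node (.node (.leaf 429) (.leaf 0)) (.node (.leaf 0) (.leaf 0))))))))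

/-- Part of `invT`. -/
def invT_p0100 : Tr := .node (.node (.node (.node (.node (.node (.node (.node (.leaf 0) (.leaf 30)) (.node (.leaf 1727) (.leaf 1587))) (.node (.node (.leaf 44) (.leaf 0)) (.node (.leaf 0) (.leaf 0)))) (.node (.node (.node (.leaf 1562) (.leaf 0)) (.node (.leaf 0) (.leaf 0))) (.node (.node (.leaf 1420) (.leaf 0)) (.node (.leaf 0) (.leaf 0))))) (.node (.node (.node (.node (.leaf 1127) (.leaf 0)) (.node (.leaf 0) (.leaf 0))) (.node (.node (.leaf 0) (.leaf 1050)) (.node (.leaf 488) (.leaf 990)))) (.node (.node (.node (.leaf 0) (.leaf 618)) (.node (.leaf 1052) (.leaf 1615))) (.node (.node (.leaf 0) (.leaf 828)) (.node (.leaf 1787) (.leaf 1049)))))) (.node (.node (.node (.node (.node (.leaf 637) (.leaf 0)) (.node (.leaf 0) (.leaf 0))) (.node (.node (.leaf 0) (.leaf 43)) (.node (.leaf 2291) (.leaf 2492)))) (.node (.node (.node (.leaf 0) (.leaf 2060)) (.node (.leaf 424) (.leaf 2295))) (.node (.node (.leaf 0) (.leaf 2234)) (.node (.leaf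 2551) (.leaf 434))))) (.node (.node (.node (.node (.leaf 1239) (.leaf 0)) (.node (.leaf 0) (.leaf 0))) (.node (.node (.leaf 0) (.leaf 1191)) (.node (.leaf 691) (.leaf 349)))) (.node (.node (.node (.leaf 0) (.leaf 552)) (.node (.leaf 1251) (.leaf 1940))) (.node (.node (.leaf 0) (.leaf 445)) (.node (.leaf 1762) (.leaf 944))))))) (.node (.node (.node (.node (.node (.node (.leaf 1236) (.leaf 0)) (.node (.leaf 0) (.leaf 0))) (.node (.node (.leaf 0) (.leaf 869)) (.node (.leaf 568) (.leaf 426)))) (.node (.node (.node (.leaf 0) (.leaf 716)) (.node (.leaf 1237) (.leaf 844))) (.node (.node (.leaf 0) (.leaf 342)) (.node (.leaf 688) (.leaf 940))))) (.node (.node (.node (.node (.leaf 0) (.leaf 677)) (.node (.leaf 2010) (.leaf 1226))) (.node (.node (.leaf 551) (.leaf 0)) (.node (.leaf 0) (.leaf 0)))) (.node (.node (.node (.leaf 2257) (.leaf 0)) (.node (.leaf 0) (.leaf 0))) (.node (.node (.leaf 1410) (.leaf 0)) (.node (.leaf 0) (.leaf 0)))))) (.node (.node (.node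 (.node (.node (.leaf 0) (.leaf 1987)) (.node (.leaf 2687) (.leaf 341))) (.node (.node (.leaf 2176) (.leaf 0)) (.node (.leaf 0) (.leaf 0)))) (.node (.node (.node (.leaf 2939) (.leaf 0)) (.node (.leaf 0) (.leaf 0))) (.node (.node (.leaf 425) (.leaf 0)) (.node (.leaf 0) (.leaf 0))))) (.node (.node (.node (.node (.leaf 0) (.leaf 566)) (.node (.leaf 1986) (.leaf 768))) (.node (.node (.leaf 447) (.leaf 0)) (.node (.leaf 0) (.leaf 0)))) (.node (.node (.node (.leaf 2233) (.leaf 0)) (.node (.leaf 0) (.leaf 0))) (.node (.node (.leaf 609) (.leaf 0)) (.node (.leaf 0) (.leaf 0)))))))) (.node (.node (.node (.node (.node (.node (.node (.leaf 66) (.leaf 0)) (.node (.leaf 0) (.leaf 0))) (.node (.node (.leaf 0) (.leaf 792)) (.node (.leaf 482) (.leaf 570)))) (.node (.node (.node (.leaf 0) (.leaf 613)) (.node (.leaf 550) (.leaf 571))) (.node (.node (.leaf 0) (.leaf 715)) (.node (.leaf 449) (.leaf 539))))) (.node (.node (.node (.node (.leaf 0) (.leaf 870)) (.node (.leaf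 380) (.leaf 847))) (.node (.node (.leaf 705) (.leaf 0)) (.node (.leaf 0) (.leaf 0)))) (.node (.node (.node (.leaf 299) (.leaf 0)) (.node (.leaf 0) (.leaf 0))) (.node (.node (.leaf 690) (.leaf 0)) (.node (.leaf 0) (.leaf 0)))))) (.node (.node (.node (.node (.node (.leaf 0) (.leaf 27)) (.node (.leaf 2512) (.leaf 2686))) (.node (.node (.leaf 18) (.leaf 0)) (.node (.leaf 0) (.leaf 0)))) (.node (.node (.node (.leaf 2258) (.leaf 0)) (.node (.leaf 0) (.leaf 0))) (.node (.node (.leaf 2429) (.leaf 0)) (.node (.leaf 0) (.leaf 0))))) (.node (.node (.node (.node (.leaf 0) (.leaf 1009)) (.node (.leaf 829) (.leaf 277))) (.node (.node (.leaf 840) (.leaf 0)) (.node (.leaf 0) (.leaf 0)))) (.node (.node (.node (.leaf 678) (.leaf 0)) (.node (.leaf 0) (.leaf 0))) (.node (.node (.leaf 350) (.leaf 0)) (.node (.leaf 0) (.leaf 0))))))) (.node (.node (.node (.node (.node (.node (.leaf 1392) (.leaf 0)) (.node (.leaf 0) (.leaf 0))) (.node (.node (.leaf 0) (.leaf 773)) (.node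 (.leaf 435) (.leaf 718)))) (.node (.node (.node (.leaf 0) (.leaf 540)) (.node (.leaf 1041) (.leaf 864))) (.node (.node (.leaf 0) (.leaf 883)) (.node (.leaf 1042) (.leaf 1013))))) (.node (.node (.node (.node (.leaf 0) (.leaf 486)) (.node (.leaf 885) (.leaf 1827))) (.node (.node (.leaf 378) (.leaf 0)) (.node (.leaf 0) (.leaf 0)))) (.node (.node (.node (.leaf 720) (.leaf 0)) (.node (.leaf 0) (.leaf 0))) (.node (.node (.leaf 2037) (.leaf 0)) (.node (.leaf 0) (.leaf 0)))))) (.node (.node (.node (.node (.node (.leaf 0) (.leaf 1828)) (.node (.leaf 335) (.leaf 2513))) (.node (.node (.leaf 2011) (.leaf 0)) (.node (.leaf 0) (.leaf 0)))) (.node (.node (.node (.leaf 269) (.leaf 0)) (.node (.leaf 0) (.leaf 0))) (.node (.node (.leaf 2772) (.leaf 0)) (.node (.leaf 0) (.leaf 0))))) (.node (.node (.node (.node (.leaf 0) (.leaf 436)) (.node (.leaf 1451) (.leaf 2175))) (.node (.node (.leaf 541) (.leaf 0)) (.node (.leaf 0) (.leaf 0)))) (.node (.node (.node (.leaf 1647)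 (.leaf 0)) (.node (.leaf 0) (.leaf 0))) (.node (.node (.leaf 2428) (.leaf 0)) (.node (.leaf 0) (.leaf 0))))))))

/-- Part of `invT`. -/
def invT_p0101 : Tr := .node (.node (.node (.node (.node (.node (.node (.node (.leaf 97) (.leaf 0)) (.node (.leaf 0) (.leaf 0))) (.node (.node (.leaf 0) (.leaf 246)) (.node (.leaf 371) (.leaf 273)))) (.node (.node (.node (.leaf 0) (.leaf 294)) (.node (.leaf 1361) (.leaf 2148))) (.node (.node (.leaf 0) (.leaf 340)) (.node (.leaf 2038) (.leaf 708))))) (.node (.node (.node (.node (.leaf 0) (.leaf 1715)) (.node (.leaf 479) (.leaf 995))) (.node (.node (.leaf 1550) (.leaf 0)) (.node (.leaf 0) (.leaf 0)))) (.node (.node (.node (.leaf 608) (.leaf 0)) (.node (.leaf 0) (.leaf 0))) (.node (.node (.leaf 831) (.leaf 0)) (.node (.leaf 0) (.leaf 0)))))) (.node (.node (.node (.node (.node (.leaf 0) (.leaf 17)) (.node (.leaf 1881) (.leaf 1604))) (.node (.node (.leaf 26) (.leaf 0)) (.node (.leaf 0) (.leaf 0)))) (.node (.node (.node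 (.leaf 1669) (.leaf 0)) (.node (.leaf 0) (.leaf 0))) (.node (.node (.leaf 1437) (.leaf 0)) (.node (.leaf 0) (.leaf 0))))) (.node (.node (.node (.node (.leaf 0) (.leaf 1603)) (.node (.leaf 442) (.leaf 549))) (.node (.node (.leaf 1436) (.leaf 0)) (.node (.leaf 0) (.leaf 0)))) (.node (.node (.node (.leaf 347) (.leaf 0)) (.node (.leaf 0) (.leaf 0))) (.node (.node (.leaf 687) (.leaf 0)) (.node (.leaf 0) (.leaf 0))))))) (.node (.node (.node (.node (.node (.node (.leaf 0) (.leaf 433)) (.node (.leaf 1807) (.leaf 562))) (.node (.node (.leaf 548) (.leaf 0)) (.node (.leaf 0) (.leaf 0)))) (.node (.node (.node (.leaf 1635) (.leaf 0)) (.node (.leaf 0) (.leaf 0))) (.node (.node (.leaf 443) (.leaf 0)) (.node (.leaf 0) (.leaf 0))))) (.node (.node (.node (.node (.leaf 679) (.leaf 0)) (.node (.leaf 0) (.leaf 0))) (.node (.node (.leaf 0) (.leaf 308)) (.node (.leaf 233) (.leaf 69)))) (.node (.node (.node (.leaf 0) (.leaf 293)) (.node (.leaf 1347) (.leaf 1579))) (.node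 (.node (.leaf 0) (.leaf 91)) (.node (.leaf 1775) (.leaf 2125)))))) (.node (.node (.node (.node (.node (.leaf 1265) (.leaf 0)) (.node (.leaf 0) (.leaf 0))) (.node (.node (.leaf 0) (.leaf 68)) (.node (.leaf 2149) (.leaf 3270)))) (.node (.node (.node (.leaf 0) (.leaf 1960)) (.node (.leaf 1667) (.leaf 1638))) (.node (.node (.leaf 0) (.leaf 3087)) (.node (.leaf 1810) (.leaf 122))))) (.node (.node (.node (.node (.leaf 843) (.leaf 0)) (.node (.leaf 0) (.leaf 0))) (.node (.node (.leaf 0) (.leaf 612)) (.node (.leaf 556) (.leaf 1468)))) (.node (.node (.node (.leaf 0) (.leaf 439)) (.node (.leaf 1577) (.leaf 1202))) (.node (.node (.leaf 0) (.leaf 1668)) (.node (.leaf 1017) (.leaf 1238)))))))) (.node (.node (.node (.node (.node (.node (.node (.leaf 0) (.leaf 311)) (.node (.leaf 475) (.leaf 346))) (.node (.node (.leaf 394) (.leaf 0)) (.node (.leaf 0) (.leaf 0)))) (.node (.node (.node (.leaf 602) (.leaf 0)) (.node (.leaf 0) (.leaf 0))) (.node (.node (.leaf 440)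 (.leaf 0)) (.node (.leaf 0) (.leaf 0))))) (.node (.node (.node (.node (.leaf 1467) (.leaf 0)) (.node (.leaf 0) (.leaf 0))) (.node (.node (.leaf 0) (.leaf 156)) (.node (.leaf 685) (.leaf 194)))) (.node (.node (.node (.leaf 0) (.leaf 839)) (.node (.leaf 1061) (.leaf 374))) (.node (.node (.leaf 0) (.leaf 243)) (.node (.leaf 295) (.leaf 96)))))) (.node (.node (.node (.node (.node (.leaf 40) (.leaf 0)) (.node (.leaf 0) (.leaf 0))) (.node (.node (.leaf 0) (.leaf 154)) (.node (.leaf 90) (.leaf 64)))) (.node (.node (.node (.leaf 0) (.leaf 67)) (.node (.leaf 3400) (.leaf 2292))) (.node (.node (.leaf 0) (.leaf 46)) (.node (.leaf 2389) (.leaf 3399))))) (.node (.node (.node (.node (.leaf 1264) (.leaf 0)) (.node (.leaf 0) (.leaf 0))) (.node (.node (.leaf 0) (.leaf 124)) (.node (.leaf 193) (.leaf 375)))) (.node (.node (.node (.leaf 0) (.leaf 152)) (.node (.leaf 123) (.leaf 547))) (.node (.node (.leaf 0) (.leaf 481)) (.node (.leaf 684) (.leaf 1263))))))) (.node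 (.node (.node (.node (.node (.node (.leaf 0) (.leaf 373)) (.node (.leaf 1176) (.leaf 1921))) (.node (.node (.leaf 478) (.leaf 0)) (.node (.leaf 0) (.leaf 0)))) (.node (.node (.node (.leaf 996) (.leaf 0)) (.node (.leaf 0) (.leaf 0))) (.node (.node (.leaf 1743) (.leaf 0)) (.node (.leaf 0) (.leaf 0))))) (.node (.node (.node (.node (.leaf 767) (.leaf 0)) (.node (.leaf 0) (.leaf 0))) (.node (.node (.leaf 0) (.leaf 1008)) (.node (.leaf 1228) (.leaf 476)))) (.node (.node (.node (.leaf 0) (.leaf 1412)) (.node (.leaf 1394) (.leaf 989))) (.node (.node (.leaf 0) (.leaf 372)) (.node (.leaf 1165) (.leaf 1393)))))) (.node (.node (.node (.node (.node (.leaf 1469) (.leaf 0)) (.node (.leaf 0) (.leaf 0))) (.node (.node (.leaf 0) (.leaf 93)) (.node (.leaf 3271) (.leaf 2039)))) (.node (.node (.node (.leaf 0) (.leaf 3163)) (.node (.leaf 95) (.leaf 1922))) (.node (.node (.leaf 0) (.leaf 1852)) (.node (.leaf 1744) (.leaf 1470))))) (.node (.node (.node (.node (.leaf 274)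 (.leaf 0)) (.node (.leaf 0) (.leaf 0))) (.node (.node (.leaf 0) (.leaf 118)) (.node (.leaf 94) (.leaf 432)))) (.node (.node (.node (.leaf 0) (.leaf 121)) (.node (.leaf 2179) (.leaf 1939))) (.node (.node (.leaf 0) (.leaf 345)) (.node (.leaf 1761) (.leaf 1396))))))))

/-- Part of `invT`. -/
def invT_p0110 : Tr := .node (.node (.node (.node (.node (.node (.node (.node (.leaf 1912) (.leaf 0)) (.node (.leaf 0) (.leaf 0))) (.node (.node (.leaf 0) (.leaf 391)) (.node (.leaf 1205) (.leaf 1227)))) (.node (.node (.node (.leaf 0) (.leaf 1028)) (.node (.leaf 546) (.leaf 2255))) (.node (.node (.leaf 0) (.leaf 1411)) (.node (.leaf 2426) (.leaf 1524))))) (.node (.node (.node (.node (.leaf 0) (.leaf 232)) (.node (.leaf 769) (.leaf 1203))) (.node (.node (.leaf 292) (.leaf 0)) (.node (.leaf 0) (.leaf 0)))) (.node (.node (.node (.leaf 946) (.leaf 0)) (.node (.leaf 0) (.leaf 0))) (.node (.node (.leaf 1397) (.leaf 0)) (.node (.leaf 0) (.leaf 0)))))) (.node (.node (.node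 (.node (.node (.leaf 0) (.leaf 2874)) (.node (.leaf 270) (.leaf 1765))) (.node (.node (.leaf 3100) (.leaf 0)) (.node (.leaf 0) (.leaf 0)))) (.node (.node (.node (.leaf 336) (.leaf 0)) (.node (.leaf 0) (.leaf 0))) (.node (.node (.leaf 1943) (.leaf 0)) (.node (.leaf 0) (.leaf 0))))) (.node (.node (.node (.node (.leaf 0) (.leaf 1185)) (.node (.leaf 563) (.leaf 845))) (.node (.node (.leaf 1357) (.leaf 0)) (.node (.leaf 0) (.leaf 0)))) (.node (.node (.node (.leaf 709) (.leaf 0)) (.node (.leaf 0) (.leaf 0))) (.node (.node (.leaf 1015) (.leaf 0)) (.node (.leaf 0) (.leaf 0))))))) (.node (.node (.node (.node (.node (.node (.leaf 0) (.leaf 1213)) (.node (.leaf 2174) (.leaf 1348))) (.node (.node (.leaf 1025) (.leaf 0)) (.node (.leaf 0) (.leaf 0)))) (.node (.node (.node (.leaf 1985) (.leaf 0)) (.node (.leaf 0) (.leaf 0))) (.node (.node (.leaf 1166) (.leaf 0)) (.node (.leaf 0) (.leaf 0))))) (.node (.node (.node (.node (.leaf 1580) (.leaf 0)) (.node (.leaf 0)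 (.leaf 0))) (.node (.node (.leaf 0) (.leaf 146)) (.node (.leaf 857) (.leaf 2139)))) (.node (.node (.node (.leaf 0) (.leaf 1023)) (.node (.leaf 218) (.leaf 1549))) (.node (.node (.leaf 0) (.leaf 2380)) (.node (.leaf 1714) (.leaf 1997)))))) (.node (.node (.node (.node (.node (.leaf 2141) (.leaf 0)) (.node (.leaf 0) (.leaf 0))) (.node (.node (.leaf 0) (.leaf 2140)) (.node (.leaf 2256) (.leaf 3160)))) (.node (.node (.node (.leaf 0) (.leaf 2059)) (.node (.leaf 291) (.leaf 1540))) (.node (.node (.leaf 0) (.leaf 3004)) (.node (.leaf 1376) (.leaf 430))))) (.node (.node (.node (.node (.leaf 1199) (.leaf 0)) (.node (.leaf 0) (.leaf 0))) (.node (.node (.leaf 0) (.leaf 953)) (.node (.leaf 1030) (.leaf 428)))) (.node (.node (.node (.leaf 0) (.leaf 1219)) (.node (.leaf 1198) (.leaf 1070))) (.node (.node (.leaf 0) (.leaf 343)) (.node (.leaf 886) (.leaf 945)))))))) (.node (.node (.node (.node (.node (.node (.node (.leaf 0) (.leaf 309)) (.node (.leaf 1019) (.leaf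 1036))) (.node (.node (.leaf 244) (.leaf 0)) (.node (.leaf 0) (.leaf 0)))) (.node (.node (.node (.leaf 848) (.leaf 0)) (.node (.leaf 0) (.leaf 0))) (.node (.node (.leaf 859) (.leaf 0)) (.node (.leaf 0) (.leaf 0))))) (.node (.node (.node (.node (.leaf 370) (.leaf 0)) (.node (.leaf 0) (.leaf 0))) (.node (.node (.leaf 0) (.leaf 545)) (.node (.leaf 719) (.leaf 235)))) (.node (.node (.node (.leaf 0) (.leaf 884)) (.node (.leaf 1914) (.leaf 555))) (.node (.node (.leaf 0) (.leaf 187)) (.node (.leaf 696) (.leaf 1913)))))) (.node (.node (.node (.node (.node (.leaf 3280) (.leaf 0)) (.node (.leaf 0) (.leaf 0))) (.node (.node (.leaf 0) (.leaf 120)) (.node (.leaf 3085) (.leaf 2627)))) (.node (.node (.node (.leaf 0) (.leaf 2857)) (.node (.leaf 62) (.leaf 2684))) (.node (.node (.leaf 0) (.leaf 2381)) (.node (.leaf 2510) (.leaf 3283))))) (.node (.node (.node (.node (.leaf 1525) (.leaf 0)) (.node (.leaf 0) (.leaf 0))) (.node (.node (.leaf 0) (.leaf 392)) (.node (.leaf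 312) (.leaf 614)))) (.node (.node (.node (.leaf 0) (.leaf 247)) (.node (.leaf 2364) (.leaf 1403))) (.node (.node (.leaf 0) (.leaf 775)) (.node (.leaf 1207) (.leaf 542))))))) (.node (.node (.node (.node (.node (.node (.leaf 0) (.leaf 853)) (.node (.leaf 683) (.leaf 2009))) (.node (.node (.leaf 694) (.leaf 0)) (.node (.leaf 0) (.leaf 0)))) (.node (.node (.node (.leaf 837) (.leaf 0)) (.node (.leaf 0) (.leaf 0))) (.node (.node (.leaf 1826) (.leaf 0)) (.node (.leaf 0) (.leaf 0))))) (.node (.node (.node (.node (.leaf 1133) (.leaf 0)) (.node (.leaf 0) (.leaf 0))) (.node (.node (.leaf 0) (.leaf 1051)) (.node (.leaf 1729) (.leaf 692)))) (.node (.node (.node (.leaf 0) (.leaf 1564)) (.node (.leaf 1128) (.leaf 348))) (.node (.node (.leaf 0) (.leaf 850)) (.node (.leaf 275) (.leaf 1381)))))) (.node (.node (.node (.node (.node (.leaf 427) (.leaf 0)) (.node (.leaf 0) (.leaf 0))) (.node (.node (.leaf 0) (.leaf 2609)) (.node (.leaf 41) (.leaf 2427)))) (.node (.node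 (.node (.leaf 0) (.leaf 28)) (.node (.leaf 472) (.leaf 184))) (.node (.node (.leaf 0) (.leaf 2232)) (.node (.leaf 230) (.leaf 1710))))) (.node (.node (.node (.node (.leaf 874) (.leaf 0)) (.node (.leaf 0) (.leaf 0))) (.node (.node (.leaf 0) (.leaf 197)) (.node (.leaf 2608) (.leaf 1588)))) (.node (.node (.node (.leaf 0) (.leaf 2855)) (.node (.leaf 125) (.leaf 1537))) (.node (.node (.leaf 0) (.leaf 1421)) (.node (.leaf 1373) (.leaf 1262))))))))

/-- Part of `invT`. -/
def invT_p0111 : Tr := .node (.node (.node (.node (.node (.node (.node (.node (.leaf 1776) (.leaf 0)) (.node (.leaf 0) (.leaf 0))) (.node (.node (.leaf 0) (.leaf 174)) (.node (.leaf 1365) (.leaf 1172)))) (.node (.node (.node (.leaf 0) (.leaf 1529)) (.node (.leaf 1777) (.leaf 2177))) (.node (.node (.leaf 0) (.leaf 1002)) (.node (.leaf 1941) (.leaf 186))))) (.node (.node (.node (.node (.leaf 0) (.leaf 1218)) (.node (.leaf 700) (.leaf 717))) (.node (.node (.leaf 1402) (.leaf 0)) (.node (.leaf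 0) (.leaf 0)))) (.node (.node (.node (.leaf 863) (.leaf 0)) (.node (.leaf 0) (.leaf 0))) (.node (.node (.leaf 882) (.leaf 0)) (.node (.leaf 0) (.leaf 0)))))) (.node (.node (.node (.node (.node (.leaf 0) (.leaf 2758)) (.node (.leaf 1617) (.leaf 266))) (.node (.node (.leaf 3006) (.leaf 0)) (.node (.leaf 0) (.leaf 0)))) (.node (.node (.node (.leaf 1789) (.leaf 0)) (.node (.leaf 0) (.leaf 0))) (.node (.node (.leaf 214) (.leaf 0)) (.node (.leaf 0) (.leaf 0))))) (.node (.node (.node (.node (.leaf 0) (.leaf 268)) (.node (.leaf 1349) (.leaf 606))) (.node (.node (.leaf 216) (.leaf 0)) (.node (.leaf 0) (.leaf 0)))) (.node (.node (.node (.leaf 1526) (.leaf 0)) (.node (.leaf 0) (.leaf 0))) (.node (.node (.leaf 764) (.leaf 0)) (.node (.leaf 0) (.leaf 0))))))) (.node (.node (.node (.node (.node (.node (.leaf 0) (.leaf 835)) (.node (.leaf 1728) (.leaf 234))) (.node (.node (.leaf 682) (.leaf 0)) (.node (.leaf 0) (.leaf 0)))) (.node (.node (.node (.leaf 1563) (.leaf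 0)) (.node (.leaf 0) (.leaf 0))) (.node (.node (.leaf 296) (.leaf 0)) (.node (.leaf 0) (.leaf 0))))) (.node (.node (.node (.node (.leaf 1059) (.leaf 0)) (.node (.leaf 0) (.leaf 0))) (.node (.node (.leaf 0) (.leaf 158)) (.node (.leaf 1356) (.leaf 2691)))) (.node (.node (.node (.leaf 0) (.leaf 1184)) (.node (.leaf 1060) (.leaf 1614))) (.node (.node (.leaf 0) (.leaf 2856)) (.node (.leaf 1786) (.leaf 157)))))) (.node (.node (.node (.node (.node (.leaf 172) (.leaf 0)) (.node (.leaf 0) (.leaf 0))) (.node (.node (.leaf 0) (.leaf 2692)) (.node (.leaf 2236) (.leaf 63)))) (.node (.node (.node (.leaf 0) (.leaf 1989)) (.node (.leaf 1779) (.leaf 171))) (.node (.node (.leaf 0) (.leaf 45)) (.node (.leaf 213) (.leaf 59))))) (.node (.node (.node (.node (.leaf 939) (.leaf 0)) (.node (.leaf 0) (.leaf 0))) (.node (.node (.leaf 0) (.leaf 868)) (.node (.leaf 991) (.leaf 1589)))) (.node (.node (.node (.leaf 0) (.leaf 1168)) (.node (.leaf 1250) (.leaf 601))) (.node (.node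 (.leaf 0) (.leaf 1422)) (.node (.leaf 758) (.leaf 1201)))))))) (.node (.node (.node (.node (.node (.node (.node (.leaf 0) (.leaf 219)) (.node (.leaf 1180) (.leaf 993))) (.node (.node (.leaf 276) (.leaf 0)) (.node (.leaf 0) (.leaf 0)))) (.node (.node (.node (.leaf 999) (.leaf 0)) (.node (.leaf 0) (.leaf 0))) (.node (.node (.leaf 830) (.leaf 0)) (.node (.leaf 0) (.leaf 0))))) (.node (.node (.node (.node (.leaf 1581) (.leaf 0)) (.node (.leaf 0) (.leaf 0))) (.node (.node (.leaf 0) (.leaf 86)) (.node (.leaf 489) (.leaf 248)))) (.node (.node (.node (.leaf 0) (.leaf 619)) (.node (.leaf 217) (.leaf 994))) (.node (.node (.leaf 0) (.leaf 198)) (.node (.leaf 1173) (.leaf 2433)))))) (.node (.node (.node (.node (.node (.leaf 3217) (.leaf 0)) (.node (.leaf 0) (.leaf 0))) (.node (.node (.leaf 0) (.leaf 88)) (.node (.leaf 2936) (.leaf 3086)))) (.node (.node (.node (.leaf 0) (.leaf 2755)) (.node (.leaf 3103) (.leaf 2178))) (.node (.node (.leaf 0) (.leaf 2942)) (.node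 (.leaf 2431) (.leaf 89))))) (.node (.node (.node (.node (.leaf 173) (.leaf 0)) (.node (.leaf 0) (.leaf 0))) (.node (.node (.leaf 0) (.leaf 113)) (.node (.leaf 310) (.leaf 560)))) (.node (.node (.node (.leaf 0) (.leaf 393)) (.node (.leaf 2242) (.leaf 998))) (.node (.node (.leaf 0) (.leaf 704)) (.node (.leaf 833) (.leaf 1778))))))) (.node (.node (.node (.node (.node (.node (.leaf 0) (.leaf 1352)) (.node (.leaf 1582) (.leaf 1988))) (.node (.node (.leaf 1169) (.leaf 0)) (.node (.leaf 0) (.leaf 0)))) (.node (.node (.node (.leaf 1398) (.leaf 0)) (.node (.leaf 0) (.leaf 0))) (.node (.node (.leaf 1763) (.leaf 0)) (.node (.leaf 0) (.leaf 0))))) (.node (.node (.node (.node (.leaf 1040) (.leaf 0)) (.node (.leaf 0) (.leaf 0))) (.node (.node (.leaf 0) (.leaf 774)) (.node (.leaf 271) (.leaf 836)))) (.node (.node (.node (.leaf 0) (.leaf 337)) (.node (.leaf 1014) (.leaf 710))) (.node (.node (.leaf 0) (.leaf 1003)) (.node (.leaf 876) (.leaf 1443)))))) (.node (.node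 (.node (.node (.node (.leaf 2000) (.leaf 0)) (.node (.leaf 0) (.leaf 0))) (.node (.node (.leaf 0) (.leaf 2498)) (.node (.leaf 2877) (.leaf 1942)))) (.node (.node (.node (.leaf 0) (.leaf 2628)) (.node (.leaf 81) (.leaf 1423))) (.node (.node (.leaf 0) (.leaf 1764)) (.node (.leaf 1590) (.leaf 136))))) (.node (.node (.node (.node (.leaf 1708) (.leaf 0)) (.node (.leaf 0) (.leaf 0))) (.node (.node (.leaf 0) (.leaf 502)) (.node (.leaf 2497) (.leaf 1179)))) (.node (.node (.node (.leaf 0) (.leaf 2683)) (.node (.leaf 1707) (.leaf 1601))) (.node (.node (.leaf 0) (.leaf 1351)) (.node (.leaf 1434) (.leaf 474))))))))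

/-- Part of `invT`. -/
def invT_p1000 : Tr := .node (.node (.node (.node (.node (.node (.node (.node (.leaf 0) (.leaf 1587)) (.node (.leaf 30) (.leaf 1727))) (.node (.node (.leaf 1420) (.leaf 0)) (.node (.leaf 0) (.leaf 0)))) (.node (.node (.node (.leaf 44) (.leaf 0)) (.node (.leaf 0) (.leaf 0))) (.node (.node (.leaf 1562) (.leaf 0)) (.node (.leaf 0) (.leaf 0))))) (.node (.node (.node (.node (.leaf 1239) (.leaf 0)) (.node (.leaf 0) (.leaf 0))) (.node (.node (.leaf 0) (.leaf 944)) (.node (.leaf 445) (.leaf 1762)))) (.node (.node (.node (.leaf 0) (.leaf 349)) (.node (.leaf 1191) (.leaf 691))) (.node (.node (.leaf 0) (.leaf 1940)) (.node (.leaf 552) (.leaf 1251)))))) (.node (.node (.node (.node (.node (.leaf 1127) (.leaf 0)) (.node (.leaf 0) (.leaf 0))) (.node (.node (.leaf 0) (.leaf 1049)) (.node (.leaf 828) (.leaf 1787)))) (.node (.node (.node (.leaf 0) (.leaf 990)) (.node (.leaf 1050) (.leaf 488))) (.node (.node (.leaf 0) (.leaf 1615)) (.node (.leaf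 618) (.leaf 1052))))) (.node (.node (.node (.node (.leaf 637) (.leaf 0)) (.node (.leaf 0) (.leaf 0))) (.node (.node (.leaf 0) (.leaf 434)) (.node (.leaf 2234) (.leaf 2551)))) (.node (.node (.node (.leaf 0) (.leaf 2492)) (.node (.leaf 43) (.leaf 2291))) (.node (.node (.leaf 0) (.leaf 2295)) (.node (.leaf 2060) (.leaf 424))))))) (.node (.node (.node (.node (.node (.node (.leaf 1392) (.leaf 0)) (.node (.leaf 0) (.leaf 0))) (.node (.node (.leaf 0) (.leaf 1013)) (.node (.leaf 883) (.leaf 1042)))) (.node (.node (.node (.leaf 0) (.leaf 718)) (.node (.leaf 773) (.leaf 435))) (.node (.node (.leaf 0) (.leaf 864)) (.node (.leaf 540) (.leaf 1041))))) (.node (.node (.node (.node (.leaf 0) (.leaf 2175)) (.node (.leaf 436) (.leaf 1451))) (.node (.node (.leaf 2428) (.leaf 0)) (.node (.leaf 0) (.leaf 0)))) (.node (.node (.node (.leaf 541) (.leaf 0)) (.node (.leaf 0) (.leaf 0))) (.node (.node (.leaf 1647) (.leaf 0)) (.node (.leaf 0) (.leaf 0)))))) (.node (.node (.node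 (.node (.node (.leaf 0) (.leaf 1827)) (.node (.leaf 486) (.leaf 885))) (.node (.node (.leaf 2037) (.leaf 0)) (.node (.leaf 0) (.leaf 0)))) (.node (.node (.node (.leaf 378) (.leaf 0)) (.node (.leaf 0) (.leaf 0))) (.node (.node (.leaf 720) (.leaf 0)) (.node (.leaf 0) (.leaf 0))))) (.node (.node (.node (.node (.leaf 0) (.leaf 2513)) (.node (.leaf 1828) (.leaf 335))) (.node (.node (.leaf 2772) (.leaf 0)) (.node (.leaf 0) (.leaf 0)))) (.node (.node (.node (.leaf 2011) (.leaf 0)) (.node (.leaf 0) (.leaf 0))) (.node (.node (.leaf 269) (.leaf 0)) (.node (.leaf 0) (.leaf 0)))))))) (.node (.node (.node (.node (.node (.node (.node (.leaf 1236) (.leaf 0)) (.node (.leaf 0) (.leaf 0))) (.node (.node (.leaf 0) (.leaf 940)) (.node (.leaf 342) (.leaf 688)))) (.node (.node (.node (.leaf 0) (.leaf 426)) (.node (.leaf 869) (.leaf 568))) (.node (.node (.leaf 0) (.leaf 844)) (.node (.leaf 716) (.leaf 1237))))) (.node (.node (.node (.node (.leaf 0) (.leaf 768)) (.node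 (.leaf 566) (.leaf 1986))) (.node (.node (.leaf 609) (.leaf 0)) (.node (.leaf 0) (.leaf 0)))) (.node (.node (.node (.leaf 447) (.leaf 0)) (.node (.leaf 0) (.leaf 0))) (.node (.node (.leaf 2233) (.leaf 0)) (.node (.leaf 0) (.leaf 0)))))) (.node (.node (.node (.node (.node (.leaf 0) (.leaf 1226)) (.node (.leaf 677) (.leaf 2010))) (.node (.node (.leaf 1410) (.leaf 0)) (.node (.leaf 0) (.leaf 0)))) (.node (.node (.node (.leaf 551) (.leaf 0)) (.node (.leaf 0) (.leaf 0))) (.node (.node (.leaf 2257) (.leaf 0)) (.node (.leaf 0) (.leaf 0))))) (.node (.node (.node (.node (.leaf 0) (.leaf 341)) (.node (.leaf 1987) (.leaf 2687))) (.node (.node (.leaf 425) (.leaf 0)) (.node (.leaf 0) (.leaf 0)))) (.node (.node (.node (.leaf 2176) (.leaf 0)) (.node (.leaf 0) (.leaf 0))) (.node (.node (.leaf 2939) (.leaf 0)) (.node (.leaf 0) (.leaf 0))))))) (.node (.node (.node (.node (.node (.node (.leaf 66) (.leaf 0)) (.node (.leaf 0) (.leaf 0))) (.node (.node (.leaf 0) (.leaf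 539)) (.node (.leaf 715) (.leaf 449)))) (.node (.node (.node (.leaf 0) (.leaf 570)) (.node (.leaf 792) (.leaf 482))) (.node (.node (.leaf 0) (.leaf 571)) (.node (.leaf 613) (.leaf 550))))) (.node (.node (.node (.node (.leaf 0) (.leaf 277)) (.node (.leaf 1009) (.leaf 829))) (.node (.node (.leaf 350) (.leaf 0)) (.node (.leaf 0) (.leaf 0)))) (.node (.node (.node (.leaf 840) (.leaf 0)) (.node (.leaf 0) (.leaf 0))) (.node (.node (.leaf 678) (.leaf 0)) (.node (.leaf 0) (.leaf 0)))))) (.node (.node (.node (.node (.node (.leaf 0) (.leaf 847)) (.node (.leaf 870) (.leaf 380))) (.node (.node (.leaf 690) (.leaf 0)) (.node (.leaf 0) (.leaf 0)))) (.node (.node (.node (.leaf 705) (.leaf 0)) (.node (.leaf 0) (.leaf 0))) (.node (.node (.leaf 299) (.leaf 0)) (.node (.leaf 0) (.leaf 0))))) (.node (.node (.node (.node (.leaf 0) (.leaf 2686)) (.node (.leaf 27) (.leaf 2512))) (.node (.node (.leaf 2429) (.leaf 0)) (.node (.leaf 0) (.leaf 0)))) (.node (.node (.node (.leaf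 18) (.leaf 0)) (.node (.leaf 0) (.leaf 0))) (.node (.node (.leaf 2258) (.leaf 0)) (.node (.leaf 0) (.leaf 0))))))))

/-- Part of `invT`. -/
def invT_p1001 : Tr := .node (.node (.node (.node (.node (.node (.node (.node (.leaf 1776) (.leaf 0)) (.node (.leaf 0) (.leaf 0))) (.node (.node (.leaf 0) (.leaf 186)) (.node (.leaf 1002) (.leaf 1941)))) (.node (.node (.node (.leaf 0) (.leaf 1172)) (.node (.leaf 174) (.leaf 1365))) (.node (.node (.leaf 0) (.leaf 2177)) (.node (.leaf 1529) (.leaf 1777))))) (.node (.node (.node (.node (.leaf 0) (.leaf 606)) (.node (.leaf 268) (.leaf 1349))) (.node (.node (.leaf 764) (.leaf 0)) (.node (.leaf 0) (.leaf 0)))) (.node (.node (.node (.leaf 216) (.leaf 0)) (.node (.leaf 0) (.leaf 0))) (.node (.node (.leaf 1526) (.leaf 0)) (.node (.leaf 0) (.leaf 0)))))) (.node (.node (.node (.node (.node (.leaf 0) (.leaf 717)) (.node (.leaf 1218) (.leaf 700))) (.node (.node (.leaf 882) (.leaf 0)) (.node (.leaf 0) (.leaf 0)))) (.node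 (.node (.node (.leaf 1402) (.leaf 0)) (.node (.leaf 0) (.leaf 0))) (.node (.node (.leaf 863) (.leaf 0)) (.node (.leaf 0) (.leaf 0))))) (.node (.node (.node (.node (.leaf 0) (.leaf 266)) (.node (.leaf 2758) (.leaf 1617))) (.node (.node (.leaf 214) (.leaf 0)) (.node (.leaf 0) (.leaf 0)))) (.node (.node (.node (.leaf 3006) (.leaf 0)) (.node (.leaf 0) (.leaf 0))) (.node (.node (.leaf 1789) (.leaf 0)) (.node (.leaf 0) (.leaf 0))))))) (.node (.node (.node (.node (.node (.node (.leaf 0) (.leaf 1988)) (.node (.leaf 1352) (.leaf 1582))) (.node (.node (.leaf 1763) (.leaf 0)) (.node (.leaf 0) (.leaf 0)))) (.node (.node (.node (.leaf 1169) (.leaf 0)) (.node (.leaf 0) (.leaf 0))) (.node (.node (.leaf 1398) (.leaf 0)) (.node (.leaf 0) (.leaf 0))))) (.node (.node (.node (.node (.leaf 1708) (.leaf 0)) (.node (.leaf 0) (.leaf 0))) (.node (.node (.leaf 0) (.leaf 474)) (.node (.leaf 1351) (.leaf 1434)))) (.node (.node (.node (.leaf 0) (.leaf 1179)) (.node (.leaf 502)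 (.leaf 2497))) (.node (.node (.leaf 0) (.leaf 1601)) (.node (.leaf 2683) (.leaf 1707)))))) (.node (.node (.node (.node (.node (.leaf 1040) (.leaf 0)) (.node (.leaf 0) (.leaf 0))) (.node (.node (.leaf 0) (.leaf 1443)) (.node (.leaf 1003) (.leaf 876)))) (.node (.node (.node (.leaf 0) (.leaf 836)) (.node (.leaf 774) (.leaf 271))) (.node (.node (.leaf 0) (.leaf 710)) (.node (.leaf 337) (.leaf 1014))))) (.node (.node (.node (.node (.leaf 2000) (.leaf 0)) (.node (.leaf 0) (.leaf 0))) (.node (.node (.leaf 0) (.leaf 136)) (.node (.leaf 1764) (.leaf 1590)))) (.node (.node (.node (.leaf 0) (.leaf 1942)) (.node (.leaf 2498) (.leaf 2877))) (.node (.node (.leaf 0) (.leaf 1423)) (.node (.leaf 2628) (.leaf 81)))))))) (.node (.node (.node (.node (.node (.node (.node (.leaf 0) (.leaf 234)) (.node (.leaf 835) (.leaf 1728))) (.node (.node (.leaf 296) (.leaf 0)) (.node (.leaf 0) (.leaf 0)))) (.node (.node (.node (.leaf 682) (.leaf 0)) (.node (.leaf 0) (.leaf 0))) (.node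 (.node (.leaf 1563) (.leaf 0)) (.node (.leaf 0) (.leaf 0))))) (.node (.node (.node (.node (.leaf 939) (.leaf 0)) (.node (.leaf 0) (.leaf 0))) (.node (.node (.leaf 0) (.leaf 1201)) (.node (.leaf 1422) (.leaf 758)))) (.node (.node (.node (.leaf 0) (.leaf 1589)) (.node (.leaf 868) (.leaf 991))) (.node (.node (.leaf 0) (.leaf 601)) (.node (.leaf 1168) (.leaf 1250)))))) (.node (.node (.node (.node (.node (.leaf 1059) (.leaf 0)) (.node (.leaf 0) (.leaf 0))) (.node (.node (.leaf 0) (.leaf 157)) (.node (.leaf 2856) (.leaf 1786)))) (.node (.node (.node (.leaf 0) (.leaf 2691)) (.node (.leaf 158) (.leaf 1356))) (.node (.node (.leaf 0) (.leaf 1614)) (.node (.leaf 1184) (.leaf 1060))))) (.node (.node (.node (.node (.leaf 172) (.leaf 0)) (.node (.leaf 0) (.leaf 0))) (.node (.node (.leaf 0) (.leaf 59)) (.node (.leaf 45) (.leaf 213)))) (.node (.node (.node (.leaf 0) (.leaf 63)) (.node (.leaf 2692) (.leaf 2236))) (.node (.node (.leaf 0) (.leaf 171)) (.node (.leaf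 1989) (.leaf 1779))))))) (.node (.node (.node (.node (.node (.node (.leaf 0) (.leaf 993)) (.node (.leaf 219) (.leaf 1180))) (.node (.node (.leaf 830) (.leaf 0)) (.node (.leaf 0) (.leaf 0)))) (.node (.node (.node (.leaf 276) (.leaf 0)) (.node (.leaf 0) (.leaf 0))) (.node (.node (.leaf 999) (.leaf 0)) (.node (.leaf 0) (.leaf 0))))) (.node (.node (.node (.node (.leaf 173) (.leaf 0)) (.node (.leaf 0) (.leaf 0))) (.node (.node (.leaf 0) (.leaf 1778)) (.node (.leaf 704) (.leaf 833)))) (.node (.node (.node (.leaf 0) (.leaf 560)) (.node (.leaf 113) (.leaf 310))) (.node (.node (.leaf 0) (.leaf 998)) (.node (.leaf 393) (.leaf 2242)))))) (.node (.node (.node (.node (.node (.leaf 1581) (.leaf 0)) (.node (.leaf 0) (.leaf 0))) (.node (.node (.leaf 0) (.leaf 2433)) (.node (.leaf 198) (.leaf 1173)))) (.node (.node (.node (.leaf 0) (.leaf 248)) (.node (.leaf 86) (.leaf 489))) (.node (.node (.leaf 0) (.leaf 994)) (.node (.leaf 619) (.leaf 217))))) (.node (.node (.node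 (.node (.leaf 3217) (.leaf 0)) (.node (.leaf 0) (.leaf 0))) (.node (.node (.leaf 0) (.leaf 89)) (.node (.leaf 2942) (.leaf 2431)))) (.node (.node (.node (.leaf 0) (.leaf 3086)) (.node (.leaf 88) (.leaf 2936))) (.node (.node (.leaf 0) (.leaf 2178)) (.node (.leaf 2755) (.leaf 3103))))))))

/-- Part of `invT`. -/
def invT_p1010 : Tr := .node (.node (.node (.node (.node (.node (.node (.node (.leaf 97) (.leaf 0)) (.node (.leaf 0) (.leaf 0))) (.node (.node (.leaf 0) (.leaf 708)) (.node (.leaf 340) (.leaf 2038)))) (.node (.node (.node (.leaf 0) (.leaf 273)) (.node (.leaf 246) (.leaf 371))) (.node (.node (.leaf 0) (.leaf 2148)) (.node (.leaf 294) (.leaf 1361))))) (.node (.node (.node (.node (.leaf 0) (.leaf 549)) (.node (.leaf 1603) (.leaf 442))) (.node (.node (.leaf 687) (.leaf 0)) (.node (.leaf 0) (.leaf 0)))) (.node (.node (.node (.leaf 1436) (.leaf 0)) (.node (.leaf 0) (.leaf 0))) (.node (.node (.leaf 347) (.leaf 0)) (.node (.leaf 0) (.leaf 0))))))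 (.node (.node (.node (.node (.node (.leaf 0) (.leaf 995)) (.node (.leaf 1715) (.leaf 479))) (.node (.node (.leaf 831) (.leaf 0)) (.node (.leaf 0) (.leaf 0)))) (.node (.node (.node (.leaf 1550) (.leaf 0)) (.node (.leaf 0) (.leaf 0))) (.node (.node (.leaf 608) (.leaf 0)) (.node (.leaf 0) (.leaf 0))))) (.node (.node (.node (.node (.leaf 0) (.leaf 1604)) (.node (.leaf 17) (.leaf 1881))) (.node (.node (.leaf 1437) (.leaf 0)) (.node (.leaf 0) (.leaf 0)))) (.node (.node (.node (.leaf 26) (.leaf 0)) (.node (.leaf 0) (.leaf 0))) (.node (.node (.leaf 1669) (.leaf 0)) (.node (.leaf 0) (.leaf 0))))))) (.node (.node (.node (.node (.node (.node (.leaf 0) (.leaf 1921)) (.node (.leaf 373) (.leaf 1176))) (.node (.node (.leaf 1743) (.leaf 0)) (.node (.leaf 0) (.leaf 0)))) (.node (.node (.node (.leaf 478) (.leaf 0)) (.node (.leaf 0) (.leaf 0))) (.node (.node (.leaf 996) (.leaf 0)) (.node (.leaf 0) (.leaf 0))))) (.node (.node (.node (.node (.leaf 274) (.leaf 0)) (.node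 (.leaf 0) (.leaf 0))) (.node (.node (.leaf 0) (.leaf 1396)) (.node (.leaf 345) (.leaf 1761)))) (.node (.node (.node (.leaf 0) (.leaf 432)) (.node (.leaf 118) (.leaf 94))) (.node (.node (.leaf 0) (.leaf 1939)) (.node (.leaf 121) (.leaf 2179)))))) (.node (.node (.node (.node (.node (.leaf 767) (.leaf 0)) (.node (.leaf 0) (.leaf 0))) (.node (.node (.leaf 0) (.leaf 1393)) (.node (.leaf 372) (.leaf 1165)))) (.node (.node (.node (.leaf 0) (.leaf 476)) (.node (.leaf 1008) (.leaf 1228))) (.node (.node (.leaf 0) (.leaf 989)) (.node (.leaf 1412) (.leaf 1394))))) (.node (.node (.node (.node (.leaf 1469) (.leaf 0)) (.node (.leaf 0) (.leaf 0))) (.node (.node (.leaf 0) (.leaf 1470)) (.node (.leaf 1852) (.leaf 1744)))) (.node (.node (.node (.leaf 0) (.leaf 2039)) (.node (.leaf 93) (.leaf 3271))) (.node (.node (.leaf 0) (.leaf 1922)) (.node (.leaf 3163) (.leaf 95)))))))) (.node (.node (.node (.node (.node (.node (.node (.leaf 0) (.leaf 562)) (.node (.leaf 433)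 (.leaf 1807))) (.node (.node (.leaf 443) (.leaf 0)) (.node (.leaf 0) (.leaf 0)))) (.node (.node (.node (.leaf 548) (.leaf 0)) (.node (.leaf 0) (.leaf 0))) (.node (.node (.leaf 1635) (.leaf 0)) (.node (.leaf 0) (.leaf 0))))) (.node (.node (.node (.node (.leaf 843) (.leaf 0)) (.node (.leaf 0) (.leaf 0))) (.node (.node (.leaf 0) (.leaf 1238)) (.node (.leaf 1668) (.leaf 1017)))) (.node (.node (.node (.leaf 0) (.leaf 1468)) (.node (.leaf 612) (.leaf 556))) (.node (.node (.leaf 0) (.leaf 1202)) (.node (.leaf 439) (.leaf 1577)))))) (.node (.node (.node (.node (.node (.leaf 679) (.leaf 0)) (.node (.leaf 0) (.leaf 0))) (.node (.node (.leaf 0) (.leaf 2125)) (.node (.leaf 91) (.leaf 1775)))) (.node (.node (.node (.leaf 0) (.leaf 69)) (.node (.leaf 308) (.leaf 233))) (.node (.node (.leaf 0) (.leaf 1579)) (.node (.leaf 293) (.leaf 1347))))) (.node (.node (.node (.node (.leaf 1265) (.leaf 0)) (.node (.leaf 0) (.leaf 0))) (.node (.node (.leaf 0) (.leaf 122)) (.node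 (.leaf 3087) (.leaf 1810)))) (.node (.node (.node (.leaf 0) (.leaf 3270)) (.node (.leaf 68) (.leaf 2149))) (.node (.node (.leaf 0) (.leaf 1638)) (.node (.leaf 1960) (.leaf 1667))))))) (.node (.node (.node (.node (.node (.node (.leaf 0) (.leaf 346)) (.node (.leaf 311) (.leaf 475))) (.node (.node (.leaf 440) (.leaf 0)) (.node (.leaf 0) (.leaf 0)))) (.node (.node (.node (.leaf 394) (.leaf 0)) (.node (.leaf 0) (.leaf 0))) (.node (.node (.leaf 602) (.leaf 0)) (.node (.leaf 0) (.leaf 0))))) (.node (.node (.node (.node (.leaf 1264) (.leaf 0)) (.node (.leaf 0) (.leaf 0))) (.node (.node (.leaf 0) (.leaf 1263)) (.node (.leaf 481) (.leaf 684)))) (.node (.node (.node (.leaf 0) (.leaf 375)) (.node (.leaf 124) (.leaf 193))) (.node (.node (.leaf 0) (.leaf 547)) (.node (.leaf 152) (.leaf 123)))))) (.node (.node (.node (.node (.node (.leaf 1467) (.leaf 0)) (.node (.leaf 0) (.leaf 0))) (.node (.node (.leaf 0) (.leaf 96)) (.node (.leaf 243) (.leaf 295)))) (.node (.node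 (.node (.leaf 0) (.leaf 194)) (.node (.leaf 156) (.leaf 685))) (.node (.node (.leaf 0) (.leaf 374)) (.node (.leaf 839) (.leaf 1061))))) (.node (.node (.node (.node (.leaf 40) (.leaf 0)) (.node (.leaf 0) (.leaf 0))) (.node (.node (.leaf 0) (.leaf 3399)) (.node (.leaf 46) (.leaf 2389)))) (.node (.node (.node (.leaf 0) (.leaf 64)) (.node (.leaf 154) (.leaf 90))) (.node (.node (.leaf 0) (.leaf 2292)) (.node (.leaf 67) (.leaf 3400))))))))

/-- Part of `invT`. -/
def invT_p1011 : Tr := .node (.node (.node (.node (.node (.node (.node (.node (.leaf 1912) (.leaf 0)) (.node (.leaf 0) (.leaf 0))) (.node (.node (.leaf 0) (.leaf 1524)) (.node (.leaf 1411) (.leaf 2426)))) (.node (.node (.node (.leaf 0) (.leaf 1227)) (.node (.leaf 391) (.leaf 1205))) (.node (.node (.leaf 0) (.leaf 2255)) (.node (.leaf 1028) (.leaf 546))))) (.node (.node (.node (.node (.leaf 0) (.leaf 845)) (.node (.leaf 1185) (.leaf 563))) (.node (.node (.leaf 1015) (.leaf 0)) (.node (.leaf 0)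 (.leaf 0)))) (.node (.node (.node (.leaf 1357) (.leaf 0)) (.node (.leaf 0) (.leaf 0))) (.node (.node (.leaf 709) (.leaf 0)) (.node (.leaf 0) (.leaf 0)))))) (.node (.node (.node (.node (.node (.leaf 0) (.leaf 1203)) (.node (.leaf 232) (.leaf 769))) (.node (.node (.leaf 1397) (.leaf 0)) (.node (.leaf 0) (.leaf 0)))) (.node (.node (.node (.leaf 292) (.leaf 0)) (.node (.leaf 0) (.leaf 0))) (.node (.node (.leaf 946) (.leaf 0)) (.node (.leaf 0) (.leaf 0))))) (.node (.node (.node (.node (.leaf 0) (.leaf 1765)) (.node (.leaf 2874) (.leaf 270))) (.node (.node (.leaf 1943) (.leaf 0)) (.node (.leaf 0) (.leaf 0)))) (.node (.node (.node (.leaf 3100) (.leaf 0)) (.node (.leaf 0) (.leaf 0))) (.node (.node (.leaf 336) (.leaf 0)) (.node (.leaf 0) (.leaf 0))))))) (.node (.node (.node (.node (.node (.node (.leaf 0) (.leaf 2009)) (.node (.leaf 853) (.leaf 683))) (.node (.node (.leaf 1826) (.leaf 0)) (.node (.leaf 0) (.leaf 0)))) (.node (.node (.node (.leaf 694) (.leaf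 0)) (.node (.leaf 0) (.leaf 0))) (.node (.node (.leaf 837) (.leaf 0)) (.node (.leaf 0) (.leaf 0))))) (.node (.node (.node (.node (.leaf 874) (.leaf 0)) (.node (.leaf 0) (.leaf 0))) (.node (.node (.leaf 0) (.leaf 1262)) (.node (.leaf 1421) (.leaf 1373)))) (.node (.node (.node (.leaf 0) (.leaf 1588)) (.node (.leaf 197) (.leaf 2608))) (.node (.node (.leaf 0) (.leaf 1537)) (.node (.leaf 2855) (.leaf 125)))))) (.node (.node (.node (.node (.node (.leaf 1133) (.leaf 0)) (.node (.leaf 0) (.leaf 0))) (.node (.node (.leaf 0) (.leaf 1381)) (.node (.leaf 850) (.leaf 275)))) (.node (.node (.node (.leaf 0) (.leaf 692)) (.node (.leaf 1051) (.leaf 1729))) (.node (.node (.leaf 0) (.leaf 348)) (.node (.leaf 1564) (.leaf 1128))))) (.node (.node (.node (.node (.leaf 427) (.leaf 0)) (.node (.leaf 0) (.leaf 0))) (.node (.node (.leaf 0) (.leaf 1710)) (.node (.leaf 2232) (.leaf 230)))) (.node (.node (.node (.leaf 0) (.leaf 2427)) (.node (.leaf 2609) (.leaf 41))) (.node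 (.node (.leaf 0) (.leaf 184)) (.node (.leaf 28) (.leaf 472)))))))) (.node (.node (.node (.node (.node (.node (.node (.leaf 0) (.leaf 1348)) (.node (.leaf 1213) (.leaf 2174))) (.node (.node (.leaf 1166) (.leaf 0)) (.node (.leaf 0) (.leaf 0)))) (.node (.node (.node (.leaf 1025) (.leaf 0)) (.node (.leaf 0) (.leaf 0))) (.node (.node (.leaf 1985) (.leaf 0)) (.node (.leaf 0) (.leaf 0))))) (.node (.node (.node (.node (.leaf 1199) (.leaf 0)) (.node (.leaf 0) (.leaf 0))) (.node (.node (.leaf 0) (.leaf 945)) (.node (.leaf 343) (.leaf 886)))) (.node (.node (.node (.leaf 0) (.leaf 428)) (.node (.leaf 953) (.leaf 1030))) (.node (.node (.leaf 0) (.leaf 1070)) (.node (.leaf 1219) (.leaf 1198)))))) (.node (.node (.node (.node (.node (.leaf 1580) (.leaf 0)) (.node (.leaf 0) (.leaf 0))) (.node (.node (.leaf 0) (.leaf 1997)) (.node (.leaf 2380) (.leaf 1714)))) (.node (.node (.node (.leaf 0) (.leaf 2139)) (.node (.leaf 146) (.leaf 857))) (.node (.node (.leaf 0) (.leaf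 1549)) (.node (.leaf 1023) (.leaf 218))))) (.node (.node (.node (.node (.leaf 2141) (.leaf 0)) (.node (.leaf 0) (.leaf 0))) (.node (.node (.leaf 0) (.leaf 430)) (.node (.leaf 3004) (.leaf 1376)))) (.node (.node (.node (.leaf 0) (.leaf 3160)) (.node (.leaf 2140) (.leaf 2256))) (.node (.node (.leaf 0) (.leaf 1540)) (.node (.leaf 2059) (.leaf 291))))))) (.node (.node (.node (.node (.node (.node (.leaf 0) (.leaf 1036)) (.node (.leaf 309) (.leaf 1019))) (.node (.node (.leaf 859) (.leaf 0)) (.node (.leaf 0) (.leaf 0)))) (.node (.node (.node (.leaf 244) (.leaf 0)) (.node (.leaf 0) (.leaf 0))) (.node (.node (.leaf 848) (.leaf 0)) (.node (.leaf 0) (.leaf 0))))) (.node (.node (.node (.node (.leaf 1525) (.leaf 0)) (.node (.leaf 0) (.leaf 0))) (.node (.node (.leaf 0) (.leaf 542)) (.node (.leaf 775) (.leaf 1207)))) (.node (.node (.node (.leaf 0) (.leaf 614)) (.node (.leaf 392) (.leaf 312))) (.node (.node (.leaf 0) (.leaf 1403)) (.node (.leaf 247) (.leaf 2364))))))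 (.node (.node (.node (.node (.node (.leaf 370) (.leaf 0)) (.node (.leaf 0) (.leaf 0))) (.node (.node (.leaf 0) (.leaf 1913)) (.node (.leaf 187) (.leaf 696)))) (.node (.node (.node (.leaf 0) (.leaf 235)) (.node (.leaf 545) (.leaf 719))) (.node (.node (.leaf 0) (.leaf 555)) (.node (.leaf 884) (.leaf 1914))))) (.node (.node (.node (.node (.leaf 3280) (.leaf 0)) (.node (.leaf 0) (.leaf 0))) (.node (.node (.leaf 0) (.leaf 3283)) (.node (.leaf 2381) (.leaf 2510)))) (.node (.node (.node (.leaf 0) (.leaf 2627)) (.node (.leaf 120) (.leaf 3085))) (.node (.node (.leaf 0) (.leaf 2684)) (.node (.leaf 2857) (.leaf 62))))))))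

/-- Part of `invT`. -/
def invT_p1100 : Tr := .node (.node (.node (.node (.node (.node (.node (.node (.leaf 0) (.leaf 1727)) (.node (.leaf 1587) (.leaf 30))) (.node (.node (.leaf 1562) (.leaf 0)) (.node (.leaf 0) (.leaf 0)))) (.node (.node (.node (.leaf 1420) (.leaf 0)) (.node (.leaf 0) (.leaf 0))) (.node (.node (.leaf 44) (.leaf 0)) (.node (.leaf 0) (.leaf 0))))) (.node (.node (.node (.node (.leaf 637) (.leaf 0)) (.node (.leaf 0) (.leaf 0))) (.node (.node (.leaf 0) (.leaf 424)) (.node (.leaf 2295) (.leaf 2060)))) (.node (.node (.node (.leaf 0) (.leaf 2551)) (.node (.leaf 434) (.leaf 2234))) (.node (.node (.leaf 0) (.leaf 2291)) (.node (.leaf 2492) (.leaf 43)))))) (.node (.node (.node (.node (.node (.leaf 1239) (.leaf 0)) (.node (.leaf 0) (.leaf 0))) (.node (.node (.leaf 0) (.leaf 1251)) (.node (.leaf 1940) (.leaf 552)))) (.node (.node (.node (.leaf 0) (.leaf 1762)) (.node (.leaf 944) (.leaf 445))) (.node (.node (.leaf 0) (.leaf 691)) (.node (.leaf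 349) (.leaf 1191))))) (.node (.node (.node (.node (.leaf 1127) (.leaf 0)) (.node (.leaf 0) (.leaf 0))) (.node (.node (.leaf 0) (.leaf 1052)) (.node (.leaf 1615) (.leaf 618)))) (.node (.node (.node (.leaf 0) (.leaf 1787)) (.node (.leaf 1049) (.leaf 828))) (.node (.node (.leaf 0) (.leaf 488)) (.node (.leaf 990) (.leaf 1050))))))) (.node (.node (.node (.node (.node (.node (.leaf 66) (.leaf 0)) (.node (.leaf 0) (.leaf 0))) (.node (.node (.leaf 0) (.leaf 550)) (.node (.leaf 571) (.leaf 613)))) (.node (.node (.node (.leaf 0) (.leaf 449)) (.node (.leaf 539) (.leaf 715))) (.node (.node (.leaf 0) (.leaf 482)) (.node (.leaf 570) (.leaf 792))))) (.node (.node (.node (.node (.leaf 0) (.leaf 2512)) (.node (.leaf 2686) (.leaf 27))) (.node (.node (.leaf 2258) (.leaf 0)) (.node (.leaf 0) (.leaf 0)))) (.node (.node (.node (.leaf 2429) (.leaf 0)) (.node (.leaf 0) (.leaf 0))) (.node (.node (.leaf 18) (.leaf 0)) (.node (.leaf 0) (.leaf 0)))))) (.node (.node (.node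 (.node (.node (.leaf 0) (.leaf 829)) (.node (.leaf 277) (.leaf 1009))) (.node (.node (.leaf 678) (.leaf 0)) (.node (.leaf 0) (.leaf 0)))) (.node (.node (.node (.leaf 350) (.leaf 0)) (.node (.leaf 0) (.leaf 0))) (.node (.node (.leaf 840) (.leaf 0)) (.node (.leaf 0) (.leaf 0))))) (.node (.node (.node (.node (.leaf 0) (.leaf 380)) (.node (.leaf 847) (.leaf 870))) (.node (.node (.leaf 299) (.leaf 0)) (.node (.leaf 0) (.leaf 0)))) (.node (.node (.node (.leaf 690) (.leaf 0)) (.node (.leaf 0) (.leaf 0))) (.node (.node (.leaf 705) (.leaf 0)) (.node (.leaf 0) (.leaf 0)))))))) (.node (.node (.node (.node (.node (.node (.node (.leaf 1392) (.leaf 0)) (.node (.leaf 0) (.leaf 0))) (.node (.node (.leaf 0) (.leaf 1041)) (.node (.leaf 864) (.leaf 540)))) (.node (.node (.node (.leaf 0) (.leaf 1042)) (.node (.leaf 1013) (.leaf 883))) (.node (.node (.leaf 0) (.leaf 435)) (.node (.leaf 718) (.leaf 773))))) (.node (.node (.node (.node (.leaf 0) (.leaf 335)) (.node (.leaf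 2513) (.leaf 1828))) (.node (.node (.leaf 269) (.leaf 0)) (.node (.leaf 0) (.leaf 0)))) (.node (.node (.node (.leaf 2772) (.leaf 0)) (.node (.leaf 0) (.leaf 0))) (.node (.node (.leaf 2011) (.leaf 0)) (.node (.leaf 0) (.leaf 0)))))) (.node (.node (.node (.node (.node (.leaf 0) (.leaf 1451)) (.node (.leaf 2175) (.leaf 436))) (.node (.node (.leaf 1647) (.leaf 0)) (.node (.leaf 0) (.leaf 0)))) (.node (.node (.node (.leaf 2428) (.leaf 0)) (.node (.leaf 0) (.leaf 0))) (.node (.node (.leaf 541) (.leaf 0)) (.node (.leaf 0) (.leaf 0))))) (.node (.node (.node (.node (.leaf 0) (.leaf 885)) (.node (.leaf 1827) (.leaf 486))) (.node (.node (.leaf 720) (.leaf 0)) (.node (.leaf 0) (.leaf 0)))) (.node (.node (.node (.leaf 2037) (.leaf 0)) (.node (.leaf 0) (.leaf 0))) (.node (.node (.leaf 378) (.leaf 0)) (.node (.leaf 0) (.leaf 0))))))) (.node (.node (.node (.node (.node (.node (.leaf 1236) (.leaf 0)) (.node (.leaf 0) (.leaf 0))) (.node (.node (.leaf 0) (.leaf 1237))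 (.node (.leaf 844) (.leaf 716)))) (.node (.node (.node (.leaf 0) (.leaf 688)) (.node (.leaf 940) (.leaf 342))) (.node (.node (.leaf 0) (.leaf 568)) (.node (.leaf 426) (.leaf 869))))) (.node (.node (.node (.node (.leaf 0) (.leaf 2687)) (.node (.leaf 341) (.leaf 1987))) (.node (.node (.leaf 2939) (.leaf 0)) (.node (.leaf 0) (.leaf 0)))) (.node (.node (.node (.leaf 425) (.leaf 0)) (.node (.leaf 0) (.leaf 0))) (.node (.node (.leaf 2176) (.leaf 0)) (.node (.leaf 0) (.leaf 0)))))) (.node (.node (.node (.node (.node (.leaf 0) (.leaf 1986)) (.node (.leaf 768) (.leaf 566))) (.node (.node (.leaf 2233) (.leaf 0)) (.node (.leaf 0) (.leaf 0)))) (.node (.node (.node (.leaf 609) (.leaf 0)) (.node (.leaf 0) (.leaf 0))) (.node (.node (.leaf 447) (.leaf 0)) (.node (.leaf 0) (.leaf 0))))) (.node (.node (.node (.node (.leaf 0) (.leaf 2010)) (.node (.leaf 1226) (.leaf 677))) (.node (.node (.leaf 2257) (.leaf 0)) (.node (.leaf 0) (.leaf 0)))) (.node (.node (.node (.leaf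 1410) (.leaf 0)) (.node (.leaf 0) (.leaf 0))) (.node (.node (.leaf 551) (.leaf 0)) (.node (.leaf 0) (.leaf 0))))))))

/-- Part of `invT`. -/
def invT_p1101 : Tr := .node (.node (.node (.node (.node (.node (.node (.node (.leaf 1912) (.leaf 0)) (.node (.leaf 0) (.leaf 0))) (.node (.node (.leaf 0) (.leaf 546)) (.node (.leaf 2255) (.leaf 1028)))) (.node (.node (.node (.leaf 0) (.leaf 2426)) (.node (.leaf 1524) (.leaf 1411))) (.node (.node (.leaf 0) (.leaf 1205)) (.node (.leaf 1227) (.leaf 391))))) (.node (.node (.node (.node (.leaf 0) (.leaf 270)) (.node (.leaf 1765) (.leaf 2874))) (.node (.node (.leaf 336) (.leaf 0)) (.node (.leaf 0) (.leaf 0)))) (.node (.node (.node (.leaf 1943) (.leaf 0)) (.node (.leaf 0) (.leaf 0))) (.node (.node (.leaf 3100) (.leaf 0)) (.node (.leaf 0) (.leaf 0)))))) (.node (.node (.node (.node (.node (.leaf 0) (.leaf 563)) (.node (.leaf 845) (.leaf 1185))) (.node (.node (.leaf 709) (.leaf 0)) (.node (.leaf 0) (.leaf 0)))) (.node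 (.node (.node (.leaf 1015) (.leaf 0)) (.node (.leaf 0) (.leaf 0))) (.node (.node (.leaf 1357) (.leaf 0)) (.node (.leaf 0) (.leaf 0))))) (.node (.node (.node (.node (.leaf 0) (.leaf 769)) (.node (.leaf 1203) (.leaf 232))) (.node (.node (.leaf 946) (.leaf 0)) (.node (.leaf 0) (.leaf 0)))) (.node (.node (.node (.leaf 1397) (.leaf 0)) (.node (.leaf 0) (.leaf 0))) (.node (.node (.leaf 292) (.leaf 0)) (.node (.leaf 0) (.leaf 0))))))) (.node (.node (.node (.node (.node (.node (.leaf 0) (.leaf 1019)) (.node (.leaf 1036) (.leaf 309))) (.node (.node (.leaf 848) (.leaf 0)) (.node (.leaf 0) (.leaf 0)))) (.node (.node (.node (.leaf 859) (.leaf 0)) (.node (.leaf 0) (.leaf 0))) (.node (.node (.leaf 244) (.leaf 0)) (.node (.leaf 0) (.leaf 0))))) (.node (.node (.node (.node (.leaf 3280) (.leaf 0)) (.node (.leaf 0) (.leaf 0))) (.node (.node (.leaf 0) (.leaf 62)) (.node (.leaf 2684) (.leaf 2857)))) (.node (.node (.node (.leaf 0) (.leaf 2510)) (.node (.leaf 3283) (.leaf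 2381))) (.node (.node (.leaf 0) (.leaf 3085)) (.node (.leaf 2627) (.leaf 120)))))) (.node (.node (.node (.node (.node (.leaf 1525) (.leaf 0)) (.node (.leaf 0) (.leaf 0))) (.node (.node (.leaf 0) (.leaf 2364)) (.node (.leaf 1403) (.leaf 247)))) (.node (.node (.node (.leaf 0) (.leaf 1207)) (.node (.leaf 542) (.leaf 775))) (.node (.node (.leaf 0) (.leaf 312)) (.node (.leaf 614) (.leaf 392))))) (.node (.node (.node (.node (.leaf 370) (.leaf 0)) (.node (.leaf 0) (.leaf 0))) (.node (.node (.leaf 0) (.leaf 1914)) (.node (.leaf 555) (.leaf 884)))) (.node (.node (.node (.leaf 0) (.leaf 696)) (.node (.leaf 1913) (.leaf 187))) (.node (.node (.leaf 0) (.leaf 719)) (.node (.leaf 235) (.leaf 545)))))))) (.node (.node (.node (.node (.node (.node (.node (.leaf 0) (.leaf 683)) (.node (.leaf 2009) (.leaf 853))) (.node (.node (.leaf 837) (.leaf 0)) (.node (.leaf 0) (.leaf 0)))) (.node (.node (.node (.leaf 1826) (.leaf 0)) (.node (.leaf 0) (.leaf 0))) (.node (.node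 (.leaf 694) (.leaf 0)) (.node (.leaf 0) (.leaf 0))))) (.node (.node (.node (.node (.leaf 427) (.leaf 0)) (.node (.leaf 0) (.leaf 0))) (.node (.node (.leaf 0) (.leaf 472)) (.node (.leaf 184) (.leaf 28)))) (.node (.node (.node (.leaf 0) (.leaf 230)) (.node (.leaf 1710) (.leaf 2232))) (.node (.node (.leaf 0) (.leaf 41)) (.node (.leaf 2427) (.leaf 2609)))))) (.node (.node (.node (.node (.node (.leaf 874) (.leaf 0)) (.node (.leaf 0) (.leaf 0))) (.node (.node (.leaf 0) (.leaf 125)) (.node (.leaf 1537) (.leaf 2855)))) (.node (.node (.node (.leaf 0) (.leaf 1373)) (.node (.leaf 1262) (.leaf 1421))) (.node (.node (.leaf 0) (.leaf 2608)) (.node (.leaf 1588) (.leaf 197))))) (.node (.node (.node (.node (.leaf 1133) (.leaf 0)) (.node (.leaf 0) (.leaf 0))) (.node (.node (.leaf 0) (.leaf 1128)) (.node (.leaf 348) (.leaf 1564)))) (.node (.node (.node (.leaf 0) (.leaf 275)) (.node (.leaf 1381) (.leaf 850))) (.node (.node (.leaf 0) (.leaf 1729)) (.node (.leaf 692)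 (.leaf 1051))))))) (.node (.node (.node (.node (.node (.node (.leaf 0) (.leaf 2174)) (.node (.leaf 1348) (.leaf 1213))) (.node (.node (.leaf 1985) (.leaf 0)) (.node (.leaf 0) (.leaf 0)))) (.node (.node (.node (.leaf 1166) (.leaf 0)) (.node (.leaf 0) (.leaf 0))) (.node (.node (.leaf 1025) (.leaf 0)) (.node (.leaf 0) (.leaf 0))))) (.node (.node (.node (.node (.leaf 2141) (.leaf 0)) (.node (.leaf 0) (.leaf 0))) (.node (.node (.leaf 0) (.leaf 291)) (.node (.leaf 1540) (.leaf 2059)))) (.node (.node (.node (.leaf 0) (.leaf 1376)) (.node (.leaf 430) (.leaf 3004))) (.node (.node (.leaf 0) (.leaf 2256)) (.node (.leaf 3160) (.leaf 2140)))))) (.node (.node (.node (.node (.node (.leaf 1199) (.leaf 0)) (.node (.leaf 0) (.leaf 0))) (.node (.node (.leaf 0) (.leaf 1198)) (.node (.leaf 1070) (.leaf 1219)))) (.node (.node (.node (.leaf 0) (.leaf 886)) (.node (.leaf 945) (.leaf 343))) (.node (.node (.leaf 0) (.leaf 1030)) (.node (.leaf 428) (.leaf 953))))) (.node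 (.node (.node (.node (.leaf 1580) (.leaf 0)) (.node (.leaf 0) (.leaf 0))) (.node (.node (.leaf 0) (.leaf 218)) (.node (.leaf 1549) (.leaf 1023)))) (.node (.node (.node (.leaf 0) (.leaf 1714)) (.node (.leaf 1997) (.leaf 2380))) (.node (.node (.leaf 0) (.leaf 857)) (.node (.leaf 2139) (.leaf 146))))))))

/-- Part of `invT`. -/
def invT_p1110 : Tr := .node (.node (.node (.node (.node (.node (.node (.node (.leaf 1776) (.leaf 0)) (.node (.leaf 0) (.leaf 0))) (.node (.node (.leaf 0) (.leaf 1777)) (.node (.leaf 2177) (.leaf 1529)))) (.node (.node (.node (.leaf 0) (.leaf 1941)) (.node (.leaf 186) (.leaf 1002))) (.node (.node (.leaf 0) (.leaf 1365)) (.node (.leaf 1172) (.leaf 174))))) (.node (.node (.node (.node (.leaf 0) (.leaf 1617)) (.node (.leaf 266) (.leaf 2758))) (.node (.node (.leaf 1789) (.leaf 0)) (.node (.leaf 0) (.leaf 0)))) (.node (.node (.node (.leaf 214) (.leaf 0)) (.node (.leaf 0) (.leaf 0))) (.node (.node (.leaf 3006) (.leaf 0)) (.node (.leaf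 0) (.leaf 0)))))) (.node (.node (.node (.node (.node (.leaf 0) (.leaf 1349)) (.node (.leaf 606) (.leaf 268))) (.node (.node (.leaf 1526) (.leaf 0)) (.node (.leaf 0) (.leaf 0)))) (.node (.node (.node (.leaf 764) (.leaf 0)) (.node (.leaf 0) (.leaf 0))) (.node (.node (.leaf 216) (.leaf 0)) (.node (.leaf 0) (.leaf 0))))) (.node (.node (.node (.node (.leaf 0) (.leaf 700)) (.node (.leaf 717) (.leaf 1218))) (.node (.node (.leaf 863) (.leaf 0)) (.node (.leaf 0) (.leaf 0)))) (.node (.node (.node (.leaf 882) (.leaf 0)) (.node (.leaf 0) (.leaf 0))) (.node (.node (.leaf 1402) (.leaf 0)) (.node (.leaf 0) (.leaf 0))))))) (.node (.node (.node (.node (.node (.node (.leaf 0) (.leaf 1180)) (.node (.leaf 993) (.leaf 219))) (.node (.node (.leaf 999) (.leaf 0)) (.node (.leaf 0) (.leaf 0)))) (.node (.node (.node (.leaf 830) (.leaf 0)) (.node (.leaf 0) (.leaf 0))) (.node (.node (.leaf 276) (.leaf 0)) (.node (.leaf 0) (.leaf 0))))) (.node (.node (.node (.node (.leaf 3217)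 (.leaf 0)) (.node (.leaf 0) (.leaf 0))) (.node (.node (.leaf 0) (.leaf 3103)) (.node (.leaf 2178) (.leaf 2755)))) (.node (.node (.node (.leaf 0) (.leaf 2431)) (.node (.leaf 89) (.leaf 2942))) (.node (.node (.leaf 0) (.leaf 2936)) (.node (.leaf 3086) (.leaf 88)))))) (.node (.node (.node (.node (.node (.leaf 173) (.leaf 0)) (.node (.leaf 0) (.leaf 0))) (.node (.node (.leaf 0) (.leaf 2242)) (.node (.leaf 998) (.leaf 393)))) (.node (.node (.node (.leaf 0) (.leaf 833)) (.node (.leaf 1778) (.leaf 704))) (.node (.node (.leaf 0) (.leaf 310)) (.node (.leaf 560) (.leaf 113))))) (.node (.node (.node (.node (.leaf 1581) (.leaf 0)) (.node (.leaf 0) (.leaf 0))) (.node (.node (.leaf 0) (.leaf 217)) (.node (.leaf 994) (.leaf 619)))) (.node (.node (.node (.leaf 0) (.leaf 1173)) (.node (.leaf 2433) (.leaf 198))) (.node (.node (.leaf 0) (.leaf 489)) (.node (.leaf 248) (.leaf 86)))))))) (.node (.node (.node (.node (.node (.node (.node (.leaf 0) (.leaf 1582)) (.node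 (.leaf 1988) (.leaf 1352))) (.node (.node (.leaf 1398) (.leaf 0)) (.node (.leaf 0) (.leaf 0)))) (.node (.node (.node (.leaf 1763) (.leaf 0)) (.node (.leaf 0) (.leaf 0))) (.node (.node (.leaf 1169) (.leaf 0)) (.node (.leaf 0) (.leaf 0))))) (.node (.node (.node (.node (.leaf 2000) (.leaf 0)) (.node (.leaf 0) (.leaf 0))) (.node (.node (.leaf 0) (.leaf 81)) (.node (.leaf 1423) (.leaf 2628)))) (.node (.node (.node (.leaf 0) (.leaf 1590)) (.node (.leaf 136) (.leaf 1764))) (.node (.node (.leaf 0) (.leaf 2877)) (.node (.leaf 1942) (.leaf 2498)))))) (.node (.node (.node (.node (.node (.leaf 1708) (.leaf 0)) (.node (.leaf 0) (.leaf 0))) (.node (.node (.leaf 0) (.leaf 1707)) (.node (.leaf 1601) (.leaf 2683)))) (.node (.node (.node (.leaf 0) (.leaf 1434)) (.node (.leaf 474) (.leaf 1351))) (.node (.node (.leaf 0) (.leaf 2497)) (.node (.leaf 1179) (.leaf 502))))) (.node (.node (.node (.node (.leaf 1040) (.leaf 0)) (.node (.leaf 0) (.leaf 0))) (.node (.node (.leaf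 0) (.leaf 1014)) (.node (.leaf 710) (.leaf 337)))) (.node (.node (.node (.leaf 0) (.leaf 876)) (.node (.leaf 1443) (.leaf 1003))) (.node (.node (.leaf 0) (.leaf 271)) (.node (.leaf 836) (.leaf 774))))))) (.node (.node (.node (.node (.node (.node (.leaf 0) (.leaf 1728)) (.node (.leaf 234) (.leaf 835))) (.node (.node (.leaf 1563) (.leaf 0)) (.node (.leaf 0) (.leaf 0)))) (.node (.node (.node (.leaf 296) (.leaf 0)) (.node (.leaf 0) (.leaf 0))) (.node (.node (.leaf 682) (.leaf 0)) (.node (.leaf 0) (.leaf 0))))) (.node (.node (.node (.node (.leaf 172) (.leaf 0)) (.node (.leaf 0) (.leaf 0))) (.node (.node (.leaf 0) (.leaf 1779)) (.node (.leaf 171) (.leaf 1989)))) (.node (.node (.node (.leaf 0) (.leaf 213)) (.node (.leaf 59) (.leaf 45))) (.node (.node (.leaf 0) (.leaf 2236)) (.node (.leaf 63) (.leaf 2692)))))) (.node (.node (.node (.node (.node (.leaf 939) (.leaf 0)) (.node (.leaf 0) (.leaf 0))) (.node (.node (.leaf 0) (.leaf 1250)) (.node (.leaf 601) (.leaf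 1168)))) (.node (.node (.node (.leaf 0) (.leaf 758)) (.node (.leaf 1201) (.leaf 1422))) (.node (.node (.leaf 0) (.leaf 991)) (.node (.leaf 1589) (.leaf 868))))) (.node (.node (.node (.node (.leaf 1059) (.leaf 0)) (.node (.leaf 0) (.leaf 0))) (.node (.node (.leaf 0) (.leaf 1060)) (.node (.leaf 1614) (.leaf 1184)))) (.node (.node (.node (.leaf 0) (.leaf 1786)) (.node (.leaf 157) (.leaf 2856))) (.node (.node (.leaf 0) (.leaf 1356)) (.node (.leaf 2691) (.leaf 158))))))))

/-- Part of `invT`. -/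
def invT_p1111 : Tr := .node (.node (.node (.node (.node (.node (.node (.node (.leaf 97) (.leaf 0)) (.node (.leaf 0) (.leaf 0))) (.node (.node (.leaf 0) (.leaf 1361)) (.node (.leaf 2148) (.leaf 294)))) (.node (.node (.node (.leaf 0) (.leaf 2038)) (.node (.leaf 708) (.leaf 340))) (.node (.node (.leaf 0) (.leaf 371)) (.node (.leaf 273) (.leaf 246))))) (.node (.node (.node (.node (.leaf 0) (.leaf 1881)) (.node (.leaf 1604) (.leaf 17))) (.node (.node (.leaf 1669) (.leaf 0)) (.node (.leaf 0) (.leaf 0)))) (.node (.node (.node (.leaf 1437) (.leaf 0)) (.node (.leaf 0) (.leaf 0))) (.node (.node (.leaf 26) (.leaf 0)) (.node (.leaf 0) (.leaf 0)))))) (.node (.node (.node (.node (.node (.leaf 0) (.leaf 442)) (.node (.leaf 549) (.leaf 1603))) (.node (.node (.leaf 347) (.leaf 0)) (.node (.leaf 0) (.leaf 0)))) (.node (.node (.node (.leaf 687) (.leaf 0)) (.node (.leaf 0) (.leaf 0))) (.node (.node (.leaf 1436) (.leaf 0)) (.node (.leaf 0) (.leaf 0))))) (.node (.node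 (.node (.node (.leaf 0) (.leaf 479)) (.node (.leaf 995) (.leaf 1715))) (.node (.node (.leaf 608) (.leaf 0)) (.node (.leaf 0) (.leaf 0)))) (.node (.node (.node (.leaf 831) (.leaf 0)) (.node (.leaf 0) (.leaf 0))) (.node (.node (.leaf 1550) (.leaf 0)) (.node (.leaf 0) (.leaf 0))))))) (.node (.node (.node (.node (.node (.node (.leaf 0) (.leaf 475)) (.node (.leaf 346) (.leaf 311))) (.node (.node (.leaf 602) (.leaf 0)) (.node (.leaf 0) (.leaf 0)))) (.node (.node (.node (.leaf 440) (.leaf 0)) (.node (.leaf 0) (.leaf 0))) (.node (.node (.leaf 394) (.leaf 0)) (.node (.leaf 0) (.leaf 0))))) (.node (.node (.node (.node (.leaf 40) (.leaf 0)) (.node (.leaf 0) (.leaf 0))) (.node (.node (.leaf 0) (.leaf 3400)) (.node (.leaf 2292) (.leaf 67)))) (.node (.node (.node (.leaf 0) (.leaf 2389)) (.node (.leaf 3399) (.leaf 46))) (.node (.node (.leaf 0) (.leaf 90)) (.node (.leaf 64) (.leaf 154)))))) (.node (.node (.node (.node (.node (.leaf 1264) (.leaf 0)) (.node (.leaf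 0) (.leaf 0))) (.node (.node (.leaf 0) (.leaf 123)) (.node (.leaf 547) (.leaf 152)))) (.node (.node (.node (.leaf 0) (.leaf 684)) (.node (.leaf 1263) (.leaf 481))) (.node (.node (.leaf 0) (.leaf 193)) (.node (.leaf 375) (.leaf 124))))) (.node (.node (.node (.node (.leaf 1467) (.leaf 0)) (.node (.leaf 0) (.leaf 0))) (.node (.node (.leaf 0) (.leaf 1061)) (.node (.leaf 374) (.leaf 839)))) (.node (.node (.node (.leaf 0) (.leaf 295)) (.node (.leaf 96) (.leaf 243))) (.node (.node (.leaf 0) (.leaf 685)) (.node (.leaf 194) (.leaf 156)))))))) (.node (.node (.node (.node (.node (.node (.node (.leaf 0) (.leaf 1176)) (.node (.leaf 1921) (.leaf 373))) (.node (.node (.leaf 996) (.leaf 0)) (.node (.leaf 0) (.leaf 0)))) (.node (.node (.node (.leaf 1743) (.leaf 0)) (.node (.leaf 0) (.leaf 0))) (.node (.node (.leaf 478) (.leaf 0)) (.node (.leaf 0) (.leaf 0))))) (.node (.node (.node (.node (.leaf 1469) (.leaf 0)) (.node (.leaf 0) (.leaf 0))) (.node (.node (.leaf 0)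 (.leaf 95)) (.node (.leaf 1922) (.leaf 3163)))) (.node (.node (.node (.leaf 0) (.leaf 1744)) (.node (.leaf 1470) (.leaf 1852))) (.node (.node (.leaf 0) (.leaf 3271)) (.node (.leaf 2039) (.leaf 93)))))) (.node (.node (.node (.node (.node (.leaf 274) (.leaf 0)) (.node (.leaf 0) (.leaf 0))) (.node (.node (.leaf 0) (.leaf 2179)) (.node (.leaf 1939) (.leaf 121)))) (.node (.node (.node (.leaf 0) (.leaf 1761)) (.node (.leaf 1396) (.leaf 345))) (.node (.node (.leaf 0) (.leaf 94)) (.node (.leaf 432) (.leaf 118))))) (.node (.node (.node (.node (.leaf 767) (.leaf 0)) (.node (.leaf 0) (.leaf 0))) (.node (.node (.leaf 0) (.leaf 1394)) (.node (.leaf 989) (.leaf 1412)))) (.node (.node (.node (.leaf 0) (.leaf 1165)) (.node (.leaf 1393) (.leaf 372))) (.node (.node (.leaf 0) (.leaf 1228)) (.node (.leaf 476) (.leaf 1008))))))) (.node (.node (.node (.node (.node (.node (.leaf 0) (.leaf 1807)) (.node (.leaf 562) (.leaf 433))) (.node (.node (.leaf 1635) (.leaf 0)) (.node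 (.leaf 0) (.leaf 0)))) (.node (.node (.node (.leaf 443) (.leaf 0)) (.node (.leaf 0) (.leaf 0))) (.node (.node (.leaf 548) (.leaf 0)) (.node (.leaf 0) (.leaf 0))))) (.node (.node (.node (.node (.leaf 1265) (.leaf 0)) (.node (.leaf 0) (.leaf 0))) (.node (.node (.leaf 0) (.leaf 1667)) (.node (.leaf 1638) (.leaf 1960)))) (.node (.node (.node (.leaf 0) (.leaf 1810)) (.node (.leaf 122) (.leaf 3087))) (.node (.node (.leaf 0) (.leaf 2149)) (.node (.leaf 3270) (.leaf 68)))))) (.node (.node (.node (.node (.node (.leaf 843) (.leaf 0)) (.node (.leaf 0) (.leaf 0))) (.node (.node (.leaf 0) (.leaf 1577)) (.node (.leaf 1202) (.leaf 439)))) (.node (.node (.node (.leaf 0) (.leaf 1017)) (.node (.leaf 1238) (.leaf 1668))) (.node (.node (.leaf 0) (.leaf 556)) (.node (.leaf 1468) (.leaf 612))))) (.node (.node (.node (.node (.leaf 679) (.leaf 0)) (.node (.leaf 0) (.leaf 0))) (.node (.node (.leaf 0) (.leaf 1347)) (.node (.leaf 1579) (.leaf 293)))) (.node (.node (.node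 (.leaf 0) (.leaf 1775)) (.node (.leaf 2125) (.leaf 91))) (.node (.node (.leaf 0) (.leaf 233)) (.node (.leaf 69) (.leaf 308))))))))

/-- The point of each vector. -/
def invT : Tr := .node (.node (.node (.node (invT_p0000) (invT_p0001)) (.node (invT_p0010) (invT_p0011))) (.node (.node (invT_p0100) (invT_p0101)) (.node (invT_p0110) (invT_p0111)))) (.node (.node (.node (invT_p1000) (invT_p1001)) (.node (invT_p1010) (invT_p1011))) (.node (.node (invT_p1100) (invT_p1101)) (.node (invT_p1110) (invT_p1111))))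

/-- Part of `ordT`. -/
def ordT_p00 : Tr := .node (.node (.node (.node (.node (.node (.node (.node (.leaf 6) (.leaf 1530)) (.leaf 1025)) (.node (.node (.leaf 156) (.leaf 1921)) (.leaf 884))) (.node (.node (.node (.leaf 276) (.leaf 1361)) (.leaf 568)) (.node (.leaf 1201) (.leaf 1004)))) (.node (.node (.node (.node (.leaf 230) (.leaf 2141)) (.leaf 1019)) (.node (.node (.leaf 488) (.leaf 2758)) (.leaf 1060))) (.node (.node (.node (.leaf 613) (.leaf 2292)) (.leaf 837)) (.node (.leaf 603) (.leaf 1985))))) (.node (.node (.node (.node (.node (.leaf 46) (.leaf 2877)) (.leaf 1421)) (.node (.node (.leaf 158) (.leaf 2041)) (.leaf 1707))) (.node (.node (.node (.leaf 219) (.leaf 1809)) (.leaf 1199)) (.node (.leaf 544) (.leaf 2857)))) (.node (.node (.node (.node (.leaf 187) (.leaf 2234)) (.leaf 720)) (.node (.node (.leaf 344) (.leaf 2772)) (.leaf 998))) (.node (.node (.node (.leaf 769) (.leaf 1943)) (.leaf 1580)) (.node (.leaf 705) (.leaf 1229)))))) (.node (.node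 (.node (.node (.node (.node (.leaf 29) (.leaf 1529)) (.leaf 1014)) (.node (.node (.leaf 425) (.leaf 1637)) (.leaf 710))) (.node (.node (.node (.leaf 216) (.leaf 2242)) (.leaf 554)) (.node (.leaf 620) (.leaf 1072)))) (.node (.node (.node (.node (.leaf 90) (.leaf 1727)) (.leaf 248)) (.node (.node (.leaf 218) (.leaf 1734)) (.leaf 1788))) (.node (.node (.node (.leaf 350) (.leaf 2499)) (.leaf 883)) (.node (.leaf 570) (.leaf 1263))))) (.node (.node (.node (.node (.node (.leaf 144) (.leaf 3085)) (.leaf 442)) (.node (.node (.leaf 478) (.leaf 637)) (.leaf 1761))) (.node (.node (.node (.leaf 337) (.leaf 2236)) (.leaf 1236)) (.node (.leaf 935) (.leaf 1198)))) (.node (.node (.node (.node (.leaf 291) (.leaf 1365)) (.leaf 1403)) (.node (.leaf 381) (.leaf 1778))) (.node (.node (.node (.leaf 294) (.leaf 1636)) (.leaf 836)) (.node (.leaf 1017) (.leaf 2874))))))) (.node (.node (.node (.node (.node (.node (.node (.leaf 18) (.leaf 1997)) (.leaf 1052)) (.node (.node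 (.leaf 427) (.leaf 2510)) (.leaf 1020))) (.node (.node (.node (.leaf 145) (.leaf 1375)) (.leaf 555)) (.node (.leaf 546) (.leaf 2624)))) (.node (.node (.node (.node (.leaf 235) (.leaf 1348)) (.leaf 990)) (.node (.node (.leaf 489) (.leaf 1730)) (.leaf 996))) (.node (.node (.node (.leaf 391) (.leaf 2497)) (.leaf 1227)) (.node (.leaf 571) (.leaf 1615))))) (.node (.node (.node (.node (.node (.leaf 193) (.leaf 2037)) (.leaf 716)) (.node (.node (.leaf 1127) (.leaf 3283)) (.leaf 1051))) (.node (.node (.node (.leaf 946) (.leaf 2244)) (.leaf 1238)) (.node (.leaf 198) (.leaf 1526)))) (.node (.node (.node (.node (.leaf 266) (.leaf 1714)) (.leaf 715)) (.node (.node (.leaf 557) (.leaf 2513)) (.leaf 1412))) (.node (.node (.node (.leaf 271) (.leaf 1543)) (.leaf 1206)) (.node (.leaf 437) (.leaf 1179)))))) (.node (.node (.node (.node (.node (.node (.leaf 42) (.leaf 2431)) (.leaf 1008)) (.node (.node (.leaf 426) (.leaf 1565)) (.leaf 2608))) (.node (.node (.node (.leaf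 244) (.leaf 2628)) (.leaf 2364)) (.node (.leaf 547) (.leaf 504)))) (.node (.node (.node (.node (.leaf 185) (.leaf 1467)) (.leaf 760)) (.node (.node (.leaf 341) (.leaf 2637)) (.leaf 1829))) (.node (.node (.node (.leaf 113) (.leaf 2429)) (.leaf 857)) (.node (.leaf 275) (.leaf 1265))))) (.node (.node (.node (.node (.node (.leaf 67) (.leaf 2625)) (.leaf 685)) (.node (.node (.leaf 475) (.leaf 3399)) (.leaf 1434))) (.node (.node (.node (.leaf 125) (.leaf 2148)) (.leaf 874)) (.node (.leaf 602) (.leaf 1579)))) (.node (.node (.node (.node (.leaf 97) (.leaf 1435)) (.leaf 1207)) (.node (.leaf 196) (.leaf 993))) (.node (.node (.node (.leaf 174) (.leaf 2060)) (.leaf 2380)) (.node (.leaf 441) (.leaf 1184)))))))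

/-- Part of `ordT`. -/
def ordT_p01 : Tr := .node (.node (.node (.node (.node (.node (.node (.node (.leaf 16) (.leaf 1998)) (.leaf 2125)) (.node (.node (.leaf 157) (.leaf 2010)) (.leaf 1601))) (.node (.node (.node (.leaf 81) (.leaf 1357)) (.leaf 551)) (.node (.leaf 953) (.leaf 1352)))) (.node (.node (.node (.node (.leaf 70) (.leaf 1470)) (.leaf 681)) (.node (.node (.leaf 485) (.leaf 2176)) (.leaf 1061))) (.node (.node (.node (.leaf 372) (.leaf 792)) (.leaf 1217)) (.node (.leaf 606) (.leaf 2009))))) (.node (.node (.node (.node (.node (.leaf 47) (.leaf 1272)) (.leaf 1036)) (.node (.node (.leaf 472) (.leaf 1922)) (.leaf 1392))) (.node (.node (.node (.leaf 123) (.leaf 1716)) (.leaf 1578)) (.node (.leaf 548) (.leaf 1913)))) (.node (.node (.node (.node (.leaf 94) (.leaf 2174)) (.leaf 1024)) (.node (.node (.leaf 346) (.leaf 3004)) (.leaf 999))) (.node (.node (.node (.leaf 272) (.leaf 1915)) (.leaf 830)) (.node (.leaf 434) (.leaf 1999)))))) (.node (.node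 (.node (.node (.node (.node (.leaf 40) (.leaf 2428)) (.leaf 1040)) (.node (.node (.leaf 432) (.leaf 2937)) (.leaf 394))) (.node (.node (.node (.leaf 232) (.leaf 3100)) (.leaf 567)) (.node (.leaf 543) (.leaf 1806)))) (.node (.node (.node (.node (.leaf 91) (.leaf 1762)) (.leaf 763)) (.node (.node (.leaf 864) (.leaf 1854)) (.leaf 1422))) (.node (.node (.node (.leaf 106) (.leaf 3271)) (.leaf 832)) (.node (.leaf 274) (.leaf 1180))))) (.node (.node (.node (.node (.node (.leaf 66) (.leaf 3086)) (.leaf 696)) (.node (.node (.leaf 481) (.leaf 2755)) (.leaf 1420))) (.node (.node (.node (.leaf 124) (.leaf 2178)) (.leaf 868)) (.node (.leaf 612) (.leaf 1264)))) (.node (.node (.node (.node (.leaf 292) (.leaf 1468)) (.leaf 550)) (.node (.leaf 349) (.leaf 1776))) (.node (.node (.node (.leaf 299) (.leaf 2492)) (.leaf 844)) (.node (.leaf 690) (.leaf 1172))))))) (.node (.node (.node (.node (.node (.node (.node (.leaf 27) (.leaf 1174)) (.leaf 1041)) (.node (.node (.leaf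 1042) (.leaf 1960)) (.leaf 694))) (.node (.node (.node (.leaf 215) (.leaf 1423)) (.leaf 848)) (.node (.leaf 863) (.leaf 1410)))) (.node (.node (.node (.node (.leaf 89) (.leaf 1347)) (.leaf 687)) (.node (.node (.leaf 137) (.leaf 1744)) (.leaf 1062))) (.node (.node (.node (.leaf 393) (.leaf 3270)) (.leaf 858)) (.node (.leaf 619) (.leaf 2059))))) (.node (.node (.node (.node (.node (.leaf 63) (.leaf 636)) (.leaf 781)) (.node (.node (.leaf 773) (.leaf 2512)) (.leaf 1393))) (.node (.node (.node (.leaf 339) (.leaf 2179)) (.leaf 843)) (.node (.leaf 940) (.leaf 1186)))) (.node (.node (.node (.node (.leaf 95) (.leaf 2255)) (.leaf 719)) (.node (.leaf 378) (.leaf 989))) (.node (.node (.node (.leaf 479) (.leaf 1563)) (.leaf 1582)) (.node (.leaf 439) (.leaf 1617)))))) (.node (.node (.node (.node (.node (.node (.leaf 44) (.leaf 2381)) (.leaf 708)) (.node (.node (.leaf 1016) (.leaf 2498)) (.leaf 2609))) (.node (.node (.node (.leaf 146) (.leaf 1356)) (.leaf 312))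 (.node (.leaf 541) (.leaf 2856)))) (.node (.node (.node (.node (.leaf 92) (.leaf 2233)) (.leaf 758)) (.node (.node (.leaf 345) (.leaf 2295)) (.leaf 1070))) (.node (.node (.node (.leaf 173) (.leaf 1539)) (.leaf 827)) (.node (.leaf 1030) (.leaf 1212))))) (.node (.node (.node (.node (.node (.leaf 68) (.leaf 1729)) (.leaf 1396)) (.node (.node (.leaf 477) (.leaf 2757)) (.leaf 1049))) (.node (.node (.node (.leaf 370) (.leaf 2690)) (.leaf 831)) (.node (.leaf 559) (.leaf 1634)))) (.node (.node (.node (.node (.leaf 309) (.leaf 2687)) (.leaf 859)) (.node (.leaf 1239) (.leaf 1351))) (.node (.node (.node (.leaf 277) (.leaf 2427)) (.leaf 1211)) (.node (.leaf 445) (.leaf 1165)))))))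

/-- Part of `ordT`. -/
def ordT_p10 : Tr := .node (.node (.node (.node (.node (.node (.node (.node (.leaf 10) (.leaf 1590)) (.leaf 246)) (.node (.node (.leaf 430) (.leaf 1668)) (.leaf 887))) (.node (.node (.node (.leaf 120) (.leaf 1437)) (.leaf 563)) (.node (.leaf 1237) (.leaf 2177)))) (.node (.node (.node (.node (.leaf 231) (.leaf 2140)) (.leaf 1397)) (.node (.node (.leaf 490) (.leaf 3400)) (.leaf 1009))) (.node (.node (.node (.leaf 371) (.leaf 2291)) (.leaf 1588)) (.node (.leaf 605) (.leaf 1587))))) (.node (.node (.node (.node (.node (.leaf 183) (.leaf 1537)) (.leaf 1029)) (.node (.node (.leaf 1128) (.leaf 1942)) (.leaf 1015))) (.node (.node (.node (.leaf 122) (.leaf 1715)) (.leaf 869)) (.node (.leaf 847) (.leaf 1914)))) (.node (.node (.node (.node (.leaf 93) (.leaf 1827)) (.leaf 718)) (.node (.node (.leaf 846) (.leaf 3217)) (.leaf 1023))) (.node (.node (.node (.leaf 270) (.leaf 1525)) (.leaf 829)) (.node (.leaf 487) (.leaf 1589)))))) (.node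 (.node (.node (.node (.node (.node (.leaf 30) (.leaf 1941)) (.leaf 1443)) (.node (.node (.leaf 428) (.leaf 2432)) (.leaf 692))) (.node (.node (.node (.leaf 609) (.leaf 2245)) (.leaf 851)) (.node (.leaf 540) (.leaf 1807)))) (.node (.node (.node (.node (.leaf 171) (.leaf 1373)) (.leaf 764)) (.node (.node (.leaf 234) (.leaf 1764)) (.leaf 1028))) (.node (.node (.node (.leaf 154) (.leaf 2936)) (.leaf 828)) (.node (.leaf 1213) (.leaf 1262))))) (.node (.node (.node (.node (.node (.leaf 65) (.leaf 2683)) (.leaf 680)) (.node (.node (.leaf 699) (.leaf 2692)) (.leaf 1786))) (.node (.node (.node (.leaf 340) (.leaf 1474)) (.leaf 1250)) (.node (.leaf 862) (.leaf 1251)))) (.node (.node (.node (.node (.leaf 768) (.leaf 1743)) (.leaf 347)) (.node (.leaf 377) (.leaf 1779))) (.node (.node (.node (.leaf 295) (.leaf 1550)) (.leaf 1168)) (.node (.leaf 438) (.leaf 1169))))))) (.node (.node (.node (.node (.node (.node (.node (.leaf 26) (.leaf 1173)) (.leaf 1394)) (.node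 (.node (.leaf 431) (.leaf 2939)) (.leaf 1398))) (.node (.node (.node (.leaf 121) (.leaf 1376)) (.leaf 552)) (.node (.leaf 1219) (.leaf 2627)))) (.node (.node (.node (.node (.leaf 88) (.leaf 1358)) (.leaf 691)) (.node (.node (.leaf 448) (.leaf 1881)) (.leaf 1035))) (.node (.node (.node (.leaf 380) (.leaf 2942)) (.leaf 853)) (.node (.leaf 566) (.leaf 1226))))) (.node (.node (.node (.node (.node (.leaf 62) (.leaf 2039)) (.leaf 709)) (.node (.node (.leaf 767) (.leaf 2085)) (.leaf 1774))) (.node (.node (.node (.leaf 336) (.leaf 3103)) (.leaf 1577)) (.node (.leaf 939) (.leaf 1524)))) (.node (.node (.node (.node (.leaf 268) (.leaf 1787)) (.leaf 717)) (.node (.leaf 375) (.leaf 988))) (.node (.node (.node (.leaf 273) (.leaf 1647)) (.leaf 850)) (.node (.leaf 443) (.leaf 1218)))))) (.node (.node (.node (.node (.node (.node (.leaf 43) (.leaf 1273)) (.leaf 679)) (.node (.node (.leaf 429) (.leaf 1551)) (.leaf 2138))) (.node (.node (.node (.leaf 86) (.leaf 1808))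 (.leaf 1912)) (.node (.leaf 539) (.leaf 2855)))) (.node (.node (.node (.node (.leaf 194) (.leaf 1775)) (.leaf 703)) (.node (.node (.leaf 343) (.leaf 2258)) (.leaf 1436))) (.node (.node (.node (.leaf 172) (.leaf 1564)) (.leaf 840)) (.node (.leaf 296) (.leaf 1176))))) (.node (.node (.node (.node (.node (.leaf 213) (.leaf 3087)) (.leaf 676)) (.node (.node (.leaf 476) (.leaf 2684)) (.leaf 1381))) (.node (.node (.node (.leaf 944) (.leaf 2294)) (.leaf 839)) (.node (.leaf 556) (.leaf 1986)))) (.node (.node (.node (.node (.leaf 308) (.leaf 1852)) (.leaf 854)) (.node (.leaf 197) (.leaf 994))) (.node (.node (.node (.leaf 297) (.leaf 2389)) (.leaf 886)) (.node (.leaf 449) (.leaf 1604)))))))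

/-- Part of `ordT`. -/
def ordT_p11 : Tr := .node (.node (.node (.node (.node (.node (.node (.node (.leaf 17) (.leaf 2000)) (.leaf 247)) (.node (.node (.leaf 1133) (.leaf 2011)) (.leaf 1603))) (.node (.node (.node (.leaf 136) (.leaf 1413)) (.leaf 553)) (.node (.leaf 542) (.leaf 2139)))) (.node (.node (.node (.node (.leaf 243) (.leaf 1349)) (.leaf 682)) (.node (.node (.leaf 447) (.leaf 1765)) (.leaf 995))) (.node (.node (.node (.leaf 392) (.leaf 2433)) (.leaf 1616)) (.node (.leaf 621) (.leaf 1549))))) (.node (.node (.node (.node (.node (.leaf 48) (.leaf 2038)) (.leaf 704)) (.node (.node (.leaf 473) (.leaf 2500)) (.leaf 1013))) (.node (.node (.node (.leaf 338) (.leaf 2243)) (.leaf 1200)) (.node (.leaf 549) (.leaf 2379)))) (.node (.node (.node (.node (.leaf 267) (.leaf 2232)) (.leaf 714)) (.node (.node (.leaf 373) (.leaf 3006)) (.leaf 1002))) (.node (.node (.node (.leaf 269) (.leaf 1667)) (.leaf 1205)) (.node (.leaf 435) (.leaf 2012)))))) (.node (.node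 (.node (.node (.node (.node (.leaf 41) (.leaf 2040)) (.leaf 1050)) (.node (.node (.leaf 424) (.leaf 1540)) (.leaf 395))) (.node (.node (.node (.leaf 233) (.leaf 1366)) (.leaf 311)) (.node (.leaf 562) (.leaf 1810)))) (.node (.node (.node (.node (.leaf 184) (.leaf 1451)) (.leaf 774)) (.node (.node (.leaf 614) (.leaf 2149)) (.leaf 1034))) (.node (.node (.node (.leaf 59) (.leaf 1940)) (.leaf 833)) (.node (.leaf 689) (.leaf 1228))))) (.node (.node (.node (.node (.node (.leaf 152) (.leaf 2175)) (.leaf 684)) (.node (.node (.leaf 486) (.leaf 3163)) (.leaf 1826))) (.node (.node (.node (.leaf 369) (.leaf 2686)) (.leaf 1191)) (.node (.leaf 601) (.leaf 1995)))) (.node (.node (.node (.node (.leaf 293) (.leaf 1828)) (.leaf 348)) (.node (.leaf 351) (.leaf 1777))) (.node (.node (.node (.leaf 310) (.leaf 1989)) (.leaf 845)) (.node (.leaf 440) (.leaf 1602))))))) (.node (.node (.node (.node (.node (.node (.node (.leaf 28) (.leaf 1988)) (.leaf 1395)) (.node (.node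 (.leaf 775) (.leaf 1669)) (.leaf 697))) (.node (.node (.node (.leaf 214) (.leaf 1789)) (.leaf 1203)) (.node (.leaf 870) (.leaf 1071)))) (.node (.node (.node (.node (.leaf 112) (.leaf 1374)) (.leaf 688)) (.node (.node (.leaf 217) (.leaf 1710)) (.leaf 1401))) (.node (.node (.node (.leaf 379) (.leaf 2426)) (.leaf 876)) (.node (.leaf 569) (.leaf 1635))))) (.node (.node (.node (.node (.node (.leaf 64) (.leaf 2691)) (.leaf 677)) (.node (.node (.leaf 474) (.leaf 2548)) (.leaf 1444))) (.node (.node (.node (.leaf 335) (.leaf 1853)) (.leaf 1614)) (.node (.leaf 945) (.leaf 1562)))) (.node (.node (.node (.node (.leaf 96) (.leaf 2256)) (.leaf 1411)) (.node (.leaf 374) (.leaf 1402))) (.node (.node (.node (.leaf 482) (.leaf 1987)) (.leaf 835)) (.node (.leaf 436) (.leaf 1638)))))) (.node (.node (.node (.node (.node (.node (.leaf 45) (.leaf 2873)) (.leaf 683)) (.node (.node (.leaf 433) (.leaf 3280)) (.leaf 1708))) (.node (.node (.node (.leaf 236) (.leaf 1728)) (.leaf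 885)) (.node (.leaf 1202) (.leaf 2378)))) (.node (.node (.node (.node (.leaf 118) (.leaf 1763)) (.leaf 693)) (.node (.node (.leaf 342) (.leaf 2769)) (.leaf 991))) (.node (.node (.node (.leaf 186) (.leaf 1538)) (.leaf 1581)) (.node (.leaf 700) (.leaf 1185))))) (.node (.node (.node (.node (.node (.leaf 69) (.leaf 1709)) (.leaf 678)) (.node (.node (.leaf 502) (.leaf 3160)) (.leaf 1059))) (.node (.node (.node (.leaf 608) (.leaf 2257)) (.leaf 875)) (.node (.leaf 618) (.leaf 1939)))) (.node (.node (.node (.node (.leaf 298) (.leaf 1469)) (.leaf 560)) (.node (.leaf 545) (.leaf 1003))) (.node (.node (.node (.leaf 155) (.leaf 2551)) (.leaf 882)) (.node (.leaf 446) (.leaf 1166)))))))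

/-- The points in the order in which they are reached. -/
def ordT : Tr := .node (.node (ordT_p00) (ordT_p01)) (.node (ordT_p10) (ordT_p11))

/-- Part of `parT`. -/
def parT_p00 : Tr := .node (.node (.node (.node (.node (.node (.node (.node (.leaf 0) (.leaf 5289)) (.leaf 5038)) (.node (.node (.leaf 4239) (.leaf 4029)) (.leaf 3772))) (.node (.node (.node (.leaf 2808) (.leaf 2568)) (.leaf 3705)) (.node (.leaf 4981) (.leaf 3148)))) (.node (.node (.node (.node (.leaf 4867) (.leaf 4623)) (.leaf 5057)) (.node (.node (.leaf 794) (.leaf 5468)) (.leaf 5197))) (.node (.node (.node (.leaf 4215) (.leaf 4689)) (.leaf 271)) (.node (.leaf 1542) (.leaf 3873))))) (.node (.node (.node (.node (.node (.leaf 3472) (.leaf 3918)) (.leaf 890)) (.node (.node (.leaf 3555) (.leaf 4747)) (.leaf 3105))) (.node (.node (.node (.leaf 2820) (.leaf 4665)) (.leaf 2339)) (.node (.leaf 834) (.leaf 4554)))) (.node (.node (.node (.node (.leaf 2106) (.leaf 4635)) (.leaf 2998)) (.node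 (.node (.leaf 3581) (.leaf 5495)) (.leaf 1748))) (.node (.node (.node (.leaf 4920) (.leaf 4700)) (.leaf 2365)) (.node (.leaf 4328) (.leaf 4579)))))) (.node (.node (.node (.node (.node (.node (.leaf 3468) (.leaf 2525)) (.leaf 4350)) (.node (.node (.leaf 1471) (.leaf 4036)) (.leaf 3783))) (.node (.node (.node (.leaf 4199) (.leaf 1884)) (.leaf 249)) (.node (.leaf 3600) (.leaf 1078)))) (.node (.node (.node (.node (.leaf 3487) (.leaf 471)) (.leaf 212)) (.node (.node (.leaf 3575) (.leaf 2706)) (.leaf 3818))) (.node (.node (.node (.leaf 2835) (.leaf 3309)) (.leaf 969)) (.node (.leaf 3628) (.leaf 5264))))) (.node (.node (.node (.node (.node (.leaf 4862) (.leaf 4619)) (.leaf 5052)) (.node (.node (.leaf 1481) (.leaf 4768)) (.leaf 1034))) (.node (.node (.node (.leaf 4210) (.leaf 4677)) (.leaf 3037)) (.node (.leaf 1535) (.leaf 3174)))) (.node (.node (.node (.node (.leaf 4881) (.leaf 1869)) (.leaf 4391)) (.node (.leaf 2894) (.leaf 2446))) (.node (.node (.node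 (.leaf 3539) (.leaf 4020)) (.leaf 2370)) (.node (.leaf 5026) (.leaf 5279))))))) (.node (.node (.node (.node (.node (.node (.node (.leaf 3466) (.leaf 3214)) (.leaf 5040)) (.node (.node (.leaf 2162) (.leaf 4724)) (.leaf 3088))) (.node (.node (.node (.leaf 4197) (.leaf 2574)) (.leaf 5095)) (.node (.leaf 3598) (.leaf 5230)))) (.node (.node (.node (.node (.leaf 2099) (.leaf 3240)) (.leaf 5059)) (.node (.node (.leaf 3568) (.leaf 4780)) (.leaf 1736))) (.node (.node (.node (.leaf 2140) (.leaf 2614)) (.leaf 4430)) (.node (.leaf 2240) (.leaf 3875))))) (.node (.node (.node (.node (.node (.leaf 4860) (.leaf 2536)) (.leaf 3664)) (.node (.node (.leaf 4943) (.leaf 5447)) (.leaf 4494))) (.node (.node (.node (.leaf 4901) (.leaf 4672)) (.leaf 4419)) (.node (.leaf 837) (.leaf 1092)))) (.node (.node (.node (.node (.leaf 2108) (.leaf 2560)) (.leaf 3694)) (.node (.node (.leaf 2890) (.leaf 5520)) (.leaf 5216))) (.node (.node (.node (.leaf 4229) (.leaf 5401)) (.leaf 2367))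 (.node (.leaf 3638) (.leaf 1811)))))) (.node (.node (.node (.node (.node (.node (.leaf 3470) (.leaf 4607)) (.leaf 3659)) (.node (.node (.leaf 4245) (.leaf 4738)) (.leaf 5182))) (.node (.node (.node (.leaf 2124) (.leaf 5353)) (.leaf 5108)) (.node (.leaf 831) (.leaf 1780)))) (.node (.node (.node (.node (.leaf 4182) (.leaf 5324)) (.leaf 909)) (.node (.node (.leaf 1499) (.leaf 5487)) (.leaf 4513))) (.node (.node (.node (.leaf 4224) (.leaf 4697)) (.leaf 5132)) (.node (.leaf 861) (.leaf 4576))))) (.node (.node (.node (.node (.node (.leaf 3480) (.leaf 4621)) (.leaf 1590)) (.node (.node (.leaf 790) (.leaf 1307)) (.leaf 4501))) (.node (.node (.node (.leaf 3520) (.leaf 3295)) (.leaf 5118)) (.node (.leaf 845) (.leaf 3177)))) (.node (.node (.node (.node (.leaf 3499) (.leaf 3950)) (.leaf 931)) (.node (.leaf 4285) (.leaf 1755))) (.node (.node (.node (.leaf 2850) (.leaf 4025)) (.leaf 5146)) (.node (.leaf 1564) (.leaf 2514)))))))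

/-- Part of `parT`. -/
def parT_p01 : Tr := .node (.node (.node (.node (.node (.node (.node (.node (.leaf 1) (.leaf 1826)) (.leaf 5039)) (.node (.node (.leaf 3547) (.leaf 1258)) (.leaf 5160))) (.node (.node (.node (.leaf 4888) (.leaf 5344)) (.leaf 3708)) (.node (.leaf 4289) (.leaf 2456)))) (.node (.node (.node (.node (.leaf 4176) (.leaf 5318)) (.leaf 208)) (.node (.node (.leaf 103) (.leaf 4777)) (.leaf 5198))) (.node (.node (.node (.leaf 752) (.leaf 3999)) (.leaf 3044)) (.node (.leaf 2237) (.leaf 3874))))) (.node (.node (.node (.node (.node (.leaf 701) (.leaf 1148)) (.leaf 4355)) (.node (.node (.leaf 2170) (.leaf 4751)) (.leaf 1722))) (.node (.node (.node (.leaf 4207) (.leaf 4670)) (.leaf 1647)) (.node (.leaf 143) (.leaf 3169)))) (.node (.node (.node (.node (.leaf 4186) (.leaf 3944)) (.leaf 5079)) (.node (.node (.leaf 810) (.leaf 4131)) (.leaf 2442))) (.node (.node (.node (.leaf 4228) (.leaf 4701)) (.leaf 1673)) (.node (.leaf 865) (.leaf 1117))))))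 (.node (.node (.node (.node (.node (.node (.leaf 698) (.leaf 5299)) (.leaf 2965)) (.node (.node (.leaf 3551) (.leaf 2653)) (.leaf 331))) (.node (.node (.node (.leaf 4201) (.leaf 5350)) (.leaf 2333)) (.node (.leaf 3602) (.leaf 2465)))) (.node (.node (.node (.node (.leaf 4181) (.leaf 3936)) (.leaf 2292)) (.node (.node (.leaf 2191) (.leaf 4096)) (.leaf 3819))) (.node (.node (.node (.leaf 4916) (.leaf 4003)) (.leaf 281)) (.node (.leaf 3632) (.leaf 1803))))) (.node (.node (.node (.node (.node (.leaf 4171) (.leaf 4620)) (.leaf 5053)) (.node (.node (.leaf 4253) (.leaf 4770)) (.leaf 3115))) (.node (.node (.node (.leaf 4212) (.leaf 4679)) (.leaf 4424)) (.node (.leaf 4307) (.leaf 5255)))) (.node (.node (.node (.node (.leaf 4190) (.leaf 5334)) (.leaf 5085)) (.node (.leaf 2897) (.leaf 1754))) (.node (.node (.node (.leaf 1462) (.leaf 4716)) (.leaf 2373)) (.node (.leaf 5027) (.leaf 5283))))))) (.node (.node (.node (.node (.node (.node (.node (.leaf 3467) (.leaf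 3217)) (.leaf 4348)) (.node (.node (.leaf 2163) (.leaf 4727)) (.leaf 2396))) (.node (.node (.node (.leaf 4891) (.leaf 3961)) (.leaf 5098)) (.node (.leaf 2906) (.leaf 5232)))) (.node (.node (.node (.node (.leaf 2793) (.leaf 2548)) (.leaf 1596)) (.node (.node (.leaf 4264) (.leaf 5475)) (.leaf 4509))) (.node (.node (.node (.leaf 2834) (.leaf 4001)) (.leaf 4431)) (.node (.leaf 3627) (.leaf 4569))))) (.node (.node (.node (.node (.node (.leaf 2783) (.leaf 1153)) (.leaf 893)) (.node (.node (.leaf 4251) (.leaf 4765)) (.leaf 3110))) (.node (.node (.node (.leaf 4209) (.leaf 2595)) (.leaf 3729)) (.node (.leaf 2224) (.leaf 1787)))) (.node (.node (.node (.node (.leaf 1416) (.leaf 1175)) (.leaf 3696)) (.node (.leaf 3584) (.leaf 1752))) (.node (.node (.node (.leaf 2152) (.leaf 4018)) (.leaf 3061)) (.node (.leaf 867) (.leaf 4584)))))) (.node (.node (.node (.node (.node (.node (.leaf 4164) (.leaf 4609)) (.leaf 5046)) (.node (.node (.leaf 4939) (.leaf 4742)) (.leaf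 4490))) (.node (.node (.node (.leaf 2126) (.leaf 2585)) (.leaf 259)) (.node (.leaf 3605) (.leaf 5246)))) (.node (.node (.node (.node (.leaf 3491) (.leaf 3940)) (.leaf 219)) (.node (.node (.leaf 3579) (.leaf 5489)) (.leaf 1746))) (.node (.node (.node (.leaf 4225) (.leaf 3314)) (.leaf 978)) (.node (.leaf 1556) (.leaf 5270))))) (.node (.node (.node (.node (.node (.leaf 709) (.leaf 1158)) (.leaf 5056)) (.node (.node (.leaf 1484) (.leaf 4774)) (.leaf 4502))) (.node (.node (.node (.leaf 4214) (.leaf 3989)) (.leaf 962)) (.node (.leaf 4311) (.leaf 4563)))) (.node (.node (.node (.node (.leaf 2114) (.leaf 5337)) (.leaf 4396)) (.node (.leaf 4979) (.leaf 5221))) (.node (.node (.node (.leaf 2851) (.leaf 4720)) (.leaf 5156)) (.node (.leaf 2957) (.leaf 1823)))))))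

/-- Part of `parT`. -/
def parT_p10 : Tr := .node (.node (.node (.node (.node (.node (.node (.node (.leaf 693) (.leaf 4597)) (.leaf 3653)) (.node (.node (.leaf 4932) (.leaf 5415)) (.leaf 3774))) (.node (.node (.node (.leaf 2809) (.leaf 4649)) (.leaf 5091)) (.node (.leaf 2210) (.leaf 5227)))) (.node (.node (.node (.node (.leaf 4175) (.leaf 4624)) (.leaf 2286)) (.node (.node (.leaf 2873) (.leaf 1311)) (.leaf 1040))) (.node (.node (.node (.leaf 3523) (.leaf 4690)) (.leaf 272)) (.node (.leaf 1543) (.leaf 3181))))) (.node (.node (.node (.node (.node (.leaf 4858) (.leaf 2533)) (.leaf 2969)) (.node (.node (.leaf 4941) (.leaf 4749)) (.leaf 2414))) (.node (.node (.node (.leaf 1435) (.leaf 2591)) (.leaf 4418)) (.node (.leaf 4992) (.leaf 1783)))) (.node (.node (.node (.node (.leaf 721) (.leaf 3943)) (.leaf 2306)) (.node (.node (.leaf 4967) (.leaf 5505)) (.leaf 5213))) (.node (.node (.node (.leaf 2149) (.leaf 2622)) (.leaf 287)) (.node (.leaf 3636) (.leaf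 3888)))))) (.node (.node (.node (.node (.node (.node (.leaf 4162) (.leaf 5298)) (.leaf 1579)) (.node (.node (.leaf 4243) (.leaf 5422)) (.leaf 5174))) (.node (.node (.node (.leaf 4893) (.leaf 4656)) (.leaf 5104)) (.node (.leaf 4294) (.leaf 5236)))) (.node (.node (.node (.node (.leaf 4873) (.leaf 3243)) (.leaf 5063)) (.node (.node (.leaf 804) (.leaf 4788)) (.leaf 2433))) (.node (.node (.node (.leaf 2144) (.leaf 4695)) (.leaf 972)) (.node (.leaf 5016) (.leaf 5265))))) (.node (.node (.node (.node (.node (.leaf 4170) (.leaf 2541)) (.leaf 895)) (.node (.node (.leaf 2867) (.leaf 4769)) (.leaf 343))) (.node (.node (.node (.leaf 3518) (.leaf 3292)) (.leaf 4423)) (.node (.leaf 2921) (.leaf 4560)))) (.node (.node (.node (.node (.leaf 4882) (.leaf 3948)) (.leaf 927)) (.node (.leaf 125) (.leaf 4525))) (.node (.node (.node (.leaf 768) (.leaf 5406)) (.leaf 5142)) (.node (.leaf 869) (.leaf 2510))))))) (.node (.node (.node (.node (.node (.node (.node (.leaf 1388)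 (.leaf 2523)) (.leaf 2269)) (.node (.node (.leaf 4241) (.leaf 5418)) (.leaf 3781))) (.node (.node (.node (.leaf 4198) (.leaf 4653)) (.leaf 940)) (.node (.leaf 1520) (.leaf 4538)))) (.node (.node (.node (.node (.leaf 1407) (.leaf 3933)) (.leaf 4367)) (.node (.node (.leaf 2183) (.leaf 4089)) (.leaf 5201))) (.node (.node (.node (.leaf 1448) (.leaf 4693)) (.leaf 2352)) (.node (.leaf 2934) (.leaf 4568))))) (.node (.node (.node (.node (.node (.leaf 2089) (.leaf 4615)) (.leaf 5050)) (.node (.node (.leaf 2172) (.leaf 4757)) (.leaf 1031))) (.node (.node (.node (.leaf 2130) (.leaf 5366)) (.leaf 1649)) (.node (.leaf 4995) (.leaf 3171)))) (.node (.node (.node (.node (.leaf 4187) (.leaf 3946)) (.leaf 1617)) (.node (.leaf 4276) (.leaf 366))) (.node (.node (.node (.leaf 3537) (.leaf 4710)) (.leaf 4446)) (.node (.leaf 5024) (.leaf 3890)))))) (.node (.node (.node (.node (.node (.node (.leaf 699) (.leaf 3222)) (.leaf 3660)) (.node (.node (.leaf 3553) (.leaf 4046))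 (.leaf 2411))) (.node (.node (.node (.leaf 4897) (.leaf 5356)) (.leaf 2337)) (.node (.leaf 4297) (.leaf 5245)))) (.node (.node (.node (.node (.leaf 4876) (.leaf 3247)) (.leaf 4375)) (.node (.node (.leaf 4271) (.leaf 2716)) (.leaf 3821))) (.node (.node (.node (.leaf 2146) (.leaf 542)) (.leaf 2363)) (.node (.leaf 169) (.leaf 1805))))) (.node (.node (.node (.node (.node (.leaf 4866) (.leaf 3929)) (.leaf 3670)) (.node (.node (.leaf 98) (.leaf 4773)) (.leaf 2423))) (.node (.node (.node (.leaf 4906) (.leaf 4681)) (.leaf 961)) (.node (.leaf 2924) (.leaf 3870)))) (.node (.node (.node (.node (.leaf 4885) (.leaf 3951)) (.leaf 3010)) (.node (.leaf 3593) (.leaf 2449))) (.node (.node (.node (.leaf 772) (.leaf 5411)) (.leaf 1691)) (.node (.leaf 2263) (.leaf 4594)))))))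

/-- Part of `parT`. -/
def parT_p11 : Tr := .node (.node (.node (.node (.node (.node (.node (.node (.leaf 1387) (.leaf 4598)) (.leaf 882)) (.node (.node (.leaf 4933) (.leaf 4723)) (.leaf 5161))) (.node (.node (.node (.leaf 4889) (.leaf 4652)) (.leaf 937)) (.node (.leaf 4290) (.leaf 5229)))) (.node (.node (.node (.node (.leaf 4870) (.leaf 468)) (.leaf 1594)) (.node (.node (.leaf 2875) (.leaf 4779)) (.leaf 350))) (.node (.node (.node (.leaf 4911) (.leaf 5385)) (.leaf 3737)) (.node (.leaf 2932) (.leaf 2489))))) (.node (.node (.node (.node (.node (.leaf 4166) (.leaf 5307)) (.leaf 4356)) (.node (.node (.leaf 4249) (.leaf 4753)) (.leaf 3108))) (.node (.node (.node (.leaf 4900) (.leaf 1207)) (.leaf 3033)) (.node (.leaf 1529) (.leaf 4555)))) (.node (.node (.node (.node (.leaf 4879) (.leaf 4638)) (.leaf 2308)) (.node (.node (.leaf 1504) (.leaf 5517)) (.leaf 5214))) (.node (.node (.node (.leaf 1457) (.leaf 5395)) (.leaf 5138)) (.node (.leaf 4330) (.leaf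 4582)))))) (.node (.node (.node (.node (.node (.node (.leaf 2084) (.leaf 2528)) (.leaf 4351)) (.node (.node (.leaf 780) (.leaf 4736)) (.leaf 1717))) (.node (.node (.node (.leaf 3509) (.leaf 3965)) (.leaf 950)) (.node (.leaf 4988) (.leaf 4545)))) (.node (.node (.node (.node (.leaf 4874) (.leaf 4629)) (.leaf 4371)) (.node (.node (.leaf 4270) (.leaf 5482)) (.leaf 4512))) (.node (.node (.node (.leaf 2145) (.leaf 1232)) (.leaf 1667)) (.node (.leaf 5018) (.leaf 5268))))) (.node (.node (.node (.node (.node (.leaf 4865) (.leaf 1849)) (.leaf 204)) (.node (.node (.leaf 3561) (.leaf 4078)) (.leaf 3808))) (.node (.node (.node (.leaf 4905) (.leaf 4680)) (.leaf 3732)) (.node (.leaf 844) (.leaf 405)))) (.node (.node (.node (.node (.leaf 3498) (.leaf 4642)) (.leaf 236)) (.node (.leaf 2205) (.leaf 3140))) (.node (.node (.node (.leaf 2848) (.leaf 4717)) (.leaf 3067)) (.node (.leaf 178) (.leaf 5285))))))) (.node (.node (.node (.node (.node (.node (.node (.leaf 2082)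 (.leaf 5296)) (.leaf 2271)) (.node (.node (.leaf 4242) (.leaf 4728)) (.leaf 4475))) (.node (.node (.node (.leaf 2120) (.leaf 4655)) (.leaf 2327)) (.node (.leaf 4292) (.leaf 3848)))) (.node (.node (.node (.node (.leaf 4872) (.leaf 1163)) (.leaf 2290)) (.node (.node (.leaf 4267) (.leaf 4783)) (.leaf 3125))) (.node (.node (.node (.leaf 756) (.leaf 1923)) (.leaf 3739)) (.node (.leaf 2242) (.leaf 3877))))) (.node (.node (.node (.node (.node (.leaf 3476) (.leaf 5311)) (.leaf 3666)) (.node (.node (.leaf 3559) (.leaf 4073)) (.leaf 4496))) (.node (.node (.node (.leaf 1438) (.leaf 2598)) (.leaf 958)) (.node (.leaf 4303) (.leaf 1095)))) (.node (.node (.node (.node (.leaf 4188) (.leaf 4640)) (.leaf 5082)) (.node (.leaf 121) (.leaf 5217))) (.node (.node (.node (.leaf 4231) (.leaf 4712)) (.leaf 1676)) (.node (.leaf 3640) (.leaf 3893)))))) (.node (.node (.node (.node (.node (.node (.leaf 2779) (.leaf 4610)) (.leaf 889)) (.node (.node (.leaf 782) (.leaf 5436))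 (.leaf 1719))) (.node (.node (.node (.leaf 1434) (.leaf 2586)) (.leaf 5110)) (.node (.leaf 4991) (.leaf 2475)))) (.node (.node (.node (.node (.leaf 4877) (.leaf 3941)) (.leaf 2300)) (.node (.node (.leaf 4273) (.leaf 4109)) (.leaf 1747))) (.node (.node (.node (.leaf 3533) (.leaf 4007)) (.leaf 5136)) (.node (.leaf 2942) (.leaf 5271))))) (.node (.node (.node (.node (.node (.leaf 4174) (.leaf 3237)) (.leaf 899)) (.node (.node (.leaf 2872) (.leaf 4082)) (.leaf 5196))) (.node (.node (.node (.leaf 2136) (.leaf 2610)) (.leaf 5120)) (.node (.leaf 848) (.leaf 408)))) (.node (.node (.node (.node (.leaf 1422) (.leaf 4646)) (.leaf 4397)) (.node (.leaf 4287) (.leaf 2454))) (.node (.node (.node (.leaf 2160) (.leaf 5414)) (.leaf 1693)) (.node (.leaf 2265) (.leaf 2517)))))))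

/-- For each point reached the generator and earlier point it comes from. -/
def parT : Tr := .node (.node (parT_p00) (parT_p01)) (.node (parT_p10) (parT_p11))

/-- Part of `posT`. -/
def posT_p0000 : Tr := .node (.node (.node (.node (.node (.node (.node (.node (.leaf 0) (.leaf 0)) (.node (.leaf 306) (.leaf 0))) (.node (.node (.leaf 0) (.leaf 0)) (.leaf 0))) (.node (.node (.node (.leaf 0) (.leaf 0)) (.node (.leaf 0) (.leaf 0))) (.node (.node (.leaf 57) (.leaf 0)) (.leaf 0)))) (.node (.node (.node (.node (.leaf 0) (.leaf 674)) (.node (.leaf 0) (.leaf 0))) (.node (.node (.leaf 0) (.leaf 0)) (.leaf 0))) (.node (.node (.node (.leaf 0) (.leaf 649)) (.node (.leaf 0) (.leaf 0))) (.node (.node (.leaf 0) (.leaf 0)) (.leaf 0))))) (.node (.node (.node (.node (.node (.leaf 23) (.leaf 0)) (.node (.leaf 0) (.leaf 0))) (.node (.node (.leaf 0) (.leaf 452)) (.leaf 0))) (.node (.node (.node (.leaf 0) (.leaf 0)) (.node (.leaf 0) (.leaf 0))) (.node (.node (.leaf 362)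 (.leaf 0)) (.leaf 0)))) (.node (.node (.node (.node (.leaf 0) (.leaf 0)) (.node (.leaf 0) (.leaf 0))) (.node (.node (.leaf 275) (.leaf 0)) (.leaf 591))) (.node (.node (.node (.leaf 165) (.leaf 0)) (.leaf 0)) (.node (.node (.leaf 0) (.leaf 0)) (.leaf 0)))))) (.node (.node (.node (.node (.node (.node (.leaf 0) (.leaf 0)) (.node (.leaf 0) (.leaf 0))) (.node (.node (.leaf 208) (.leaf 0)) (.leaf 0))) (.node (.node (.node (.leaf 0) (.leaf 0)) (.node (.leaf 0) (.leaf 0))) (.node (.node (.leaf 0) (.leaf 0)) (.leaf 0)))) (.node (.node (.node (.node (.leaf 0) (.leaf 0)) (.node (.leaf 508) (.leaf 0))) (.node (.node (.leaf 0) (.leaf 0)) (.leaf 0))) (.node (.node (.node (.leaf 0) (.leaf 0)) (.node (.leaf 0) (.leaf 0))) (.node (.node (.leaf 0) (.leaf 0)) (.leaf 0))))) (.node (.node (.node (.node (.node (.leaf 55) (.leaf 0)) (.node (.leaf 0) (.leaf 0))) (.node (.node (.leaf 95) (.leaf 0)) (.leaf 0))) (.node (.node (.node (.leaf 0) (.leaf 0)) (.node (.leaf 581)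 (.leaf 0))) (.node (.node (.leaf 170) (.leaf 0)) (.leaf 0)))) (.node (.node (.node (.node (.leaf 0) (.leaf 0)) (.node (.leaf 0) (.leaf 0))) (.node (.node (.leaf 0) (.leaf 0)) (.leaf 0))) (.node (.node (.node (.leaf 0) (.leaf 0)) (.leaf 0)) (.node (.node (.leaf 0) (.leaf 0)) (.leaf 0))))))) (.node (.node (.node (.node (.node (.node (.node (.leaf 2) (.leaf 0)) (.node (.leaf 266) (.leaf 0))) (.node (.node (.leaf 0) (.leaf 0)) (.leaf 0))) (.node (.node (.node (.leaf 114) (.leaf 0)) (.node (.leaf 0) (.leaf 0))) (.node (.node (.leaf 0) (.leaf 0)) (.leaf 589)))) (.node (.node (.node (.node (.leaf 24) (.leaf 0)) (.node (.leaf 377) (.leaf 0))) (.node (.node (.leaf 0) (.leaf 0)) (.leaf 0))) (.node (.node (.node (.leaf 0) (.leaf 0)) (.node (.leaf 0) (.leaf 0))) (.node (.node (.leaf 0) (.leaf 0)) (.leaf 0))))) (.node (.node (.node (.node (.node (.leaf 0) (.leaf 0)) (.node (.leaf 0) (.leaf 0))) (.node (.node (.leaf 0) (.leaf 0)) (.leaf 355))) (.node (.node (.node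 (.leaf 85) (.leaf 0)) (.node (.leaf 0) (.leaf 0))) (.node (.node (.leaf 326) (.leaf 0)) (.leaf 0)))) (.node (.node (.node (.node (.leaf 0) (.leaf 567)) (.node (.leaf 0) (.leaf 655))) (.node (.node (.leaf 304) (.leaf 0)) (.leaf 678))) (.node (.node (.node (.leaf 0) (.leaf 662)) (.leaf 0)) (.node (.node (.leaf 0) (.leaf 0)) (.leaf 515)))))) (.node (.node (.node (.node (.node (.node (.leaf 19) (.leaf 0)) (.node (.leaf 456) (.leaf 0))) (.node (.node (.leaf 319) (.leaf 396)) (.leaf 0))) (.node (.node (.node (.leaf 0) (.leaf 0)) (.node (.leaf 0) (.leaf 0))) (.node (.node (.leaf 0) (.leaf 0)) (.leaf 0)))) (.node (.node (.node (.node (.leaf 0) (.leaf 0)) (.node (.leaf 339) (.leaf 0))) (.node (.node (.leaf 295) (.leaf 0)) (.leaf 0))) (.node (.node (.node (.leaf 138) (.leaf 0)) (.node (.leaf 0) (.leaf 0))) (.node (.node (.leaf 93) (.leaf 0)) (.leaf 0))))) (.node (.node (.node (.node (.node (.leaf 39) (.leaf 0)) (.node (.leaf 0) (.leaf 0))) (.node (.node (.leaf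 0) (.leaf 0)) (.leaf 0))) (.node (.node (.node (.leaf 0) (.leaf 0)) (.node (.leaf 402) (.leaf 0))) (.node (.node (.leaf 0) (.leaf 0)) (.leaf 0)))) (.node (.node (.node (.node (.leaf 0) (.leaf 0)) (.node (.leaf 474) (.leaf 0))) (.node (.node (.leaf 0) (.leaf 0)) (.leaf 442))) (.node (.node (.node (.leaf 0) (.leaf 0)) (.leaf 0)) (.node (.node (.leaf 268) (.leaf 0)) (.leaf 0)))))))

/-- Part of `posT`. -/
def posT_p0001 : Tr := .node (.node (.node (.node (.node (.node (.node (.node (.leaf 0) (.leaf 0)) (.node (.leaf 0) (.leaf 0))) (.node (.node (.leaf 0) (.leaf 0)) (.leaf 0))) (.node (.node (.node (.leaf 0) (.leaf 0)) (.node (.leaf 0) (.leaf 0))) (.node (.node (.leaf 0) (.leaf 0)) (.leaf 0)))) (.node (.node (.node (.node (.leaf 67) (.leaf 0)) (.node (.leaf 0) (.leaf 0))) (.node (.node (.leaf 0) (.leaf 0)) (.leaf 0))) (.node (.node (.node (.leaf 99) (.leaf 0)) (.node (.leaf 0) (.leaf 0))) (.node (.node (.leaf 0) (.leaf 0)) (.leaf 0))))) (.node (.node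 (.node (.node (.node (.leaf 0) (.leaf 0)) (.node (.leaf 0) (.leaf 0))) (.node (.node (.leaf 0) (.leaf 0)) (.leaf 0))) (.node (.node (.node (.leaf 0) (.leaf 0)) (.node (.leaf 450) (.leaf 673))) (.node (.node (.leaf 365) (.leaf 0)) (.leaf 0)))) (.node (.node (.node (.node (.leaf 0) (.leaf 0)) (.node (.leaf 0) (.leaf 0))) (.node (.node (.leaf 0) (.leaf 0)) (.leaf 0))) (.node (.node (.node (.leaf 0) (.leaf 0)) (.leaf 0)) (.node (.node (.leaf 0) (.leaf 0)) (.leaf 0)))))) (.node (.node (.node (.node (.node (.node (.leaf 10) (.leaf 0)) (.node (.leaf 0) (.leaf 0))) (.node (.node (.leaf 325) (.leaf 0)) (.leaf 0))) (.node (.node (.node (.leaf 237) (.leaf 0)) (.node (.leaf 0) (.leaf 0))) (.node (.node (.leaf 0) (.leaf 462)) (.leaf 0)))) (.node (.node (.node (.node (.leaf 0) (.leaf 0)) (.node (.leaf 0) (.leaf 0))) (.node (.node (.leaf 281) (.leaf 0)) (.leaf 0))) (.node (.node (.node (.leaf 139) (.leaf 0)) (.node (.leaf 0) (.leaf 0))) (.node (.node (.leaf 0)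 (.leaf 0)) (.leaf 646))))) (.node (.node (.node (.node (.node (.leaf 0) (.leaf 0)) (.node (.leaf 145) (.leaf 0))) (.node (.node (.leaf 0) (.leaf 0)) (.leaf 0))) (.node (.node (.node (.leaf 0) (.leaf 0)) (.node (.leaf 0) (.leaf 0))) (.node (.node (.leaf 0) (.leaf 0)) (.leaf 0)))) (.node (.node (.node (.node (.leaf 74) (.leaf 0)) (.node (.leaf 0) (.leaf 0))) (.node (.node (.leaf 0) (.leaf 0)) (.leaf 0))) (.node (.node (.node (.leaf 160) (.leaf 0)) (.leaf 0)) (.node (.node (.leaf 0) (.leaf 0)) (.leaf 0))))))) (.node (.node (.node (.node (.node (.node (.node (.leaf 0) (.leaf 0)) (.node (.leaf 0) (.leaf 0))) (.node (.node (.leaf 0) (.leaf 0)) (.leaf 0))) (.node (.node (.node (.leaf 0) (.leaf 0)) (.node (.leaf 0) (.leaf 0))) (.node (.node (.leaf 610) (.leaf 0)) (.leaf 0)))) (.node (.node (.node (.node (.leaf 27) (.leaf 0)) (.node (.leaf 493) (.leaf 0))) (.node (.node (.leaf 0) (.leaf 0)) (.leaf 0))) (.node (.node (.node (.leaf 0) (.leaf 0)) (.node (.leaf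 0) (.leaf 0))) (.node (.node (.leaf 0) (.leaf 0)) (.leaf 0))))) (.node (.node (.node (.node (.node (.leaf 37) (.leaf 0)) (.node (.leaf 0) (.leaf 671))) (.node (.node (.leaf 0) (.leaf 0)) (.leaf 0))) (.node (.node (.node (.leaf 176) (.leaf 0)) (.node (.leaf 0) (.leaf 0))) (.node (.node (.leaf 0) (.leaf 0)) (.leaf 0)))) (.node (.node (.node (.node (.leaf 72) (.leaf 0)) (.node (.leaf 0) (.leaf 0))) (.node (.node (.leaf 0) (.leaf 0)) (.leaf 0))) (.node (.node (.node (.leaf 146) (.leaf 0)) (.leaf 0)) (.node (.node (.leaf 0) (.leaf 0)) (.leaf 0)))))) (.node (.node (.node (.node (.node (.node (.leaf 0) (.leaf 0)) (.node (.leaf 0) (.leaf 0))) (.node (.node (.leaf 320) (.leaf 0)) (.leaf 0))) (.node (.node (.node (.leaf 334) (.leaf 0)) (.node (.leaf 0) (.leaf 0))) (.node (.node (.leaf 0) (.leaf 0)) (.leaf 0)))) (.node (.node (.node (.node (.leaf 43) (.leaf 563)) (.node (.leaf 0) (.leaf 0))) (.node (.node (.leaf 282) (.leaf 0)) (.leaf 0))) (.node (.node (.node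 (.leaf 251) (.leaf 0)) (.leaf 0)) (.node (.node (.leaf 0) (.leaf 0)) (.leaf 0))))) (.node (.node (.node (.node (.node (.leaf 65) (.leaf 0)) (.node (.leaf 0) (.leaf 0))) (.node (.node (.leaf 0) (.leaf 0)) (.leaf 0))) (.node (.node (.node (.leaf 0) (.leaf 0)) (.node (.leaf 0) (.leaf 0))) (.node (.node (.leaf 0) (.leaf 617)) (.leaf 333)))) (.node (.node (.node (.node (.leaf 296) (.leaf 0)) (.node (.leaf 530) (.leaf 0))) (.node (.node (.leaf 300) (.leaf 0)) (.leaf 0))) (.node (.node (.node (.leaf 460) (.leaf 0)) (.leaf 0)) (.node (.node (.leaf 142) (.leaf 0)) (.leaf 523)))))))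

/-- Part of `posT`. -/
def posT_p0010 : Tr := .node (.node (.node (.node (.node (.node (.node (.node (.leaf 0) (.leaf 0)) (.node (.leaf 425) (.leaf 0))) (.node (.node (.leaf 0) (.leaf 0)) (.leaf 651))) (.node (.node (.node (.leaf 0) (.leaf 0)) (.node (.leaf 0) (.leaf 0))) (.node (.node (.leaf 0) (.leaf 0)) (.leaf 0)))) (.node (.node (.node (.node (.leaf 0) (.leaf 0)) (.node (.leaf 0) (.leaf 0))) (.node (.node (.leaf 0) (.leaf 665)) (.leaf 641))) (.node (.node (.node (.leaf 0) (.leaf 0)) (.node (.leaf 436) (.leaf 0))) (.node (.node (.leaf 0) (.leaf 0)) (.leaf 0))))) (.node (.node (.node (.node (.node (.leaf 30) (.leaf 0)) (.node (.leaf 0) (.leaf 0))) (.node (.node (.leaf 0) (.leaf 588)) (.leaf 509))) (.node (.node (.node (.leaf 0) (.leaf 0)) (.node (.leaf 548) (.leaf 0))) (.node (.node (.leaf 376) (.leaf 0)) (.leaf 0)))) (.node (.node (.node (.node (.leaf 188) (.leaf 596)) (.node (.leaf 0) (.leaf 0))) (.node (.node (.leaf 270) (.leaf 0)) (.leaf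 0))) (.node (.node (.node (.leaf 0) (.leaf 659)) (.leaf 0)) (.node (.node (.leaf 0) (.leaf 0)) (.leaf 519)))))) (.node (.node (.node (.node (.node (.node (.leaf 0) (.leaf 0)) (.node (.leaf 416) (.leaf 0))) (.node (.node (.leaf 210) (.leaf 0)) (.leaf 0))) (.node (.node (.node (.leaf 58) (.leaf 0)) (.node (.leaf 0) (.leaf 0))) (.node (.node (.leaf 0) (.leaf 0)) (.leaf 571)))) (.node (.node (.node (.node (.leaf 0) (.leaf 0)) (.node (.leaf 0) (.leaf 0))) (.node (.node (.leaf 285) (.leaf 0)) (.leaf 0))) (.node (.node (.node (.leaf 0) (.leaf 0)) (.node (.leaf 407) (.leaf 0))) (.node (.node (.leaf 0) (.leaf 0)) (.leaf 0))))) (.node (.node (.node (.node (.node (.leaf 0) (.leaf 604)) (.node (.leaf 0) (.leaf 0))) (.node (.node (.leaf 218) (.leaf 0)) (.leaf 632))) (.node (.node (.node (.leaf 0) (.leaf 0)) (.node (.leaf 0) (.leaf 0))) (.node (.node (.leaf 346) (.leaf 0)) (.leaf 0)))) (.node (.node (.node (.node (.leaf 0) (.leaf 0)) (.node (.leaf 0) (.leaf 0)))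 (.node (.node (.leaf 0) (.leaf 0)) (.leaf 681))) (.node (.node (.node (.leaf 0) (.leaf 0)) (.leaf 0)) (.node (.node (.leaf 420) (.leaf 0)) (.leaf 0))))))) (.node (.node (.node (.node (.node (.node (.node (.leaf 0) (.leaf 0)) (.node (.leaf 0) (.leaf 0))) (.node (.node (.leaf 0) (.leaf 0)) (.leaf 0))) (.node (.node (.node (.leaf 64) (.leaf 0)) (.node (.leaf 0) (.leaf 0))) (.node (.node (.leaf 0) (.leaf 0)) (.leaf 0)))) (.node (.node (.node (.node (.leaf 0) (.leaf 0)) (.node (.leaf 506) (.leaf 0))) (.node (.node (.leaf 0) (.leaf 0)) (.leaf 0))) (.node (.node (.node (.leaf 0) (.leaf 0)) (.node (.leaf 0) (.leaf 0))) (.node (.node (.leaf 0) (.leaf 0)) (.leaf 619))))) (.node (.node (.node (.node (.node (.leaf 0) (.leaf 0)) (.node (.leaf 0) (.leaf 0))) (.node (.node (.leaf 0) (.leaf 0)) (.leaf 0))) (.node (.node (.node (.leaf 89) (.leaf 0)) (.node (.leaf 0) (.leaf 0))) (.node (.node (.leaf 0) (.leaf 0)) (.leaf 0)))) (.node (.node (.node (.node (.leaf 0)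 (.leaf 0)) (.node (.leaf 344) (.leaf 0))) (.node (.node (.leaf 0) (.leaf 688)) (.leaf 0))) (.node (.node (.node (.leaf 0) (.leaf 0)) (.leaf 0)) (.node (.node (.leaf 0) (.leaf 0)) (.leaf 0)))))) (.node (.node (.node (.node (.node (.node (.leaf 0) (.leaf 0)) (.node (.leaf 0) (.leaf 0))) (.node (.node (.leaf 0) (.leaf 0)) (.leaf 353))) (.node (.node (.node (.leaf 61) (.leaf 0)) (.node (.leaf 0) (.leaf 0))) (.node (.node (.leaf 0) (.leaf 0)) (.leaf 0)))) (.node (.node (.node (.node (.leaf 0) (.leaf 0)) (.node (.leaf 0) (.leaf 0))) (.node (.node (.leaf 393) (.leaf 0)) (.leaf 594))) (.node (.node (.node (.leaf 247) (.leaf 0)) (.node (.leaf 0) (.leaf 0))) (.node (.node (.leaf 0) (.leaf 0)) (.leaf 0))))) (.node (.node (.node (.node (.node (.leaf 0) (.leaf 0)) (.node (.leaf 0) (.leaf 0))) (.node (.node (.leaf 0) (.leaf 0)) (.leaf 0))) (.node (.node (.node (.leaf 98) (.leaf 0)) (.node (.leaf 286) (.leaf 0))) (.node (.node (.leaf 384) (.leaf 0)) (.leaf 0))))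 (.node (.node (.node (.node (.leaf 76) (.leaf 608)) (.node (.leaf 0) (.leaf 0))) (.node (.node (.leaf 0) (.leaf 0)) (.leaf 0))) (.node (.node (.node (.leaf 0) (.leaf 663)) (.leaf 469)) (.node (.node (.leaf 0) (.leaf 0)) (.leaf 0)))))))

/-- Part of `posT`. -/
def posT_p0011 : Tr := .node (.node (.node (.node (.node (.node (.node (.node (.leaf 0) (.leaf 636)) (.node (.leaf 274) (.leaf 0))) (.node (.node (.leaf 0) (.leaf 0)) (.leaf 0))) (.node (.node (.node (.leaf 53) (.leaf 0)) (.node (.leaf 0) (.leaf 0))) (.node (.node (.leaf 0) (.leaf 0)) (.leaf 0)))) (.node (.node (.node (.node (.leaf 0) (.leaf 0)) (.node (.leaf 0) (.leaf 0))) (.node (.node (.leaf 0) (.leaf 0)) (.leaf 0))) (.node (.node (.node (.leaf 0) (.leaf 0)) (.node (.leaf 410) (.leaf 0))) (.node (.node (.leaf 0) (.leaf 0)) (.leaf 0))))) (.node (.node (.node (.node (.node (.leaf 0) (.leaf 0)) (.node (.leaf 0) (.leaf 0))) (.node (.node (.leaf 0) (.leaf 0)) (.leaf 0))) (.node (.node (.node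 (.leaf 0) (.leaf 380)) (.node (.leaf 590) (.leaf 0))) (.node (.node (.leaf 378) (.leaf 0)) (.leaf 0)))) (.node (.node (.node (.node (.leaf 0) (.leaf 0)) (.node (.leaf 491) (.leaf 0))) (.node (.node (.leaf 276) (.leaf 0)) (.leaf 0))) (.node (.node (.node (.leaf 0) (.leaf 0)) (.leaf 0)) (.node (.node (.leaf 0) (.leaf 0)) (.leaf 0)))))) (.node (.node (.node (.node (.node (.node (.leaf 14) (.leaf 0)) (.node (.leaf 0) (.leaf 0))) (.node (.node (.leaf 221) (.leaf 0)) (.leaf 368))) (.node (.node (.node (.leaf 0) (.leaf 0)) (.node (.leaf 0) (.leaf 0))) (.node (.node (.leaf 0) (.leaf 0)) (.leaf 0)))) (.node (.node (.node (.node (.leaf 109) (.leaf 0)) (.node (.leaf 0) (.leaf 0))) (.node (.node (.leaf 283) (.leaf 0)) (.leaf 399))) (.node (.node (.node (.leaf 137) (.leaf 0)) (.node (.leaf 0) (.leaf 0))) (.node (.node (.leaf 214) (.leaf 0)) (.leaf 0))))) (.node (.node (.node (.node (.node (.leaf 0) (.leaf 0)) (.node (.leaf 0) (.leaf 0))) (.node (.node (.leaf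 200) (.leaf 0)) (.leaf 0))) (.node (.node (.node (.leaf 0) (.leaf 0)) (.node (.leaf 0) (.leaf 0))) (.node (.node (.leaf 359) (.leaf 0)) (.leaf 0)))) (.node (.node (.node (.node (.leaf 79) (.leaf 0)) (.node (.leaf 0) (.leaf 0))) (.node (.node (.leaf 0) (.leaf 0)) (.leaf 0))) (.node (.node (.node (.leaf 0) (.leaf 0)) (.leaf 0)) (.node (.node (.leaf 448) (.leaf 0)) (.leaf 0))))))) (.node (.node (.node (.node (.node (.node (.node (.leaf 7) (.leaf 0)) (.node (.leaf 260) (.leaf 586))) (.node (.node (.leaf 201) (.leaf 0)) (.leaf 621))) (.node (.node (.node (.leaf 0) (.leaf 0)) (.node (.leaf 0) (.leaf 0))) (.node (.node (.leaf 0) (.leaf 0)) (.leaf 0)))) (.node (.node (.node (.node (.leaf 128) (.leaf 0)) (.node (.leaf 490) (.leaf 0))) (.node (.node (.leaf 0) (.leaf 0)) (.leaf 0))) (.node (.node (.node (.leaf 0) (.leaf 0)) (.node (.leaf 429) (.leaf 0))) (.node (.node (.leaf 0) (.leaf 0)) (.leaf 0))))) (.node (.node (.node (.node (.node (.leaf 46) (.leaf 545))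 (.node (.leaf 0) (.leaf 0))) (.node (.node (.leaf 0) (.leaf 0)) (.leaf 0))) (.node (.node (.node (.leaf 315) (.leaf 0)) (.node (.leaf 0) (.leaf 0))) (.node (.node (.leaf 0) (.leaf 0)) (.leaf 0)))) (.node (.node (.node (.node (.leaf 0) (.leaf 0)) (.node (.leaf 0) (.leaf 0))) (.node (.node (.leaf 0) (.leaf 0)) (.leaf 0))) (.node (.node (.node (.leaf 157) (.leaf 0)) (.leaf 0)) (.node (.node (.leaf 437) (.leaf 0)) (.leaf 499)))))) (.node (.node (.node (.node (.node (.node (.leaf 0) (.leaf 0)) (.node (.leaf 0) (.leaf 0))) (.node (.node (.leaf 0) (.leaf 0)) (.leaf 0))) (.node (.node (.node (.leaf 0) (.leaf 332)) (.node (.leaf 0) (.leaf 0))) (.node (.node (.leaf 361) (.leaf 0)) (.leaf 573)))) (.node (.node (.node (.node (.leaf 0) (.leaf 600)) (.node (.leaf 494) (.leaf 0))) (.node (.node (.leaf 239) (.leaf 0)) (.leaf 0))) (.node (.node (.node (.leaf 0) (.leaf 634)) (.leaf 570)) (.node (.node (.leaf 0) (.leaf 690)) (.leaf 0))))) (.node (.node (.node (.node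 (.node (.leaf 90) (.leaf 0)) (.node (.leaf 0) (.leaf 0))) (.node (.node (.leaf 534) (.leaf 669)) (.leaf 0))) (.node (.node (.node (.leaf 101) (.leaf 522)) (.node (.leaf 0) (.leaf 0))) (.node (.node (.leaf 0) (.leaf 0)) (.leaf 0)))) (.node (.node (.node (.node (.leaf 0) (.leaf 0)) (.node (.leaf 0) (.leaf 0))) (.node (.node (.leaf 297) (.leaf 0)) (.leaf 424))) (.node (.node (.node (.leaf 0) (.leaf 0)) (.leaf 0)) (.node (.node (.leaf 388) (.leaf 0)) (.leaf 0)))))))

/-- Part of `posT`. -/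
def posT_p0100 : Tr := .node (.node (.node (.node (.node (.node (.node (.node (.leaf 0) (.leaf 0)) (.node (.leaf 0) (.leaf 0))) (.node (.node (.leaf 0) (.leaf 0)) (.leaf 623))) (.node (.node (.node (.leaf 0) (.leaf 0)) (.node (.leaf 0) (.leaf 0))) (.node (.node (.leaf 0) (.leaf 0)) (.leaf 0)))) (.node (.node (.node (.node (.leaf 0) (.leaf 602)) (.node (.leaf 0) (.leaf 0))) (.node (.node (.leaf 0) (.leaf 606)) (.leaf 0))) (.node (.node (.node (.leaf 0) (.leaf 0)) (.node (.leaf 454) (.leaf 0))) (.node (.node (.leaf 0) (.leaf 0)) (.leaf 658))))) (.node (.node (.node (.node (.node (.leaf 26) (.leaf 0)) (.node (.leaf 0) (.leaf 0))) (.node (.node (.leaf 0) (.leaf 0)) (.leaf 507))) (.node (.node (.node (.leaf 0) (.leaf 0)) (.node (.leaf 0) (.leaf 0))) (.node (.node (.leaf 0) (.leaf 0)) (.leaf 0)))) (.node (.node (.node (.node (.leaf 45) (.leaf 584)) (.node (.leaf 501) (.leaf 0))) (.node (.node (.leaf 0) (.leaf 0)) (.leaf 676))) (.node (.node (.node (.leaf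 0) (.leaf 654)) (.leaf 601)) (.node (.node (.leaf 0) (.leaf 0)) (.leaf 477)))))) (.node (.node (.node (.node (.node (.node (.leaf 0) (.leaf 0)) (.node (.leaf 0) (.leaf 0))) (.node (.node (.leaf 196) (.leaf 0)) (.leaf 0))) (.node (.node (.node (.leaf 0) (.leaf 0)) (.node (.leaf 0) (.leaf 0))) (.node (.node (.leaf 0) (.leaf 0)) (.leaf 411)))) (.node (.node (.node (.node (.leaf 0) (.leaf 0)) (.node (.leaf 470) (.leaf 0))) (.node (.node (.leaf 0) (.leaf 0)) (.leaf 0))) (.node (.node (.node (.leaf 0) (.leaf 0)) (.node (.leaf 0) (.leaf 0))) (.node (.node (.leaf 0) (.leaf 0)) (.leaf 0))))) (.node (.node (.node (.node (.node (.leaf 0) (.leaf 0)) (.node (.leaf 0) (.leaf 0))) (.node (.node (.leaf 0) (.leaf 0)) (.leaf 478))) (.node (.node (.node (.leaf 0) (.leaf 0)) (.node (.leaf 0) (.leaf 0))) (.node (.node (.leaf 0) (.leaf 0)) (.leaf 0)))) (.node (.node (.node (.node (.leaf 0) (.leaf 0)) (.node (.leaf 345) (.leaf 0))) (.node (.node (.leaf 0) (.leaf 0)) (.leaf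 554))) (.node (.node (.node (.leaf 119) (.leaf 0)) (.leaf 0)) (.node (.node (.leaf 445) (.leaf 0)) (.leaf 0))))))) (.node (.node (.node (.node (.node (.node (.node (.leaf 4) (.leaf 0)) (.node (.leaf 134) (.leaf 0))) (.node (.node (.leaf 0) (.leaf 0)) (.leaf 0))) (.node (.node (.node (.leaf 234) (.leaf 0)) (.node (.leaf 0) (.leaf 0))) (.node (.node (.leaf 0) (.leaf 0)) (.leaf 459)))) (.node (.node (.node (.node (.leaf 78) (.leaf 0)) (.node (.leaf 0) (.leaf 0))) (.node (.node (.leaf 0) (.leaf 0)) (.leaf 0))) (.node (.node (.node (.leaf 0) (.leaf 0)) (.node (.leaf 0) (.leaf 0))) (.node (.node (.leaf 0) (.leaf 0)) (.leaf 0))))) (.node (.node (.node (.node (.node (.leaf 0) (.leaf 0)) (.node (.leaf 0) (.leaf 0))) (.node (.node (.leaf 0) (.leaf 0)) (.leaf 0))) (.node (.node (.node (.leaf 83) (.leaf 0)) (.node (.leaf 0) (.leaf 0))) (.node (.node (.leaf 373) (.leaf 0)) (.leaf 0)))) (.node (.node (.node (.node (.leaf 0) (.leaf 685)) (.node (.leaf 0) (.leaf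 0))) (.node (.node (.leaf 0) (.leaf 0)) (.leaf 0))) (.node (.node (.node (.leaf 0) (.leaf 0)) (.leaf 0)) (.node (.node (.leaf 0) (.leaf 0)) (.leaf 0)))))) (.node (.node (.node (.node (.node (.node (.leaf 0) (.leaf 0)) (.node (.leaf 0) (.leaf 0))) (.node (.node (.leaf 203) (.leaf 0)) (.leaf 0))) (.node (.node (.node (.leaf 0) (.leaf 0)) (.node (.leaf 0) (.leaf 0))) (.node (.node (.leaf 0) (.leaf 0)) (.leaf 0)))) (.node (.node (.node (.node (.leaf 0) (.leaf 0)) (.node (.leaf 207) (.leaf 0))) (.node (.node (.leaf 250) (.leaf 0)) (.leaf 564))) (.node (.node (.node (.leaf 242) (.leaf 0)) (.node (.leaf 0) (.leaf 0))) (.node (.node (.leaf 84) (.leaf 0)) (.leaf 0))))) (.node (.node (.node (.node (.node (.leaf 0) (.leaf 0)) (.node (.leaf 0) (.leaf 0))) (.node (.node (.leaf 0) (.leaf 0)) (.leaf 0))) (.node (.node (.node (.leaf 94) (.leaf 0)) (.node (.leaf 261) (.leaf 0))) (.node (.node (.leaf 383) (.leaf 0)) (.leaf 0)))) (.node (.node (.node (.node (.leaf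 0) (.leaf 0)) (.node (.leaf 0) (.leaf 0))) (.node (.node (.leaf 0) (.leaf 0)) (.leaf 440))) (.node (.node (.node (.leaf 0) (.leaf 0)) (.leaf 0)) (.node (.node (.leaf 0) (.leaf 0)) (.leaf 0)))))))

/-- Part of `posT`. -/
def posT_p0101 : Tr := .node (.node (.node (.node (.node (.node (.node (.node (.leaf 1) (.leaf 0)) (.node (.leaf 427) (.leaf 0))) (.node (.node (.leaf 0) (.leaf 0)) (.leaf 0))) (.node (.node (.node (.leaf 52) (.leaf 0)) (.node (.leaf 0) (.leaf 0))) (.node (.node (.leaf 0) (.leaf 0)) (.leaf 0)))) (.node (.node (.node (.node (.leaf 0) (.leaf 0)) (.node (.leaf 0) (.leaf 0))) (.node (.node (.leaf 0) (.leaf 0)) (.leaf 0))) (.node (.node (.node (.leaf 394) (.leaf 0)) (.node (.leaf 0) (.leaf 0))) (.node (.node (.leaf 0) (.leaf 0)) (.leaf 0))))) (.node (.node (.node (.node (.node (.leaf 0) (.leaf 0)) (.node (.leaf 0) (.leaf 0))) (.node (.node (.leaf 0) (.leaf 0)) (.leaf 0))) (.node (.node (.node (.leaf 0) (.leaf 463)) (.node (.leaf 0) (.leaf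 0))) (.node (.node (.leaf 0) (.leaf 0)) (.leaf 0)))) (.node (.node (.node (.node (.leaf 0) (.leaf 0)) (.node (.leaf 485) (.leaf 0))) (.node (.node (.leaf 307) (.leaf 0)) (.leaf 0))) (.node (.node (.node (.leaf 0) (.leaf 0)) (.leaf 0)) (.node (.node (.leaf 0) (.leaf 0)) (.leaf 0)))))) (.node (.node (.node (.node (.node (.node (.leaf 12) (.leaf 0)) (.node (.leaf 0) (.leaf 0))) (.node (.node (.leaf 328) (.leaf 0)) (.leaf 338))) (.node (.node (.node (.leaf 63) (.leaf 0)) (.node (.leaf 0) (.leaf 0))) (.node (.node (.leaf 0) (.leaf 0)) (.leaf 0)))) (.node (.node (.node (.node (.leaf 0) (.leaf 0)) (.node (.leaf 0) (.leaf 0))) (.node (.node (.leaf 291) (.leaf 0)) (.leaf 0))) (.node (.node (.node (.leaf 140) (.leaf 0)) (.node (.leaf 0) (.leaf 0))) (.node (.node (.leaf 0) (.leaf 0)) (.leaf 0))))) (.node (.node (.node (.node (.node (.leaf 106) (.leaf 0)) (.node (.leaf 0) (.leaf 0))) (.node (.node (.leaf 223) (.leaf 0)) (.leaf 0))) (.node (.node (.node (.leaf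 0) (.leaf 0)) (.node (.leaf 0) (.leaf 0))) (.node (.node (.leaf 348) (.leaf 0)) (.leaf 0)))) (.node (.node (.node (.node (.leaf 169) (.leaf 0)) (.node (.leaf 0) (.leaf 0))) (.node (.node (.leaf 0) (.leaf 0)) (.leaf 0))) (.node (.node (.node (.leaf 161) (.leaf 0)) (.leaf 0)) (.node (.node (.leaf 435) (.leaf 0)) (.leaf 0))))))) (.node (.node (.node (.node (.node (.node (.node (.leaf 5) (.leaf 0)) (.node (.leaf 267) (.leaf 0))) (.node (.node (.leaf 0) (.leaf 0)) (.leaf 471))) (.node (.node (.node (.leaf 0) (.leaf 0)) (.node (.leaf 0) (.leaf 0))) (.node (.node (.leaf 0) (.leaf 0)) (.leaf 0)))) (.node (.node (.node (.node (.leaf 105) (.leaf 0)) (.node (.leaf 0) (.leaf 0))) (.node (.node (.leaf 0) (.leaf 0)) (.leaf 0))) (.node (.node (.node (.leaf 0) (.leaf 0)) (.node (.leaf 412) (.leaf 0))) (.node (.node (.leaf 0) (.leaf 0)) (.leaf 0))))) (.node (.node (.node (.node (.node (.leaf 40) (.leaf 397)) (.node (.leaf 0) (.leaf 0))) (.node (.node (.leaf 220)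 (.leaf 0)) (.leaf 0))) (.node (.node (.node (.leaf 178) (.leaf 0)) (.node (.leaf 0) (.leaf 0))) (.node (.node (.leaf 358) (.leaf 0)) (.leaf 0)))) (.node (.node (.node (.node (.leaf 168) (.leaf 0)) (.node (.leaf 0) (.leaf 0))) (.node (.node (.leaf 0) (.leaf 0)) (.leaf 0))) (.node (.node (.node (.leaf 151) (.leaf 0)) (.leaf 0)) (.node (.node (.leaf 0) (.leaf 0)) (.leaf 642)))))) (.node (.node (.node (.node (.node (.node (.leaf 0) (.leaf 0)) (.node (.leaf 0) (.leaf 0))) (.node (.node (.leaf 232) (.leaf 0)) (.leaf 0))) (.node (.node (.node (.leaf 0) (.leaf 0)) (.node (.leaf 0) (.leaf 0))) (.node (.node (.leaf 0) (.leaf 504)) (.leaf 0)))) (.node (.node (.node (.node (.leaf 111) (.leaf 560)) (.node (.leaf 0) (.leaf 0))) (.node (.node (.leaf 0) (.leaf 0)) (.leaf 0))) (.node (.node (.node (.leaf 280) (.leaf 0)) (.leaf 0)) (.node (.node (.leaf 0) (.leaf 0)) (.leaf 0))))) (.node (.node (.node (.node (.node (.leaf 81) (.leaf 0)) (.node (.leaf 0) (.leaf 0)))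 (.node (.node (.leaf 0) (.leaf 0)) (.leaf 0))) (.node (.node (.node (.leaf 182) (.leaf 615)) (.node (.leaf 439) (.leaf 0))) (.node (.node (.leaf 0) (.leaf 0)) (.leaf 465)))) (.node (.node (.node (.node (.leaf 0) (.leaf 0)) (.node (.leaf 0) (.leaf 0))) (.node (.node (.leaf 0) (.leaf 0)) (.leaf 409))) (.node (.node (.node (.leaf 0) (.leaf 0)) (.leaf 512)) (.node (.node (.leaf 0) (.leaf 0)) (.leaf 0)))))))

/-- Part of `posT`. -/
def posT_p0110 : Tr := .node (.node (.node (.node (.node (.node (.node (.node (.leaf 0) (.leaf 0)) (.node (.leaf 238) (.leaf 0))) (.node (.node (.leaf 0) (.leaf 0)) (.leaf 0))) (.node (.node (.node (.leaf 0) (.leaf 0)) (.node (.leaf 0) (.leaf 0))) (.node (.node (.leaf 299) (.leaf 0)) (.leaf 0)))) (.node (.node (.node (.node (.leaf 0) (.leaf 0)) (.node (.leaf 0) (.leaf 0))) (.node (.node (.leaf 0) (.leaf 0)) (.leaf 0))) (.node (.node (.node (.leaf 0) (.leaf 0)) (.node (.leaf 0) (.leaf 0))) (.node (.node (.leaf 0) (.leaf 0))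 (.leaf 0))))) (.node (.node (.node (.node (.node (.leaf 34) (.leaf 0)) (.node (.leaf 0) (.leaf 0))) (.node (.node (.leaf 0) (.leaf 0)) (.leaf 0))) (.node (.node (.node (.leaf 0) (.leaf 0)) (.node (.leaf 0) (.leaf 0))) (.node (.node (.leaf 0) (.leaf 0)) (.leaf 0)))) (.node (.node (.node (.node (.leaf 212) (.leaf 0)) (.node (.leaf 0) (.leaf 614))) (.node (.node (.leaf 392) (.leaf 672)) (.leaf 680))) (.node (.node (.node (.leaf 0) (.leaf 0)) (.leaf 0)) (.node (.node (.leaf 0) (.leaf 0)) (.leaf 0)))))) (.node (.node (.node (.node (.node (.node (.leaf 0) (.leaf 0)) (.node (.leaf 422) (.leaf 0))) (.node (.node (.leaf 314) (.leaf 0)) (.leaf 0))) (.node (.node (.node (.leaf 120) (.leaf 0)) (.node (.leaf 0) (.leaf 0))) (.node (.node (.leaf 0) (.leaf 0)) (.leaf 0)))) (.node (.node (.node (.node (.leaf 0) (.leaf 0)) (.node (.leaf 0) (.leaf 0))) (.node (.node (.leaf 287) (.leaf 0)) (.leaf 0))) (.node (.node (.node (.leaf 0) (.leaf 0)) (.node (.leaf 0) (.leaf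 0))) (.node (.node (.leaf 0) (.leaf 0)) (.leaf 0))))) (.node (.node (.node (.node (.node (.leaf 0) (.leaf 0)) (.node (.leaf 0) (.leaf 0))) (.node (.node (.leaf 171) (.leaf 0)) (.leaf 503))) (.node (.node (.node (.leaf 0) (.leaf 0)) (.node (.leaf 0) (.leaf 0))) (.node (.node (.leaf 199) (.leaf 0)) (.leaf 0)))) (.node (.node (.node (.node (.leaf 32) (.leaf 0)) (.node (.leaf 0) (.leaf 0))) (.node (.node (.leaf 0) (.leaf 0)) (.leaf 0))) (.node (.node (.node (.leaf 155) (.leaf 0)) (.leaf 0)) (.node (.node (.leaf 432) (.leaf 0)) (.leaf 0))))))) (.node (.node (.node (.node (.node (.node (.node (.leaf 0) (.leaf 0)) (.node (.leaf 0) (.leaf 0))) (.node (.node (.leaf 0) (.leaf 0)) (.leaf 0))) (.node (.node (.node (.leaf 0) (.leaf 0)) (.node (.leaf 0) (.leaf 0))) (.node (.node (.leaf 0) (.leaf 0)) (.leaf 0)))) (.node (.node (.node (.node (.leaf 0) (.leaf 0)) (.node (.leaf 518) (.leaf 0))) (.node (.node (.leaf 0) (.leaf 0)) (.leaf 0))) (.node (.node (.node (.leaf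 0) (.leaf 0)) (.node (.leaf 0) (.leaf 0))) (.node (.node (.leaf 0) (.leaf 0)) (.leaf 657))))) (.node (.node (.node (.node (.node (.leaf 77) (.leaf 0)) (.node (.leaf 0) (.leaf 0))) (.node (.node (.leaf 0) (.leaf 0)) (.leaf 0))) (.node (.node (.node (.leaf 175) (.leaf 0)) (.node (.leaf 587) (.leaf 0))) (.node (.node (.leaf 317) (.leaf 0)) (.leaf 0)))) (.node (.node (.node (.node (.leaf 71) (.leaf 0)) (.node (.leaf 340) (.leaf 0))) (.node (.node (.leaf 0) (.leaf 0)) (.leaf 0))) (.node (.node (.node (.leaf 0) (.leaf 0)) (.leaf 0)) (.node (.node (.leaf 0) (.leaf 0)) (.leaf 0)))))) (.node (.node (.node (.node (.node (.node (.leaf 0) (.leaf 0)) (.node (.leaf 0) (.leaf 0))) (.node (.node (.leaf 229) (.leaf 0)) (.leaf 513))) (.node (.node (.node (.leaf 123) (.leaf 0)) (.node (.leaf 0) (.leaf 0))) (.node (.node (.leaf 0) (.leaf 0)) (.leaf 0)))) (.node (.node (.node (.node (.leaf 0) (.leaf 0)) (.node (.leaf 372) (.leaf 0))) (.node (.node (.leaf 390) (.leaf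 0)) (.leaf 0))) (.node (.node (.node (.leaf 249) (.leaf 0)) (.leaf 0)) (.node (.node (.leaf 0) (.leaf 0)) (.leaf 0))))) (.node (.node (.node (.node (.node (.leaf 47) (.leaf 0)) (.node (.leaf 0) (.leaf 0))) (.node (.node (.leaf 0) (.leaf 0)) (.leaf 0))) (.node (.node (.node (.leaf 183) (.leaf 0)) (.node (.leaf 389) (.leaf 0))) (.node (.node (.leaf 381) (.leaf 0)) (.leaf 0)))) (.node (.node (.node (.node (.leaf 257) (.leaf 605)) (.node (.leaf 0) (.leaf 0))) (.node (.node (.leaf 302) (.leaf 0)) (.leaf 0))) (.node (.node (.node (.leaf 159) (.leaf 0)) (.leaf 468)) (.node (.node (.leaf 264) (.leaf 0)) (.leaf 531)))))))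

/-- Part of `posT`. -/
def posT_p0111 : Tr := .node (.node (.node (.node (.node (.node (.node (.node (.leaf 0) (.leaf 0)) (.node (.leaf 0) (.leaf 538))) (.node (.node (.leaf 0) (.leaf 0)) (.leaf 633))) (.node (.node (.node (.leaf 113) (.leaf 0)) (.node (.leaf 0) (.leaf 0))) (.node (.node (.leaf 0) (.leaf 0)) (.leaf 458)))) (.node (.node (.node (.node (.leaf 0) (.leaf 0)) (.node (.leaf 511) (.leaf 0))) (.node (.node (.leaf 0) (.leaf 0)) (.leaf 0))) (.node (.node (.node (.leaf 0) (.leaf 0)) (.node (.leaf 426) (.leaf 0))) (.node (.node (.leaf 0) (.leaf 0)) (.leaf 0))))) (.node (.node (.node (.node (.node (.leaf 0) (.leaf 0)) (.node (.leaf 0) (.leaf 0))) (.node (.node (.leaf 0) (.leaf 0)) (.leaf 343))) (.node (.node (.node (.leaf 0) (.leaf 0)) (.node (.leaf 549) (.leaf 0))) (.node (.node (.leaf 177) (.leaf 0)) (.leaf 0)))) (.node (.node (.node (.node (.leaf 0) (.leaf 0)) (.node (.leaf 0) (.leaf 0))) (.node (.node (.leaf 305) (.leaf 0)) (.leaf 0)))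 (.node (.node (.node (.leaf 0) (.leaf 644)) (.leaf 0)) (.node (.node (.leaf 0) (.leaf 0)) (.leaf 514)))))) (.node (.node (.node (.node (.node (.node (.leaf 16) (.leaf 0)) (.node (.leaf 430) (.leaf 0))) (.node (.node (.leaf 0) (.leaf 0)) (.leaf 374))) (.node (.node (.node (.leaf 0) (.leaf 0)) (.node (.leaf 0) (.leaf 0))) (.node (.node (.leaf 0) (.leaf 0)) (.leaf 0)))) (.node (.node (.node (.node (.leaf 124) (.leaf 0)) (.node (.leaf 472) (.leaf 0))) (.node (.node (.leaf 0) (.leaf 0)) (.leaf 679))) (.node (.node (.node (.leaf 129) (.leaf 0)) (.node (.leaf 0) (.leaf 0))) (.node (.node (.leaf 0) (.leaf 0)) (.leaf 0))))) (.node (.node (.node (.node (.node (.leaf 0) (.leaf 0)) (.node (.leaf 0) (.leaf 0))) (.node (.node (.leaf 0) (.leaf 0)) (.leaf 0))) (.node (.node (.node (.leaf 0) (.leaf 0)) (.node (.leaf 0) (.leaf 0))) (.node (.node (.leaf 0) (.leaf 0)) (.leaf 0)))) (.node (.node (.node (.node (.leaf 0) (.leaf 0)) (.node (.leaf 489) (.leaf 0))) (.node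 (.node (.leaf 0) (.leaf 0)) (.leaf 405))) (.node (.node (.node (.leaf 0) (.leaf 0)) (.leaf 0)) (.node (.node (.leaf 0) (.leaf 0)) (.leaf 0))))))) (.node (.node (.node (.node (.node (.node (.node (.leaf 9) (.leaf 0)) (.node (.leaf 0) (.leaf 0))) (.node (.node (.leaf 195) (.leaf 0)) (.leaf 0))) (.node (.node (.node (.leaf 0) (.leaf 0)) (.node (.leaf 0) (.leaf 0))) (.node (.node (.leaf 0) (.leaf 0)) (.leaf 0)))) (.node (.node (.node (.node (.leaf 144) (.leaf 0)) (.node (.leaf 0) (.leaf 0))) (.node (.node (.leaf 0) (.leaf 0)) (.leaf 0))) (.node (.node (.node (.leaf 0) (.leaf 0)) (.node (.leaf 0) (.leaf 0))) (.node (.node (.leaf 0) (.leaf 0)) (.leaf 0))))) (.node (.node (.node (.node (.node (.leaf 50) (.leaf 0)) (.node (.leaf 0) (.leaf 0))) (.node (.node (.leaf 226) (.leaf 0)) (.leaf 0))) (.node (.node (.node (.leaf 104) (.leaf 0)) (.node (.leaf 551) (.leaf 0))) (.node (.node (.leaf 217) (.leaf 0)) (.leaf 0)))) (.node (.node (.node (.node (.leaf 0) (.leaf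 0)) (.node (.leaf 0) (.leaf 0))) (.node (.node (.leaf 0) (.leaf 0)) (.leaf 0))) (.node (.node (.node (.leaf 152) (.leaf 0)) (.leaf 0)) (.node (.node (.leaf 292) (.leaf 0)) (.leaf 0)))))) (.node (.node (.node (.node (.node (.node (.leaf 21) (.leaf 0)) (.node (.leaf 0) (.leaf 0))) (.node (.node (.leaf 0) (.leaf 0)) (.leaf 0))) (.node (.node (.node (.leaf 0) (.leaf 0)) (.node (.leaf 0) (.leaf 0))) (.node (.node (.leaf 370) (.leaf 0)) (.leaf 682)))) (.node (.node (.node (.node (.leaf 0) (.leaf 0)) (.node (.leaf 0) (.leaf 0))) (.node (.node (.leaf 0) (.leaf 0)) (.leaf 0))) (.node (.node (.node (.leaf 255) (.leaf 0)) (.leaf 546)) (.node (.node (.leaf 0) (.leaf 691)) (.leaf 0))))) (.node (.node (.node (.node (.node (.leaf 0) (.leaf 562)) (.node (.leaf 0) (.leaf 0))) (.node (.node (.leaf 0) (.leaf 603)) (.leaf 0))) (.node (.node (.node (.leaf 0) (.leaf 0)) (.node (.leaf 0) (.leaf 0))) (.node (.node (.leaf 0) (.leaf 613)) (.leaf 0)))) (.node (.node (.node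 (.node (.leaf 0) (.leaf 0)) (.node (.leaf 0) (.leaf 0))) (.node (.node (.leaf 0) (.leaf 0)) (.leaf 0))) (.node (.node (.node (.leaf 0) (.leaf 0)) (.leaf 0)) (.node (.node (.leaf 0) (.leaf 0)) (.leaf 0)))))))

/-- Part of `posT`. -/
def posT_p1000 : Tr := .node (.node (.node (.node (.node (.node (.node (.node (.leaf 0) (.leaf 0)) (.node (.leaf 256) (.leaf 0))) (.node (.node (.leaf 0) (.leaf 0)) (.leaf 529))) (.node (.node (.node (.leaf 0) (.leaf 0)) (.node (.leaf 0) (.leaf 0))) (.node (.node (.leaf 112) (.leaf 0)) (.leaf 0)))) (.node (.node (.node (.node (.leaf 0) (.leaf 449)) (.node (.leaf 0) (.leaf 0))) (.node (.node (.leaf 0) (.leaf 0)) (.leaf 0))) (.node (.node (.node (.leaf 0) (.leaf 611)) (.node (.leaf 0) (.leaf 0))) (.node (.node (.leaf 0) (.leaf 0)) (.leaf 640))))) (.node (.node (.node (.node (.node (.leaf 25) (.leaf 0)) (.node (.leaf 0) (.leaf 0))) (.node (.node (.leaf 0) (.leaf 540)) (.leaf 386))) (.node (.node (.node (.leaf 0) (.leaf 0))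 (.node (.leaf 0) (.leaf 0))) (.node (.node (.leaf 363) (.leaf 0)) (.leaf 0)))) (.node (.node (.node (.node (.leaf 20) (.leaf 0)) (.node (.leaf 354) (.leaf 0))) (.node (.node (.leaf 240) (.leaf 0)) (.leaf 542))) (.node (.node (.node (.leaf 253) (.leaf 612)) (.leaf 0)) (.node (.node (.leaf 0) (.leaf 0)) (.leaf 480)))))) (.node (.node (.node (.node (.node (.node (.leaf 0) (.leaf 0)) (.node (.leaf 0) (.leaf 0))) (.node (.node (.leaf 191) (.leaf 0)) (.leaf 0))) (.node (.node (.node (.leaf 0) (.leaf 0)) (.node (.leaf 0) (.leaf 0))) (.node (.node (.leaf 0) (.leaf 0)) (.leaf 0)))) (.node (.node (.node (.node (.leaf 0) (.leaf 0)) (.node (.leaf 495) (.leaf 0))) (.node (.node (.leaf 0) (.leaf 0)) (.leaf 0))) (.node (.node (.node (.leaf 0) (.leaf 0)) (.node (.leaf 0) (.leaf 0))) (.node (.node (.leaf 0) (.leaf 0)) (.leaf 0))))) (.node (.node (.node (.node (.node (.leaf 60) (.leaf 0)) (.node (.leaf 0) (.leaf 0))) (.node (.node (.leaf 73) (.leaf 0)) (.leaf 0)))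 (.node (.node (.node (.leaf 0) (.leaf 0)) (.node (.leaf 0) (.leaf 0))) (.node (.node (.leaf 0) (.leaf 0)) (.leaf 0)))) (.node (.node (.node (.node (.leaf 0) (.leaf 0)) (.node (.leaf 0) (.leaf 0))) (.node (.node (.leaf 0) (.leaf 0)) (.leaf 408))) (.node (.node (.node (.leaf 154) (.leaf 0)) (.leaf 0)) (.node (.node (.leaf 444) (.leaf 0)) (.leaf 0))))))) (.node (.node (.node (.node (.node (.node (.node (.leaf 3) (.leaf 0)) (.node (.leaf 262) (.leaf 0))) (.node (.node (.leaf 0) (.leaf 0)) (.leaf 0))) (.node (.node (.node (.leaf 117) (.leaf 0)) (.node (.leaf 0) (.leaf 0))) (.node (.node (.leaf 0) (.leaf 0)) (.leaf 592)))) (.node (.node (.node (.node (.leaf 68) (.leaf 0)) (.node (.leaf 505) (.leaf 689))) (.node (.node (.leaf 0) (.leaf 0)) (.leaf 0))) (.node (.node (.node (.leaf 0) (.leaf 0)) (.node (.leaf 0) (.leaf 0))) (.node (.node (.leaf 0) (.leaf 0)) (.leaf 0))))) (.node (.node (.node (.node (.node (.leaf 66) (.leaf 0)) (.node (.leaf 0) (.leaf 0)))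 (.node (.node (.leaf 0) (.leaf 0)) (.leaf 502))) (.node (.node (.node (.leaf 88) (.leaf 0)) (.node (.leaf 576) (.leaf 0))) (.node (.node (.leaf 0) (.leaf 0)) (.leaf 0)))) (.node (.node (.node (.node (.leaf 0) (.leaf 607)) (.node (.leaf 0) (.leaf 0))) (.node (.node (.leaf 0) (.leaf 687)) (.leaf 0))) (.node (.node (.node (.leaf 0) (.leaf 692)) (.leaf 0)) (.node (.node (.leaf 0) (.leaf 0)) (.leaf 0)))))) (.node (.node (.node (.node (.node (.node (.leaf 0) (.leaf 0)) (.node (.leaf 0) (.leaf 0))) (.node (.node (.leaf 0) (.leaf 398)) (.leaf 0))) (.node (.node (.node (.leaf 0) (.leaf 0)) (.node (.leaf 0) (.leaf 0))) (.node (.node (.leaf 0) (.leaf 0)) (.leaf 0)))) (.node (.node (.node (.node (.leaf 0) (.leaf 0)) (.node (.leaf 192) (.leaf 0))) (.node (.node (.leaf 235) (.leaf 0)) (.leaf 0))) (.node (.node (.node (.leaf 143) (.leaf 0)) (.node (.leaf 0) (.leaf 0))) (.node (.node (.leaf 215) (.leaf 0)) (.leaf 0))))) (.node (.node (.node (.node (.node (.leaf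 108) (.leaf 0)) (.node (.leaf 0) (.leaf 0))) (.node (.node (.leaf 0) (.leaf 0)) (.leaf 0))) (.node (.node (.node (.leaf 91) (.leaf 0)) (.node (.leaf 406) (.leaf 0))) (.node (.node (.leaf 0) (.leaf 0)) (.leaf 0)))) (.node (.node (.node (.node (.leaf 0) (.leaf 0)) (.node (.leaf 492) (.leaf 0))) (.node (.node (.leaf 0) (.leaf 0)) (.leaf 443))) (.node (.node (.node (.leaf 0) (.leaf 0)) (.leaf 0)) (.node (.node (.leaf 417) (.leaf 0)) (.leaf 0)))))))

/-- Part of `posT`. -/
def posT_p1001 : Tr := .node (.node (.node (.node (.node (.node (.node (.node (.leaf 0) (.leaf 0)) (.node (.leaf 0) (.leaf 0))) (.node (.node (.leaf 0) (.leaf 0)) (.leaf 0))) (.node (.node (.node (.leaf 0) (.leaf 0)) (.node (.leaf 0) (.leaf 0))) (.node (.node (.leaf 0) (.leaf 0)) (.leaf 0)))) (.node (.node (.node (.node (.leaf 166) (.leaf 0)) (.node (.leaf 0) (.leaf 0))) (.node (.node (.leaf 0) (.leaf 0)) (.leaf 0))) (.node (.node (.node (.leaf 102) (.leaf 0)) (.node (.leaf 0) (.leaf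 0))) (.node (.node (.leaf 0) (.leaf 0)) (.leaf 0))))) (.node (.node (.node (.node (.node (.leaf 0) (.leaf 0)) (.node (.leaf 0) (.leaf 0))) (.node (.node (.leaf 0) (.leaf 0)) (.leaf 0))) (.node (.node (.node (.leaf 0) (.leaf 0)) (.node (.leaf 0) (.leaf 0))) (.node (.node (.leaf 0) (.leaf 0)) (.leaf 0)))) (.node (.node (.node (.node (.leaf 0) (.leaf 0)) (.node (.leaf 0) (.leaf 0))) (.node (.node (.leaf 0) (.leaf 0)) (.leaf 0))) (.node (.node (.node (.leaf 0) (.leaf 0)) (.leaf 0)) (.node (.node (.leaf 0) (.leaf 0)) (.leaf 0)))))) (.node (.node (.node (.node (.node (.node (.leaf 11) (.leaf 0)) (.node (.leaf 0) (.leaf 0))) (.node (.node (.leaf 323) (.leaf 0)) (.leaf 341))) (.node (.node (.node (.leaf 125) (.leaf 0)) (.node (.leaf 0) (.leaf 0))) (.node (.node (.leaf 0) (.leaf 464)) (.leaf 0)))) (.node (.node (.node (.node (.leaf 0) (.leaf 0)) (.node (.leaf 0) (.leaf 0))) (.node (.node (.leaf 290) (.leaf 0)) (.leaf 0))) (.node (.node (.node (.leaf 136)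 (.leaf 0)) (.node (.leaf 0) (.leaf 0))) (.node (.node (.leaf 0) (.leaf 0)) (.leaf 0))))) (.node (.node (.node (.node (.node (.leaf 0) (.leaf 0)) (.node (.leaf 0) (.leaf 0))) (.node (.node (.leaf 0) (.leaf 0)) (.leaf 0))) (.node (.node (.node (.leaf 0) (.leaf 0)) (.node (.leaf 0) (.leaf 0))) (.node (.node (.leaf 0) (.leaf 0)) (.leaf 0)))) (.node (.node (.node (.node (.leaf 75) (.leaf 0)) (.node (.leaf 0) (.leaf 0))) (.node (.node (.leaf 0) (.leaf 0)) (.leaf 0))) (.node (.node (.node (.leaf 164) (.leaf 0)) (.leaf 0)) (.node (.node (.leaf 0) (.leaf 0)) (.leaf 0))))))) (.node (.node (.node (.node (.node (.node (.node (.leaf 0) (.leaf 0)) (.node (.leaf 414) (.leaf 0))) (.node (.node (.leaf 0) (.leaf 0)) (.leaf 0))) (.node (.node (.node (.leaf 0) (.leaf 0)) (.node (.leaf 0) (.leaf 0))) (.node (.node (.leaf 0) (.leaf 0)) (.leaf 0)))) (.node (.node (.node (.node (.leaf 0) (.leaf 0)) (.node (.leaf 0) (.leaf 0))) (.node (.node (.leaf 0) (.leaf 0)) (.leaf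 0))) (.node (.node (.node (.leaf 0) (.leaf 0)) (.node (.leaf 0) (.leaf 0))) (.node (.node (.leaf 0) (.leaf 0)) (.leaf 0))))) (.node (.node (.node (.node (.node (.leaf 38) (.leaf 0)) (.node (.leaf 0) (.leaf 0))) (.node (.node (.leaf 219) (.leaf 0)) (.leaf 0))) (.node (.node (.node (.leaf 174) (.leaf 0)) (.node (.leaf 0) (.leaf 0))) (.node (.node (.leaf 364) (.leaf 0)) (.leaf 677)))) (.node (.node (.node (.node (.leaf 167) (.leaf 0)) (.node (.leaf 0) (.leaf 0))) (.node (.node (.leaf 0) (.leaf 0)) (.leaf 0))) (.node (.node (.node (.leaf 147) (.leaf 0)) (.leaf 0)) (.node (.node (.leaf 0) (.leaf 0)) (.leaf 482)))))) (.node (.node (.node (.node (.node (.node (.leaf 0) (.leaf 0)) (.node (.leaf 0) (.leaf 0))) (.node (.node (.leaf 231) (.leaf 0)) (.leaf 0))) (.node (.node (.node (.leaf 0) (.leaf 0)) (.node (.leaf 0) (.leaf 0))) (.node (.node (.leaf 0) (.leaf 527)) (.leaf 0)))) (.node (.node (.node (.node (.leaf 44) (.leaf 558)) (.node (.leaf 0) (.leaf 0)))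 (.node (.node (.leaf 391) (.leaf 0)) (.leaf 0))) (.node (.node (.node (.leaf 252) (.leaf 0)) (.leaf 0)) (.node (.node (.leaf 194) (.leaf 0)) (.leaf 0))))) (.node (.node (.node (.node (.node (.leaf 69) (.leaf 0)) (.node (.leaf 0) (.leaf 0))) (.node (.node (.leaf 0) (.leaf 0)) (.leaf 0))) (.node (.node (.node (.leaf 185) (.leaf 0)) (.node (.leaf 423) (.leaf 0))) (.node (.node (.leaf 0) (.leaf 650)) (.leaf 466)))) (.node (.node (.node (.node (.leaf 0) (.leaf 0)) (.node (.leaf 525) (.leaf 0))) (.node (.node (.leaf 0) (.leaf 0)) (.leaf 0))) (.node (.node (.node (.leaf 0) (.leaf 0)) (.leaf 520)) (.node (.node (.leaf 248) (.leaf 0)) (.leaf 656)))))))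

/-- Part of `posT`. -/
def posT_p1010 : Tr := .node (.node (.node (.node (.node (.node (.node (.node (.leaf 0) (.leaf 0)) (.node (.leaf 273) (.leaf 0))) (.node (.node (.leaf 0) (.leaf 0)) (.leaf 0))) (.node (.node (.node (.leaf 0) (.leaf 0)) (.node (.leaf 0) (.leaf 0))) (.node (.node (.leaf 150) (.leaf 0)) (.leaf 0)))) (.node (.node (.node (.node (.leaf 0) (.leaf 0)) (.node (.leaf 0) (.leaf 0))) (.node (.node (.leaf 0) (.leaf 0)) (.leaf 647))) (.node (.node (.node (.leaf 0) (.leaf 0)) (.node (.leaf 579) (.leaf 0))) (.node (.node (.leaf 0) (.leaf 0)) (.leaf 0))))) (.node (.node (.node (.node (.node (.leaf 31) (.leaf 0)) (.node (.leaf 0) (.leaf 0))) (.node (.node (.leaf 0) (.leaf 0)) (.leaf 0))) (.node (.node (.node (.leaf 0) (.leaf 0)) (.node (.leaf 547) (.leaf 0))) (.node (.node (.leaf 352) (.leaf 0)) (.leaf 0)))) (.node (.node (.node (.node (.leaf 189) (.leaf 585)) (.node (.leaf 0) (.leaf 0))) (.node (.node (.leaf 277) (.leaf 670)) (.leaf 0)))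 (.node (.node (.node (.leaf 0) (.leaf 0)) (.leaf 0)) (.node (.node (.leaf 0) (.leaf 0)) (.leaf 635)))))) (.node (.node (.node (.node (.node (.node (.leaf 0) (.leaf 661)) (.node (.leaf 418) (.leaf 0))) (.node (.node (.leaf 211) (.leaf 0)) (.leaf 0))) (.node (.node (.node (.leaf 59) (.leaf 0)) (.node (.leaf 0) (.leaf 0))) (.node (.node (.leaf 0) (.leaf 0)) (.leaf 428)))) (.node (.node (.node (.node (.leaf 0) (.leaf 0)) (.node (.leaf 0) (.leaf 0))) (.node (.node (.leaf 279) (.leaf 0)) (.leaf 0))) (.node (.node (.node (.leaf 0) (.leaf 0)) (.node (.leaf 0) (.leaf 0))) (.node (.node (.leaf 0) (.leaf 0)) (.leaf 0))))) (.node (.node (.node (.node (.node (.leaf 0) (.leaf 683)) (.node (.leaf 0) (.leaf 0))) (.node (.node (.leaf 96) (.leaf 0)) (.leaf 648))) (.node (.node (.node (.leaf 0) (.leaf 0)) (.node (.leaf 413) (.leaf 0))) (.node (.node (.leaf 337) (.leaf 0)) (.leaf 0)))) (.node (.node (.node (.node (.leaf 0) (.leaf 0)) (.node (.leaf 0) (.leaf 0))) (.node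 (.node (.leaf 0) (.leaf 0)) (.leaf 675))) (.node (.node (.node (.leaf 162) (.leaf 0)) (.leaf 0)) (.node (.node (.leaf 0) (.leaf 0)) (.leaf 0))))))) (.node (.node (.node (.node (.node (.node (.node (.leaf 0) (.leaf 0)) (.node (.leaf 0) (.leaf 0))) (.node (.node (.leaf 0) (.leaf 0)) (.leaf 0))) (.node (.node (.node (.leaf 126) (.leaf 0)) (.node (.leaf 0) (.leaf 0))) (.node (.node (.leaf 0) (.leaf 0)) (.leaf 0)))) (.node (.node (.node (.node (.leaf 0) (.leaf 0)) (.node (.leaf 517) (.leaf 0))) (.node (.node (.leaf 0) (.leaf 0)) (.leaf 0))) (.node (.node (.node (.leaf 0) (.leaf 0)) (.node (.leaf 0) (.leaf 0))) (.node (.node (.leaf 0) (.leaf 0)) (.leaf 521))))) (.node (.node (.node (.node (.node (.leaf 0) (.leaf 0)) (.node (.leaf 0) (.leaf 0))) (.node (.node (.leaf 0) (.leaf 0)) (.leaf 0))) (.node (.node (.node (.leaf 172) (.leaf 637)) (.node (.leaf 568) (.leaf 0))) (.node (.node (.leaf 357) (.leaf 0)) (.leaf 0)))) (.node (.node (.node (.node (.leaf 29)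 (.leaf 0)) (.node (.leaf 193) (.leaf 0))) (.node (.node (.leaf 0) (.leaf 0)) (.leaf 0))) (.node (.node (.node (.leaf 0) (.leaf 0)) (.leaf 0)) (.node (.node (.leaf 0) (.leaf 0)) (.leaf 0)))))) (.node (.node (.node (.node (.node (.node (.leaf 0) (.leaf 0)) (.node (.leaf 0) (.leaf 0))) (.node (.node (.leaf 0) (.leaf 0)) (.leaf 497))) (.node (.node (.node (.leaf 62) (.leaf 0)) (.node (.leaf 0) (.leaf 0))) (.node (.node (.leaf 0) (.leaf 0)) (.leaf 0)))) (.node (.node (.node (.node (.leaf 0) (.leaf 0)) (.node (.leaf 371) (.leaf 0))) (.node (.node (.leaf 303) (.leaf 0)) (.leaf 0))) (.node (.node (.node (.leaf 244) (.leaf 0)) (.node (.leaf 0) (.leaf 0))) (.node (.node (.leaf 0) (.leaf 0)) (.leaf 0))))) (.node (.node (.node (.node (.node (.leaf 0) (.leaf 0)) (.node (.leaf 0) (.leaf 0))) (.node (.node (.leaf 0) (.leaf 0)) (.leaf 0))) (.node (.node (.node (.leaf 179) (.leaf 0)) (.node (.leaf 289) (.leaf 0))) (.node (.node (.leaf 335) (.leaf 0)) (.leaf 0))))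 (.node (.node (.node (.node (.leaf 0) (.leaf 0)) (.node (.leaf 0) (.leaf 0))) (.node (.node (.leaf 0) (.leaf 0)) (.leaf 0))) (.node (.node (.node (.leaf 0) (.leaf 0)) (.leaf 625)) (.node (.node (.leaf 403) (.leaf 0)) (.leaf 532)))))))

/-- Part of `posT`. -/
def posT_p1011 : Tr := .node (.node (.node (.node (.node (.node (.node (.node (.leaf 0) (.leaf 0)) (.node (.leaf 0) (.leaf 536))) (.node (.node (.leaf 0) (.leaf 0)) (.leaf 483))) (.node (.node (.node (.leaf 115) (.leaf 0)) (.node (.leaf 0) (.leaf 0))) (.node (.node (.leaf 278) (.leaf 0)) (.leaf 0)))) (.node (.node (.node (.node (.leaf 0) (.leaf 0)) (.node (.leaf 510) (.leaf 0))) (.node (.node (.leaf 0) (.leaf 0)) (.leaf 0))) (.node (.node (.node (.leaf 0) (.leaf 0)) (.node (.leaf 272) (.leaf 0))) (.node (.node (.leaf 0) (.leaf 0)) (.leaf 0))))) (.node (.node (.node (.node (.node (.leaf 0) (.leaf 258)) (.node (.leaf 0) (.leaf 0))) (.node (.node (.leaf 0) (.leaf 684)) (.leaf 0))) (.node (.node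 (.node (.leaf 0) (.leaf 526)) (.node (.leaf 578) (.leaf 0))) (.node (.node (.leaf 379) (.leaf 0)) (.leaf 0)))) (.node (.node (.node (.node (.leaf 0) (.leaf 0)) (.node (.leaf 496) (.leaf 0))) (.node (.node (.leaf 309) (.leaf 0)) (.leaf 0))) (.node (.node (.node (.leaf 0) (.leaf 0)) (.leaf 0)) (.node (.node (.leaf 0) (.leaf 0)) (.leaf 516)))))) (.node (.node (.node (.node (.node (.node (.leaf 15) (.leaf 0)) (.node (.leaf 0) (.leaf 0))) (.node (.node (.leaf 180) (.leaf 0)) (.leaf 367))) (.node (.node (.node (.leaf 0) (.leaf 0)) (.node (.leaf 0) (.leaf 0))) (.node (.node (.leaf 0) (.leaf 0)) (.leaf 0)))) (.node (.node (.node (.node (.leaf 110) (.leaf 0)) (.node (.leaf 0) (.leaf 0))) (.node (.node (.leaf 284) (.leaf 0)) (.leaf 543))) (.node (.node (.node (.leaf 141) (.leaf 0)) (.node (.leaf 0) (.leaf 0))) (.node (.node (.leaf 0) (.leaf 0)) (.leaf 0))))) (.node (.node (.node (.node (.node (.leaf 0) (.leaf 0)) (.node (.leaf 131) (.leaf 0))) (.node (.node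 (.leaf 227) (.leaf 0)) (.leaf 0))) (.node (.node (.node (.leaf 0) (.leaf 0)) (.node (.leaf 0) (.leaf 0))) (.node (.node (.leaf 0) (.leaf 0)) (.leaf 0)))) (.node (.node (.node (.node (.leaf 0) (.leaf 0)) (.node (.leaf 0) (.leaf 0))) (.node (.node (.leaf 0) (.leaf 0)) (.leaf 0))) (.node (.node (.node (.leaf 0) (.leaf 0)) (.leaf 0)) (.node (.node (.leaf 0) (.leaf 0)) (.leaf 0))))))) (.node (.node (.node (.node (.node (.node (.node (.leaf 8) (.leaf 0)) (.node (.leaf 0) (.leaf 0))) (.node (.node (.leaf 206) (.leaf 0)) (.leaf 652))) (.node (.node (.node (.leaf 0) (.leaf 0)) (.node (.leaf 0) (.leaf 0))) (.node (.node (.leaf 0) (.leaf 0)) (.leaf 0)))) (.node (.node (.node (.node (.leaf 130) (.leaf 0)) (.node (.leaf 0) (.leaf 0))) (.node (.node (.leaf 0) (.leaf 0)) (.leaf 0))) (.node (.node (.node (.leaf 0) (.leaf 0)) (.node (.leaf 577) (.leaf 0))) (.node (.node (.leaf 0) (.leaf 0)) (.leaf 0))))) (.node (.node (.node (.node (.node (.leaf 49) (.leaf 544))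 (.node (.leaf 0) (.leaf 0))) (.node (.node (.leaf 225) (.leaf 0)) (.leaf 0))) (.node (.node (.node (.leaf 186) (.leaf 0)) (.node (.leaf 553) (.leaf 0))) (.node (.node (.leaf 0) (.leaf 0)) (.leaf 0)))) (.node (.node (.node (.node (.leaf 0) (.leaf 0)) (.node (.leaf 0) (.leaf 0))) (.node (.node (.leaf 0) (.leaf 0)) (.leaf 0))) (.node (.node (.node (.leaf 158) (.leaf 0)) (.leaf 0)) (.node (.node (.leaf 438) (.leaf 0)) (.leaf 0)))))) (.node (.node (.node (.node (.node (.node (.leaf 0) (.leaf 0)) (.node (.leaf 0) (.leaf 0))) (.node (.node (.leaf 0) (.leaf 0)) (.leaf 0))) (.node (.node (.node (.leaf 0) (.leaf 0)) (.node (.leaf 0) (.leaf 0))) (.node (.node (.leaf 369) (.leaf 528)) (.leaf 599)))) (.node (.node (.node (.node (.leaf 0) (.leaf 0)) (.node (.leaf 233) (.leaf 0))) (.node (.node (.leaf 0) (.leaf 0)) (.leaf 0))) (.node (.node (.node (.leaf 254) (.leaf 0)) (.leaf 575)) (.node (.node (.leaf 0) (.leaf 0)) (.leaf 0))))) (.node (.node (.node (.node (.node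 (.leaf 92) (.leaf 0)) (.node (.leaf 0) (.leaf 0))) (.node (.node (.leaf 664) (.leaf 0)) (.leaf 0))) (.node (.node (.node (.leaf 184) (.leaf 620)) (.node (.leaf 0) (.leaf 0))) (.node (.node (.leaf 0) (.leaf 0)) (.leaf 0)))) (.node (.node (.node (.node (.leaf 0) (.leaf 0)) (.node (.leaf 0) (.leaf 0))) (.node (.node (.leaf 0) (.leaf 0)) (.leaf 583))) (.node (.node (.node (.leaf 0) (.leaf 0)) (.leaf 0)) (.node (.node (.leaf 0) (.leaf 0)) (.leaf 0)))))))

/-- Part of `posT`. -/
def posT_p1100 : Tr := .node (.node (.node (.node (.node (.node (.node (.node (.leaf 0) (.leaf 0)) (.node (.leaf 0) (.leaf 0))) (.node (.node (.leaf 0) (.leaf 0)) (.leaf 622))) (.node (.node (.node (.leaf 0) (.leaf 0)) (.node (.leaf 0) (.leaf 0))) (.node (.node (.leaf 0) (.leaf 0)) (.leaf 0)))) (.node (.node (.node (.node (.leaf 0) (.leaf 598)) (.node (.leaf 0) (.leaf 0))) (.node (.node (.leaf 0) (.leaf 535)) (.leaf 627))) (.node (.node (.node (.leaf 0) (.leaf 0)) (.node (.leaf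 311) (.leaf 0))) (.node (.node (.leaf 0) (.leaf 0)) (.leaf 0))))) (.node (.node (.node (.node (.node (.leaf 28) (.leaf 0)) (.node (.leaf 0) (.leaf 0))) (.node (.node (.leaf 0) (.leaf 453)) (.leaf 387))) (.node (.node (.node (.leaf 0) (.leaf 0)) (.node (.leaf 550) (.leaf 0))) (.node (.node (.leaf 375) (.leaf 0)) (.leaf 0)))) (.node (.node (.node (.node (.leaf 0) (.leaf 595)) (.node (.leaf 197) (.leaf 0))) (.node (.node (.leaf 0) (.leaf 666)) (.leaf 0))) (.node (.node (.node (.leaf 0) (.leaf 616)) (.leaf 0)) (.node (.node (.leaf 0) (.leaf 0)) (.leaf 631)))))) (.node (.node (.node (.node (.node (.node (.leaf 0) (.leaf 0)) (.node (.leaf 415) (.leaf 0))) (.node (.node (.leaf 204) (.leaf 0)) (.leaf 0))) (.node (.node (.node (.leaf 56) (.leaf 0)) (.node (.leaf 0) (.leaf 0))) (.node (.node (.leaf 0) (.leaf 0)) (.leaf 561)))) (.node (.node (.node (.node (.leaf 0) (.leaf 0)) (.node (.leaf 0) (.leaf 0))) (.node (.node (.leaf 0) (.leaf 0)) (.leaf 0))) (.node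 (.node (.node (.leaf 0) (.leaf 0)) (.node (.leaf 265) (.leaf 0))) (.node (.node (.leaf 0) (.leaf 0)) (.leaf 0))))) (.node (.node (.node (.node (.node (.leaf 0) (.leaf 0)) (.node (.leaf 0) (.leaf 0))) (.node (.node (.leaf 0) (.leaf 0)) (.leaf 487))) (.node (.node (.node (.leaf 0) (.leaf 0)) (.node (.leaf 0) (.leaf 0))) (.node (.node (.leaf 0) (.leaf 0)) (.leaf 0)))) (.node (.node (.node (.node (.leaf 0) (.leaf 0)) (.node (.leaf 473) (.leaf 0))) (.node (.node (.leaf 0) (.leaf 0)) (.leaf 559))) (.node (.node (.node (.leaf 0) (.leaf 0)) (.leaf 0)) (.node (.node (.leaf 419) (.leaf 0)) (.leaf 0))))))) (.node (.node (.node (.node (.node (.node (.node (.leaf 0) (.leaf 0)) (.node (.leaf 0) (.leaf 0))) (.node (.node (.leaf 0) (.leaf 0)) (.leaf 0))) (.node (.node (.node (.leaf 236) (.leaf 0)) (.node (.leaf 0) (.leaf 0))) (.node (.node (.leaf 0) (.leaf 0)) (.leaf 0)))) (.node (.node (.node (.node (.leaf 0) (.leaf 0)) (.node (.leaf 0) (.leaf 0))) (.node (.node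 (.leaf 0) (.leaf 0)) (.leaf 0))) (.node (.node (.node (.leaf 0) (.leaf 0)) (.node (.leaf 0) (.leaf 0))) (.node (.node (.leaf 0) (.leaf 0)) (.leaf 479))))) (.node (.node (.node (.node (.node (.leaf 0) (.leaf 0)) (.node (.leaf 0) (.leaf 0))) (.node (.node (.leaf 0) (.leaf 0)) (.leaf 0))) (.node (.node (.node (.leaf 86) (.leaf 0)) (.node (.leaf 0) (.leaf 0))) (.node (.node (.leaf 329) (.leaf 0)) (.leaf 0)))) (.node (.node (.node (.node (.leaf 0) (.leaf 0)) (.node (.leaf 0) (.leaf 660))) (.node (.node (.leaf 0) (.leaf 0)) (.leaf 0))) (.node (.node (.node (.leaf 0) (.leaf 0)) (.leaf 0)) (.node (.node (.leaf 0) (.leaf 0)) (.leaf 0)))))) (.node (.node (.node (.node (.node (.node (.leaf 0) (.leaf 0)) (.node (.leaf 0) (.leaf 0))) (.node (.node (.leaf 321) (.leaf 0)) (.leaf 481))) (.node (.node (.node (.leaf 0) (.leaf 0)) (.node (.leaf 0) (.leaf 0))) (.node (.node (.leaf 0) (.leaf 0)) (.leaf 0)))) (.node (.node (.node (.node (.leaf 0) (.leaf 0)) (.node (.leaf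 327) (.leaf 0))) (.node (.node (.leaf 293) (.leaf 0)) (.leaf 593))) (.node (.node (.node (.leaf 243) (.leaf 0)) (.node (.leaf 0) (.leaf 0))) (.node (.node (.leaf 0) (.leaf 0)) (.leaf 0))))) (.node (.node (.node (.node (.node (.leaf 0) (.leaf 0)) (.node (.leaf 0) (.leaf 0))) (.node (.node (.leaf 0) (.leaf 0)) (.leaf 0))) (.node (.node (.node (.leaf 97) (.leaf 0)) (.node (.leaf 263) (.leaf 0))) (.node (.node (.leaf 360) (.leaf 0)) (.leaf 0)))) (.node (.node (.node (.node (.leaf 35) (.leaf 609)) (.node (.leaf 0) (.leaf 0))) (.node (.node (.leaf 0) (.leaf 0)) (.leaf 441))) (.node (.node (.node (.leaf 0) (.leaf 0)) (.leaf 0)) (.node (.node (.leaf 0) (.leaf 0)) (.leaf 0)))))))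

/-- Part of `posT`. -/
def posT_p1101 : Tr := .node (.node (.node (.node (.node (.node (.node (.node (.leaf 0) (.leaf 486)) (.node (.leaf 421) (.leaf 0))) (.node (.node (.leaf 0) (.leaf 0)) (.leaf 0))) (.node (.node (.node (.leaf 51) (.leaf 0)) (.node (.leaf 0) (.leaf 0))) (.node (.node (.leaf 0) (.leaf 0)) (.leaf 0)))) (.node (.node (.node (.node (.leaf 0) (.leaf 0)) (.node (.leaf 0) (.leaf 0))) (.node (.node (.leaf 0) (.leaf 0)) (.leaf 0))) (.node (.node (.node (.leaf 395) (.leaf 0)) (.node (.leaf 0) (.leaf 0))) (.node (.node (.leaf 0) (.leaf 0)) (.leaf 0))))) (.node (.node (.node (.node (.node (.leaf 0) (.leaf 0)) (.node (.leaf 0) (.leaf 0))) (.node (.node (.leaf 0) (.leaf 0)) (.leaf 0))) (.node (.node (.node (.leaf 0) (.leaf 467)) (.node (.leaf 0) (.leaf 0))) (.node (.node (.leaf 342) (.leaf 0)) (.leaf 0)))) (.node (.node (.node (.node (.leaf 0) (.leaf 0)) (.node (.leaf 356) (.leaf 0))) (.node (.node (.leaf 308) (.leaf 0)) (.leaf 0))) (.node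 (.node (.node (.leaf 0) (.leaf 0)) (.leaf 0)) (.node (.node (.leaf 0) (.leaf 0)) (.leaf 475)))))) (.node (.node (.node (.node (.node (.node (.leaf 13) (.leaf 0)) (.node (.leaf 0) (.leaf 0))) (.node (.node (.leaf 324) (.leaf 0)) (.leaf 476))) (.node (.node (.node (.leaf 122) (.leaf 0)) (.node (.leaf 0) (.leaf 0))) (.node (.node (.leaf 0) (.leaf 0)) (.leaf 0)))) (.node (.node (.node (.node (.leaf 41) (.leaf 0)) (.node (.leaf 0) (.leaf 0))) (.node (.node (.leaf 271) (.leaf 0)) (.leaf 400))) (.node (.node (.node (.leaf 132) (.leaf 0)) (.node (.leaf 555) (.leaf 0))) (.node (.node (.leaf 213) (.leaf 0)) (.leaf 0))))) (.node (.node (.node (.node (.node (.leaf 0) (.leaf 0)) (.node (.leaf 0) (.leaf 0))) (.node (.node (.leaf 230) (.leaf 0)) (.leaf 0))) (.node (.node (.node (.leaf 0) (.leaf 0)) (.node (.leaf 0) (.leaf 0))) (.node (.node (.leaf 351) (.leaf 0)) (.leaf 0)))) (.node (.node (.node (.node (.leaf 36) (.leaf 0)) (.node (.leaf 0) (.leaf 0))) (.node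 (.node (.leaf 0) (.leaf 0)) (.leaf 0))) (.node (.node (.node (.leaf 0) (.leaf 0)) (.leaf 0)) (.node (.node (.leaf 447) (.leaf 0)) (.leaf 0))))))) (.node (.node (.node (.node (.node (.node (.node (.leaf 6) (.leaf 0)) (.node (.leaf 404) (.leaf 0))) (.node (.node (.leaf 205) (.leaf 0)) (.leaf 630))) (.node (.node (.node (.leaf 0) (.leaf 0)) (.node (.leaf 0) (.leaf 0))) (.node (.node (.leaf 0) (.leaf 0)) (.leaf 0)))) (.node (.node (.node (.node (.leaf 127) (.leaf 0)) (.node (.leaf 500) (.leaf 0))) (.node (.node (.leaf 0) (.leaf 0)) (.leaf 0))) (.node (.node (.node (.leaf 0) (.leaf 0)) (.node (.leaf 572) (.leaf 0))) (.node (.node (.leaf 0) (.leaf 0)) (.leaf 0))))) (.node (.node (.node (.node (.node (.leaf 42) (.leaf 451)) (.node (.leaf 0) (.leaf 667))) (.node (.node (.leaf 224) (.leaf 0)) (.leaf 0))) (.node (.node (.node (.leaf 313) (.leaf 0)) (.node (.leaf 0) (.leaf 0))) (.node (.node (.leaf 318) (.leaf 0)) (.leaf 0)))) (.node (.node (.node (.node (.leaf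 80) (.leaf 0)) (.node (.leaf 0) (.leaf 0))) (.node (.node (.leaf 0) (.leaf 0)) (.leaf 0))) (.node (.node (.node (.leaf 156) (.leaf 0)) (.leaf 0)) (.node (.node (.leaf 0) (.leaf 0)) (.leaf 643)))))) (.node (.node (.node (.node (.node (.node (.leaf 107) (.leaf 0)) (.node (.leaf 0) (.leaf 0))) (.node (.node (.leaf 228) (.leaf 0)) (.leaf 0))) (.node (.node (.node (.leaf 0) (.leaf 0)) (.node (.leaf 0) (.leaf 0))) (.node (.node (.leaf 366) (.leaf 0)) (.leaf 0)))) (.node (.node (.node (.node (.leaf 48) (.leaf 0)) (.node (.leaf 382) (.leaf 0))) (.node (.node (.leaf 153) (.leaf 0)) (.leaf 0))) (.node (.node (.node (.leaf 245) (.leaf 0)) (.leaf 556)) (.node (.node (.leaf 0) (.leaf 0)) (.leaf 0))))) (.node (.node (.node (.node (.node (.leaf 82) (.leaf 0)) (.node (.leaf 0) (.leaf 0))) (.node (.node (.leaf 0) (.leaf 537)) (.leaf 0))) (.node (.node (.node (.leaf 103) (.leaf 638)) (.node (.leaf 312) (.leaf 0))) (.node (.node (.leaf 0) (.leaf 645)) (.leaf 626))))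 (.node (.node (.node (.node (.leaf 0) (.leaf 0)) (.node (.leaf 0) (.leaf 0))) (.node (.node (.leaf 298) (.leaf 0)) (.leaf 565))) (.node (.node (.node (.leaf 0) (.leaf 0)) (.leaf 0)) (.node (.node (.leaf 288) (.leaf 0)) (.leaf 0)))))))

/-- Part of `posT`. -/
def posT_p1110 : Tr := .node (.node (.node (.node (.node (.node (.node (.node (.leaf 0) (.leaf 0)) (.node (.leaf 0) (.leaf 0))) (.node (.node (.leaf 0) (.leaf 0)) (.leaf 628))) (.node (.node (.node (.leaf 0) (.leaf 0)) (.node (.leaf 0) (.leaf 0))) (.node (.node (.leaf 135) (.leaf 0)) (.leaf 0)))) (.node (.node (.node (.node (.leaf 0) (.leaf 0)) (.node (.leaf 0) (.leaf 0))) (.node (.node (.leaf 0) (.leaf 0)) (.leaf 0))) (.node (.node (.node (.leaf 100) (.leaf 0)) (.node (.leaf 0) (.leaf 0))) (.node (.node (.leaf 0) (.leaf 0)) (.leaf 0))))) (.node (.node (.node (.node (.node (.leaf 0) (.leaf 0)) (.node (.leaf 0) (.leaf 0))) (.node (.node (.leaf 0) (.leaf 0)) (.leaf 0))) (.node (.node (.node (.leaf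 0) (.leaf 0)) (.node (.leaf 446) (.leaf 668))) (.node (.node (.leaf 349) (.leaf 0)) (.leaf 0)))) (.node (.node (.node (.node (.leaf 0) (.leaf 0)) (.node (.leaf 0) (.leaf 618))) (.node (.node (.leaf 0) (.leaf 0)) (.leaf 0))) (.node (.node (.node (.leaf 0) (.leaf 0)) (.leaf 0)) (.node (.node (.leaf 0) (.leaf 0)) (.leaf 0)))))) (.node (.node (.node (.node (.node (.node (.leaf 0) (.leaf 0)) (.node (.leaf 0) (.leaf 0))) (.node (.node (.leaf 322) (.leaf 0)) (.leaf 0))) (.node (.node (.node (.leaf 121) (.leaf 0)) (.node (.leaf 0) (.leaf 0))) (.node (.node (.leaf 0) (.leaf 461)) (.leaf 0)))) (.node (.node (.node (.node (.leaf 0) (.leaf 0)) (.node (.leaf 347) (.leaf 0))) (.node (.node (.leaf 269) (.leaf 0)) (.leaf 0))) (.node (.node (.node (.leaf 0) (.leaf 0)) (.node (.leaf 0) (.leaf 0))) (.node (.node (.leaf 216) (.leaf 0)) (.leaf 0))))) (.node (.node (.node (.node (.node (.leaf 0) (.leaf 0)) (.node (.leaf 148) (.leaf 0))) (.node (.node (.leaf 0) (.leaf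 0)) (.leaf 0))) (.node (.node (.node (.leaf 0) (.leaf 0)) (.node (.leaf 0) (.leaf 0))) (.node (.node (.leaf 0) (.leaf 0)) (.leaf 0)))) (.node (.node (.node (.node (.leaf 33) (.leaf 0)) (.node (.leaf 0) (.leaf 0))) (.node (.node (.leaf 0) (.leaf 0)) (.leaf 0))) (.node (.node (.node (.leaf 241) (.leaf 0)) (.leaf 0)) (.node (.node (.leaf 434) (.leaf 0)) (.leaf 0))))))) (.node (.node (.node (.node (.node (.node (.node (.leaf 0) (.leaf 0)) (.node (.leaf 0) (.leaf 0))) (.node (.node (.leaf 0) (.leaf 0)) (.leaf 0))) (.node (.node (.node (.leaf 0) (.leaf 0)) (.node (.leaf 0) (.leaf 0))) (.node (.node (.leaf 0) (.leaf 0)) (.leaf 0)))) (.node (.node (.node (.node (.leaf 0) (.leaf 0)) (.node (.leaf 0) (.leaf 0))) (.node (.node (.leaf 0) (.leaf 0)) (.leaf 0))) (.node (.node (.node (.leaf 0) (.leaf 0)) (.node (.leaf 0) (.leaf 0))) (.node (.node (.leaf 0) (.leaf 0)) (.leaf 624))))) (.node (.node (.node (.node (.node (.leaf 0) (.leaf 0)) (.node (.leaf 0) (.leaf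 0))) (.node (.node (.leaf 0) (.leaf 0)) (.leaf 0))) (.node (.node (.node (.leaf 173) (.leaf 0)) (.node (.leaf 0) (.leaf 0))) (.node (.node (.leaf 0) (.leaf 0)) (.leaf 0)))) (.node (.node (.node (.node (.leaf 70) (.leaf 0)) (.node (.leaf 190) (.leaf 0))) (.node (.node (.leaf 0) (.leaf 0)) (.leaf 0))) (.node (.node (.node (.leaf 0) (.leaf 0)) (.leaf 0)) (.node (.node (.leaf 0) (.leaf 0)) (.leaf 0)))))) (.node (.node (.node (.node (.node (.node (.leaf 0) (.leaf 0)) (.node (.leaf 0) (.leaf 0))) (.node (.node (.leaf 330) (.leaf 0)) (.leaf 0))) (.node (.node (.node (.leaf 331) (.leaf 0)) (.node (.leaf 0) (.leaf 0))) (.node (.node (.leaf 0) (.leaf 0)) (.leaf 0)))) (.node (.node (.node (.node (.leaf 17) (.leaf 0)) (.node (.leaf 316) (.leaf 0))) (.node (.node (.leaf 0) (.leaf 0)) (.leaf 0))) (.node (.node (.node (.leaf 246) (.leaf 0)) (.leaf 0)) (.node (.node (.leaf 0) (.leaf 0)) (.leaf 0))))) (.node (.node (.node (.node (.node (.leaf 0) (.leaf 0)) (.node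 (.leaf 0) (.leaf 0))) (.node (.node (.leaf 0) (.leaf 0)) (.leaf 0))) (.node (.node (.node (.leaf 181) (.leaf 0)) (.node (.leaf 0) (.leaf 0))) (.node (.node (.leaf 385) (.leaf 0)) (.leaf 0)))) (.node (.node (.node (.node (.leaf 259) (.leaf 686)) (.node (.leaf 0) (.leaf 0))) (.node (.node (.leaf 0) (.leaf 0)) (.leaf 0))) (.node (.node (.node (.leaf 0) (.leaf 639)) (.leaf 0)) (.node (.node (.leaf 401) (.leaf 0)) (.leaf 533)))))))

/-- Part of `posT`. -/
def posT_p1111 : Tr := .node (.node (.node (.node (.node (.node (.node (.node (.leaf 0) (.leaf 0)) (.node (.leaf 0) (.leaf 541))) (.node (.node (.leaf 0) (.leaf 0)) (.leaf 653))) (.node (.node (.node (.leaf 116) (.leaf 0)) (.node (.leaf 0) (.leaf 0))) (.node (.node (.leaf 0) (.leaf 0)) (.leaf 457)))) (.node (.node (.node (.node (.leaf 0) (.leaf 0)) (.node (.leaf 0) (.leaf 0))) (.node (.node (.leaf 0) (.leaf 0)) (.leaf 0))) (.node (.node (.node (.leaf 0) (.leaf 0)) (.node (.leaf 582) (.leaf 0))) (.node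 (.node (.leaf 0) (.leaf 0)) (.leaf 0))))) (.node (.node (.node (.node (.node (.leaf 0) (.leaf 0)) (.node (.leaf 0) (.leaf 0))) (.node (.node (.leaf 0) (.leaf 0)) (.leaf 484))) (.node (.node (.node (.leaf 87) (.leaf 0)) (.node (.leaf 0) (.leaf 0))) (.node (.node (.leaf 209) (.leaf 0)) (.leaf 0)))) (.node (.node (.node (.node (.leaf 0) (.leaf 566)) (.node (.leaf 0) (.leaf 0))) (.node (.node (.leaf 310) (.leaf 0)) (.leaf 569))) (.node (.node (.node (.leaf 0) (.leaf 0)) (.leaf 0)) (.node (.node (.leaf 0) (.leaf 0)) (.leaf 498)))))) (.node (.node (.node (.node (.node (.node (.leaf 18) (.leaf 0)) (.node (.leaf 455) (.leaf 0))) (.node (.node (.leaf 222) (.leaf 0)) (.leaf 0))) (.node (.node (.node (.leaf 0) (.leaf 0)) (.node (.leaf 0) (.leaf 0))) (.node (.node (.leaf 0) (.leaf 0)) (.leaf 0)))) (.node (.node (.node (.node (.leaf 0) (.leaf 0)) (.node (.leaf 336) (.leaf 0))) (.node (.node (.leaf 294) (.leaf 0)) (.leaf 0))) (.node (.node (.node (.leaf 133)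 (.leaf 0)) (.node (.leaf 0) (.leaf 0))) (.node (.node (.leaf 0) (.leaf 0)) (.leaf 0))))) (.node (.node (.node (.node (.node (.leaf 0) (.leaf 0)) (.node (.leaf 0) (.leaf 0))) (.node (.node (.leaf 0) (.leaf 0)) (.leaf 629))) (.node (.node (.node (.leaf 0) (.leaf 0)) (.node (.leaf 0) (.leaf 0))) (.node (.node (.leaf 0) (.leaf 0)) (.leaf 0)))) (.node (.node (.node (.node (.leaf 0) (.leaf 0)) (.node (.leaf 488) (.leaf 0))) (.node (.node (.leaf 0) (.leaf 0)) (.leaf 557))) (.node (.node (.node (.leaf 0) (.leaf 0)) (.leaf 0)) (.node (.node (.leaf 0) (.leaf 0)) (.leaf 0))))))) (.node (.node (.node (.node (.node (.node (.node (.leaf 0) (.leaf 0)) (.node (.leaf 0) (.leaf 597))) (.node (.node (.leaf 202) (.leaf 0)) (.leaf 0))) (.node (.node (.node (.leaf 0) (.leaf 0)) (.node (.leaf 0) (.leaf 0))) (.node (.node (.leaf 0) (.leaf 0)) (.leaf 0)))) (.node (.node (.node (.node (.leaf 0) (.leaf 0)) (.node (.leaf 0) (.leaf 0))) (.node (.node (.leaf 0) (.leaf 0)) (.leaf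 0))) (.node (.node (.node (.leaf 0) (.leaf 0)) (.node (.leaf 0) (.leaf 0))) (.node (.node (.leaf 0) (.leaf 0)) (.leaf 0))))) (.node (.node (.node (.node (.node (.leaf 54) (.leaf 0)) (.node (.leaf 0) (.leaf 0))) (.node (.node (.leaf 0) (.leaf 0)) (.leaf 0))) (.node (.node (.node (.leaf 187) (.leaf 0)) (.node (.leaf 580) (.leaf 0))) (.node (.node (.leaf 198) (.leaf 0)) (.leaf 0)))) (.node (.node (.node (.node (.leaf 0) (.leaf 0)) (.node (.leaf 0) (.leaf 0))) (.node (.node (.leaf 0) (.leaf 0)) (.leaf 0))) (.node (.node (.node (.leaf 118) (.leaf 0)) (.leaf 0)) (.node (.node (.leaf 431) (.leaf 0)) (.leaf 0)))))) (.node (.node (.node (.node (.node (.node (.leaf 22) (.leaf 0)) (.node (.leaf 0) (.leaf 0))) (.node (.node (.leaf 0) (.leaf 0)) (.leaf 0))) (.node (.node (.node (.leaf 0) (.leaf 0)) (.node (.leaf 0) (.leaf 0))) (.node (.node (.leaf 350) (.leaf 0)) (.leaf 0)))) (.node (.node (.node (.node (.leaf 0) (.leaf 0)) (.node (.leaf 0) (.leaf 0))) (.node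 (.node (.leaf 301) (.leaf 0)) (.leaf 552))) (.node (.node (.node (.leaf 163) (.leaf 0)) (.leaf 0)) (.node (.node (.leaf 0) (.leaf 0)) (.leaf 0))))) (.node (.node (.node (.node (.node (.leaf 0) (.leaf 539)) (.node (.leaf 0) (.leaf 0))) (.node (.node (.leaf 0) (.leaf 574)) (.leaf 0))) (.node (.node (.node (.leaf 0) (.leaf 524)) (.node (.leaf 0) (.leaf 0))) (.node (.node (.leaf 0) (.leaf 0)) (.leaf 0)))) (.node (.node (.node (.node (.leaf 0) (.leaf 0)) (.node (.leaf 0) (.leaf 0))) (.node (.node (.leaf 149) (.leaf 0)) (.leaf 0))) (.node (.node (.node (.leaf 0) (.leaf 0)) (.leaf 0)) (.node (.node (.leaf 433) (.leaf 0)) (.leaf 0)))))))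

/-- The position of each point. -/
def posT : Tr := .node (.node (.node (.node (posT_p0000) (posT_p0001)) (.node (posT_p0010) (posT_p0011))) (.node (.node (posT_p0100) (posT_p0101)) (.node (posT_p0110) (posT_p0111)))) (.node (.node (.node (posT_p1000) (posT_p1001)) (.node (posT_p1010) (posT_p1011))) (.node (.node (posT_p1100) (posT_p1101)) (.node (posT_p1110) (posT_p1111))))

/-- Words of eight transpositions commuting with the first generator. -/
def gWords : List (List ℕ) := [[2], [3], [4], [5], [6], [7], [8], [1, 2, 3, 7, 4, 3, 2, 1, 0, 1, 2, 3, 4, 7, 3, 2, 1]]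

/-- Their vectors. -/
def gVecs : List ℕ := [1280, 304, 245, 2654, 1525, 1473, 1520, 2777]

/-- An even word in the transpositions a power of which is the first generator. -/
def sqWord : List ℕ := [4, 5, 0, 7, 3, 0, 2, 1, 5, 7, 3, 6, 1, 3, 0, 3, 6, 4, 2, 6, 2, 1]

/-- The power. -/
def sqExp : ℕ := 7

/-- The transposition not commuting with the last one. -/
def linkIdx : ℕ := 3

end CfsgLib.Presented.Fi22Unitary
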