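import Cfsg.Agent.Lib.Presented.Fi22Unitary.Cert
import Cfsg.Agent.Lib.Presented.Fi22Simple
import Cfsg.Agent.Lib.Sporadic.ProjectiveModel

/-!
The stabiliser of a point in the presented Fischer group acts on the 693 other points fixed by the
first generator; the transpositions among them act as the transvections of `PSU₆(2)`.
-/
set_option autoImplicit false
set_option linter.unusedSectionVars false
set_option linter.unusedVariables false

namespace CfsgLib.Presented.Fi22Unitary

open Fi22UCosets (ev ev_one ev_inv phi phi_ev rep_valid H H_fix)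
open Fi22UCert (rep)
open CfsgLib.Sporadic (Induces nonempty_mulEquiv_PSU of_allFrom_zero allFrom)
open CfsgLib.ThreeTrans.USix CfsgLib.ClassicalGroups

/-- The base point. -/
abbrev base : Fin rep.N := ⟨0, VCert.pos Fi22UCert.cert_ok⟩

theorem mem_H_of_fix {g : Cfsg.Spor.Fi22} (h : phi g base = base) : g ∈ H := by
  have h0 : Fi22UCosets.equiv _ = base := Fi22UCosets.exists_equiv.choose_spec.2
  rw [← h0, ← Fi22UCosets.equiv_smul] at h
  exact mem_of_fix (Fi22UCosets.equiv.injective h)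

theorem phi_word (u : List ℕ) (hu : ∀ y ∈ u, y < rep.A.eps) :
    phi (evW ev u) = evW (rep.perm rep_valid) u := by
  simp only [evW, map_list_prod, List.map_map]
  rw [List.map_congr_left (f := ⇑phi ∘ ev) (g := rep.perm rep_valid) fun y hy => phi_ev y (hu y hy)]

theorem eq_one_of_relsOK {u : List ℕ} (hu : ∀ y ∈ u, y < rep.A.eps) (h : rep.relsOK [u] = true) :
    evW ev u = 1 := by
  apply Fi22Order.phi_injective
  rw [phi_word u hu, map_one]
  exact Rep.evW_eq_one rep_valid h (by simp)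

/-- The first generator. -/
noncomputable abbrev d0 : Cfsg.Spor.Fi22 := ev 0

theorem d0_eq : evW ev [0] = d0 := by simp

theorem d0_sq : d0 * d0 = 1 := by
  have h := eq_one_of_relsOK (u := [0, 0]) (by decide +kernel) (by decide +kernel)
  simpa using h

theorem d0_mem : d0 ∈ H := mem_H_of_fix (by
  have hb : (Vec.applyNet (rep.netW [0]) 1).testBit 0 = true := by decide +kernel
  rw [← d0_eq, phi_word [0] (by decide +kernel)]
  apply Fin.ext
  rw [Rep.netW_perm rep_valid]
  rw [Vec.testBit_applyNet (Rep.netOk_netW rep_valid [0])] at hb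
  exact VCert.one_bit hb)

theorem d0_comm {g : Cfsg.Spor.Fi22} (hg : g ∈ H) : g * d0 = d0 * g := by
  rw [Fi22UCosets.H_eq] at hg
  induction hg using Subgroup.closure_induction with
  | mem y hy =>
    obtain ⟨w, hw, rfl⟩ := hy
    have hall : (Fi22UCosets.hWords.all fun w => w.all (fun y => Nat.blt y rep.A.eps) &&
        rep.relsOK [w ++ [0] ++ invWord rep.A w ++ [0]]) = true := by decide +kernel
    have hgood : rep.A.Good ev := ⟨ev_one, fun x hx => by
      rcases Nat.eq_or_lt_of_le hx with h | h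
      · subst h
        have e : rep.A.invl rep.A.eps = rep.A.eps := by decide +kernel
        rw [e]
        exact (congrArg₂ (· * ·) ev_one ev_one).trans (one_mul 1)
      · exact ev_inv x h⟩
    simp only [List.all_eq_true, Bool.and_eq_true, Nat.blt_eq] at hall
    obtain ⟨hlt, hrel⟩ := hall w hw
    have hlt' : ∀ y ∈ w ++ [0] ++ invWord rep.A w ++ [0], y < rep.A.eps := by
      intro y hy
      have h := hrel
      simp only [Rep.relsOK, List.all_eq_true, Bool.and_eq_true, List.mem_singleton, forall_eq] at h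
      have := h.1 y hy
      rwa [Nat.blt_eq] at this
    have h1 := eq_one_of_relsOK hlt' hrel
    rw [evW_append, evW_append, evW_append, evW_invWord hgood (fun y hy => (hlt y hy).le), d0_eq] at h1
    have h2 : evW ev w * d0 * (evW ev w)⁻¹ = d0 :=
      (eq_inv_of_mul_eq_one_left h1).trans (inv_eq_of_mul_eq_one_left d0_sq)
    exact mul_inv_eq_iff_eq_mul.1 h2
  | one => simp
  | mul a b _ _ iha ihb => rw [mul_assoc, ihb, ← mul_assoc, iha, mul_assoc]
  | inv a _ ih => exact (Commute.inv_left (ih : Commute a d0)).eq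

/-- The other fixed points of the first generator. -/
abbrev Pts : Type := {i : Fin rep.N // phi d0 i = i ∧ i ≠ base}

theorem pts_invariant {g : Cfsg.Spor.Fi22} (hg : g ∈ H) (i : Fin rep.N)
    (hi : phi d0 i = i ∧ i ≠ base) : phi d0 (phi g i) = phi g i ∧ phi g i ≠ base := by
  refine ⟨?_, fun h => hi.2 ?_⟩
  · rw [← Equiv.Perm.mul_apply, ← map_mul, ← d0_comm hg, map_mul, Equiv.Perm.mul_apply, hi.1]
  · exact (phi g).injective (h.trans (H_fix g hg).symm)

theorem pts_iff {g : Cfsg.Spor.Fi22} (hg : g ∈ H) (i : Fin rep.N) :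
    (phi d0 (phi g i) = phi g i ∧ phi g i ≠ base) ↔ (phi d0 i = i ∧ i ≠ base) := by
  refine ⟨fun h => ?_, pts_invariant hg i⟩
  have := pts_invariant (H.inv_mem hg) _ h
  rwa [map_inv, show (phi g)⁻¹ (phi g i) = i from (phi g).symm_apply_apply i] at this

/-- The action of the stabiliser on these points. -/
noncomputable def res : H →* Equiv.Perm Pts where
  toFun g := (phi g.1).subtypePerm fun i => (pts_iff g.2 i)
  map_one' := Equiv.ext fun i => Subtype.ext (by simp)
  map_mul' a b := Equiv.ext fun i => Subtype.ext (congrArg (fun p : Equiv.Perm (Fin rep.N) => p i.1) (map_mul phi a.1 b.1))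

theorem res_apply (g : H) (i : Pts) : (res g i).1 = phi g.1 i.1 := rfl

theorem inA_iff {i : ℕ} (hi : i < rep.N) :
    inA i = true ↔ phi d0 ⟨i, hi⟩ = ⟨i, hi⟩ ∧ (⟨i, hi⟩ : Fin rep.N) ≠ base := by
  have hnet : rep.net 0 = rep.netW [0] := by simp [Rep.netW]
  have hphi : (phi d0 ⟨i, hi⟩ : ℕ) = Vec.netPerm (rep.netW [0]) i := by
    rw [← d0_eq, phi_word [0] (by decide +kernel), Rep.netW_perm rep_valid]
  simp only [inA, Bool.and_eq_true, Bool.not_eq_true', beq_eq_false_iff_ne, ne_eq, Fin.ext_iff]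
  refine and_congr_left fun _ => ⟨fun h => ?_, fun h => ?_⟩
  · rw [hphi]
    have e := congrArg (fun v => v.testBit i) (Nat.eq_of_beq_eq_true h)
    simp only [hnet, Vec.testBit_applyNet (Rep.netOk_netW rep_valid [0]), Nat.testBit_shiftLeft] at e
    simp only [Nat.sub_self, ge_iff_le, le_refl, decide_true, Bool.true_and] at e
    have e2 : (1 : ℕ).testBit (Vec.netPerm (rep.netW [0]) i - i) = true ∧
        i ≤ Vec.netPerm (rep.netW [0]) i := by
      have h1 : Nat.testBit 1 0 = true := by decide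
      rw [h1] at e
      simpa [and_comm] using e
    have := VCert.one_bit e2.1
    omega
  · rw [hphi] at h
    refine (?_ : Nat.beq _ _ = true)
    rw [Nat.beq_eq]
    refine Nat.eq_of_testBit_eq fun j => ?_
    rw [hnet, Vec.testBit_applyNet (Rep.netOk_netW rep_valid [0])]
    have hiff : Vec.netPerm (rep.netW [0]) j = i ↔ j = i := by
      constructor
      · intro e; exact (Vec.netPerm (rep.netW [0])).injective (e.trans h.symm)
      · rintro rfl; exact h
    simp only [Nat.one_shiftLeft, Nat.testBit_two_pow, decide_eq_decide]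
    exact ⟨fun e => (hiff.1 e.symm).symm, fun e => (hiff.2 e.symm).symm⟩

theorem mem_all_of_take_drop {α : Type*} {f : α → Bool} {k : ℕ} {l : List α}
    (h0 : (l.take k).all f = true) (h1 : (l.drop k).all f = true) (x : α) (hx : x ∈ l) : f x = true := by
  rw [← List.take_append_drop k l, List.mem_append] at hx
  rcases hx with h | h
  · exact List.all_eq_true.1 h0 x h
  · exact List.all_eq_true.1 h1 x h

section Model

variable {F : Type*} [Field F] [Fintype F] (hF : Fintype.card F = 2 ^ 2) {w : F}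
  (hw : 1 + w + w ^ 2 = 0)

/-- The vector of a point. -/
noncomputable def ptVec (w : F) (i : Pts) : Fin 6 → F := vec w (codeT.get i.1.1)

include hF hw

theorem point_spec (i : Pts) :
    codeT.get i.1.1 < 4096 ∧ codeT.get i.1.1 ≠ 0 ∧ isoOK (codeT.get i.1.1) = true ∧
      invT.get (codeT.get i.1.1) = i.1.1 ∧ invT.get (smulW (codeT.get i.1.1)) = i.1.1 ∧
      invT.get (smulW (smulW (codeT.get i.1.1))) = i.1.1 := by
  have hb := of_allFrom_zero points_ok (lt_of_lt_of_eq i.1.2 rfl : i.1.1 < 3510)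
  simp only [pointOK, (inA_iff i.1.2).2 i.2, Bool.not_true, Bool.false_or, Bool.and_eq_true,
    Nat.blt_eq, Bool.not_eq_true', beq_eq_false_iff_ne, beq_iff_eq] at hb
  exact ⟨hb.1.1.1.1.1, hb.1.1.1.1.2, hb.1.1.1.2, hb.1.1.2, hb.1.2, hb.2⟩

theorem vec_iso {v : ℕ} (h : isoOK v = true) : Cfsg.hermForm 6 F 2 (vec w v) (vec w v) = 0 := by
  simp only [isoOK, Bool.and_eq_true, Bool.not_eq_true'] at h
  simp [herm_vec hF hw, h.1, h.2, el]

theorem vec_ne_zero {v : ℕ} (h1 : v < 4096) (h0 : v ≠ 0) : vec w v ≠ 0 := fun e =>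
  h0 (vec_injective hF hw h1 (by norm_num) (e.trans (vec_zero hF hw).symm))

theorem ptVec_ne_zero (i : Pts) : ptVec w i ≠ 0 :=
  vec_ne_zero hF hw (point_spec hF hw i).1 (point_spec hF hw i).2.1

theorem smulW_lt {v : ℕ} (h : v < 4096) : smulW v < 4096 := by
  have h1 : (v >>> 1) &&& loMask < 2 ^ 12 := lt_of_le_of_lt Nat.and_le_right (by decide)
  have h2 : ((v &&& loMask) ^^^ ((v >>> 1) &&& loMask)) <<< 1 < 2 ^ 12 := by
    have ha : v &&& loMask < 2 ^ 11 := lt_of_le_of_lt Nat.and_le_right (by decide)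
    have hb : (v >>> 1) &&& loMask < 2 ^ 11 := lt_of_le_of_lt Nat.and_le_right (by decide)
    have := Nat.xor_lt_two_pow ha hb
    rw [Nat.shiftLeft_eq]
    omega
  exact Nat.xor_lt_two_pow h1 h2

theorem ptVec_eq_smul (i j : Pts) (c : F) (h : ptVec w i = c • ptVec w j) : i = j := by
  obtain ⟨hi, -, -, ei, -, -⟩ := point_spec hF hw i
  obtain ⟨hj, -, -, ej, ej1, ej2⟩ := point_spec hF hw j
  have hc : c ≠ 0 := fun e => ptVec_ne_zero hF hw i (by rw [h, e, zero_smul])
  apply Subtype.ext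
  apply Fin.ext
  rw [← ei]
  rcases scalar_cases hF hw hc with rfl | rfl | rfl
  · rw [vec_injective hF hw hi hj (by simpa [ptVec] using h), ej]
  · rw [vec_injective hF hw hi (smulW_lt hF hw hj) (by rw [vec_smulW hF hw]; exact h), ej1]
  · rw [vec_injective hF hw hi (smulW_lt hF hw (smulW_lt hF hw hj))
      (by rw [vec_smulW hF hw, vec_smulW hF hw, smul_smul]; exact h), ej2]

theorem ptVec_cover (x : Fin 6 → F) (hx0 : x ≠ 0) (hx : Cfsg.hermForm 6 F 2 x x = 0) :
    ∃ a, ∃ c : F, x = c • ptVec w a := by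
  obtain ⟨v, hv, rfl⟩ := vec_surjective hF hw x
  have hiso : isoOK v = true := by
    rw [herm_vec hF hw] at hx
    have h0 : el w (hLo v v) (hHi v v) = el w false false := hx.trans (by simp [el])
    obtain ⟨e1, e2⟩ := el_injective hF hw h0
    simp [isoOK, e1, e2]
  have hb := of_allFrom_zero cover_ok hv
  have hv0 : (v == 0) = false := beq_eq_false_iff_ne.2 fun e => hx0 (e ▸ vec_zero hF hw)
  simp only [coverVecOK, hiso, hv0, Bool.not_true, Bool.false_or, Bool.and_eq_true, Nat.blt_eq] at hb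
  obtain ⟨⟨hlt, hin⟩, hline⟩ := hb
  obtain ⟨c, -, hc⟩ := sameLine_spec hF hw hline
  exact ⟨⟨⟨_, hlt⟩, (inA_iff hlt).1 hin⟩, c, hc⟩

theorem exists_induces {v : ℕ} {u : List ℕ} (hd : (v, u) ∈ List.zip gVecs gWords) :
    ∃ (hu : evW ev u ∈ H) (A : Cfsg.SU 6 F 2), IsTvAt (vec w v) A ∧
      Induces (ptVec w) A (res ⟨evW ev u, hu⟩) := by
  have hg := gens_ok
  simp only [Bool.and_eq_true, List.all_eq_true] at hg
  have hb := hg.2 _ hd
  simp only [genCheck, Bool.and_eq_true, Nat.blt_eq, Bool.not_eq_true', beq_eq_false_iff_ne,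
    List.all_eq_true] at hb
  obtain ⟨⟨⟨⟨⟨hv, hv0⟩, hiso⟩, hlt⟩, hfix⟩, hsq⟩ := hb
  have hmemH : evW ev u ∈ H := mem_H_of_fix (by
    rw [phi_word u hlt]
    apply Fin.ext
    rw [Rep.netW_perm rep_valid]
    rw [Vec.testBit_applyNet (Rep.netOk_netW rep_valid u)] at hfix
    exact VCert.one_bit hfix)
  obtain ⟨A, hA⟩ := exists_tvAt hF (vec_ne_zero hF hw hv hv0) (vec_iso hF hw hiso)
  refine ⟨hmemH, A, hA, fun i => ?_⟩
  have hmv : allFrom 0 3510 (moveVecOK v u) = true :=
    mem_all_of_take_drop (f := fun d : ℕ × List ℕ => allFrom 0 3510 (moveVecOK d.1 d.2))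
      moves_ok0 moves_ok1 (v, u) hd
  have hb := of_allFrom_zero hmv (lt_of_lt_of_eq i.1.2 rfl : i.1.1 < 3510)
  simp only [moveVecOK, (inA_iff i.1.2).2 i.2, Bool.not_true, Bool.false_or, Bool.and_eq_true,
    Nat.blt_eq] at hb
  obtain ⟨⟨⟨hlt', hin⟩, hline⟩, hnet⟩ := hb
  set t := invT.get (tvCode v (codeT.get i.1.1)) with ht
  let j : Pts := ⟨⟨t, hlt'⟩, (inA_iff hlt').1 hin⟩
  have hj : res ⟨evW ev u, hmemH⟩ i = j := by
    have h1 : Vec.netPerm (rep.netW u) t = i.1.1 := by
      have e := congrArg (fun v => v.testBit t) (Nat.eq_of_beq_eq_true hnet)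
      simp only [Vec.testBit_applyNet (Rep.netOk_netW rep_valid u), Nat.one_shiftLeft,
        Nat.testBit_two_pow, decide_eq_decide] at e
      exact (e.2 trivial).symm
    have h2 : phi (evW ev u) j.1 = i.1 := by
      rw [phi_word u hlt]
      exact Fin.ext (by rw [Rep.netW_perm rep_valid]; exact h1)
    have h3 : evW ev u * evW ev u = 1 := by
      rw [← evW_append]
      exact eq_one_of_relsOK (by simpa using hlt) hsq
    refine Subtype.ext ?_
    rw [res_apply, ← h2, ← Equiv.Perm.mul_apply, ← map_mul, h3, map_one, Equiv.Perm.one_apply]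
  obtain ⟨c, hc, hce⟩ := sameLine_spec hF hw hline
  refine ⟨c, hc, ?_⟩
  rw [hj, hA.apply, ptVec, ← vec_tvCode hF hw]
  exact hce

/-- The action of the transpositions. -/
noncomputable def gSet : Set (Equiv.Perm Pts) :=
  {σ | ∃ d ∈ List.zip gVecs gWords, ∃ hu : evW ev d.2 ∈ H, σ = res ⟨evW ev d.2, hu⟩}

theorem exists_iso : Nonempty (Subgroup.closure gSet ≃* Cfsg.PSU 6 F 2) := by
  refine nonempty_mulEquiv_PSU (pts := ptVec w) hF (by norm_num) (ptVec_eq_smul hF hw)
    (ptVec_cover hF hw) ?_ ?_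
  · rintro σ ⟨⟨v, u⟩, hd, hu, rfl⟩
    obtain ⟨_, A, _, hA⟩ := exists_induces hF hw hd
    exact ⟨A, hA⟩
  intro K hK
  have hgen : ∀ k < 8, ∃ A : Cfsg.SU 6 F 2,
      IsTvAt (vec w (gVecs.getD k 0)) A ∧ QuotientGroup.mk A ∈ K := by
    intro k hk
    have hg := gens_ok
    simp only [Bool.and_eq_true, beq_iff_eq] at hg
    have hd : (gVecs.getD k 0, gWords.getD k []) ∈ List.zip gVecs gWords := by
      rw [List.mem_iff_getElem]
      refine ⟨k, by simp [List.length_zip, hg.1.1, hg.1.2, hk], ?_⟩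
      rw [List.getElem_zip, List.getD_eq_getElem _ _ (by omega), List.getD_eq_getElem _ _ (by omega)]
    obtain ⟨hu, A, hA, hind⟩ := exists_induces hF hw hd
    exact ⟨A, hA, hK _ ⟨_, hd, hu, rfl⟩ A hind⟩
  have hreach : ∀ t < 693, ∃ A : Cfsg.SU 6 F 2,
      IsTvAt (vec w (codeT.get (ordT.get t))) A ∧ QuotientGroup.mk A ∈ K := by
    intro t
    induction t using Nat.strong_induction_on with
    | _ t ih =>
      intro ht
      have hb := of_allFrom_zero reach_ok ht
      simp only [reachOK, Bool.and_eq_true, Bool.or_eq_true, Nat.blt_eq, beq_iff_eq] at hb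
      rcases hb.2 with ⟨-, hline⟩ | ⟨⟨hlt, hk⟩, hline⟩
      · obtain ⟨c, hc, hce⟩ := sameLine_spec hF hw hline
        obtain ⟨A, hA, hAK⟩ := hgen 0 (by norm_num)
        exact ⟨A, hce ▸ hA.scale hF hc, hAK⟩
      · obtain ⟨c, hc, hce⟩ := sameLine_spec hF hw hline
        obtain ⟨A, hA, hAK⟩ := hgen _ hk
        obtain ⟨B, hB, hBK⟩ := ih _ hlt (by omega)
        refine ⟨A * B * A⁻¹, ?_, K.mul_mem (K.mul_mem hAK hBK) (K.inv_mem hAK)⟩
        have := (hB.conj hF A).scale hF hc
        rwa [hA.apply, ← vec_tvCode hF hw, ← hce] at this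
  let T : Set (Cfsg.PSU 6 F 2) := QuotientGroup.mk '' tvSet F
  have hTK : T ⊆ K := by
    rintro _ ⟨B, ⟨x, hx⟩, rfl⟩
    obtain ⟨a, c, rfl⟩ := ptVec_cover hF hw x hx.1 hx.2.1
    have hb := of_allFrom_zero pos_ok (lt_of_lt_of_eq a.1.2 rfl : a.1.1 < 3510)
    simp only [posOK, (inA_iff a.1.2).2 a.2, Bool.not_true, Bool.false_or, Bool.and_eq_true,
      Nat.blt_eq, beq_iff_eq] at hb
    obtain ⟨A, hA, hAK⟩ := hreach _ hb.1
    rw [hb.2] at hA
    have hc : c ≠ 0 := fun e => hx.1 (by rw [e, zero_smul])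
    have hA' := hA.scale hF hc
    rwa [hx.unique hF hA']
  have hnorm : (Subgroup.closure T).Normal := ⟨fun g hg s => by
    induction hg using Subgroup.closure_induction with
    | mem y hy =>
      obtain ⟨B, ⟨x, hx⟩, rfl⟩ := hy
      obtain ⟨s, rfl⟩ := QuotientGroup.mk_surjective s
      exact Subgroup.subset_closure ⟨s * B * s⁻¹, ⟨_, hx.conj hF s⟩, rfl⟩
    | one => rw [mul_one, mul_inv_cancel]; exact Subgroup.one_mem _
    | mul a b _ _ iha ihb =>
      rw [show s * (a * b) * s⁻¹ = s * a * s⁻¹ * (s * b * s⁻¹) by group]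
      exact Subgroup.mul_mem _ iha ihb
    | inv a _ ih =>
      rw [show s * a⁻¹ * s⁻¹ = (s * a * s⁻¹)⁻¹ by group]
      exact Subgroup.inv_mem _ ih⟩
  have hsimple := psu_isSimpleGroup (n := 6) hF (by norm_num) (by norm_num)
  rcases IsSimpleGroup.eq_bot_or_eq_top_of_normal _ hnorm with h | h
  · exfalso
    obtain ⟨A, hA, -⟩ := hgen 0 (by norm_num)
    have h1 : (QuotientGroup.mk A : Cfsg.PSU 6 F 2) = 1 :=
      Subgroup.mem_bot.1 (h ▸ Subgroup.subset_closure ⟨A, ⟨_, hA⟩, rfl⟩)
    refine hA.ne_one hF (center_eq_one_of_fix hF ((QuotientGroup.eq_one_iff _).1 h1) hA.1 ?_)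
    rw [hA.apply, hA.2.1, zero_smul, add_zero]
  · exact top_le_iff.1 (h ▸ (Subgroup.closure_le K).2 hTK)

end Model

end CfsgLib.Presented.Fi22Unitary
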